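-- Connectedness of closed fibres from the theorem on formal functions
import Groth.Agent.LeadFF.Limit
import Groth.Agent.H10Coh.Pn.Results
import Groth.Prelude.Def_ClSub2

/-!
# Zariski connectedness over a Noetherian local base

If `X` is proper over a Noetherian local ring `A` and every global function comes from `A`, then
the closed fibre is preconnected.
-/

set_option autoImplicit false
set_option linter.style.haveILetI false
universe u

open AlgebraicGeometry CategoryTheory CategoryTheory.Limits TopologicalSpace Opposite IsLocalRing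

namespace Groth.Agent.H28NT

open Groth.Agent.LeadFF Groth.Agent.H10Coh

theorem HH0Equiv_map {X : Scheme.{u}} {M N : X.Modules} (φ : M ⟶ N) (x : Coh.HH X M 0) :
    HH0Equiv N (Hm φ 0 x) = φ.app ⊤ (HH0Equiv M x) := by
  change H0Equiv (sh N) ⊤ (topEquiv (sh N) 0 (Sheaf.H.map ((shF X).map φ) 0 x)) = _
  rw [topEquiv_map]
  exact H0Equiv_map (F := sh M) (G := sh N) ((shF X).map φ) _

variable {A : Type u} [CommRing A] {X : Scheme.{u}} [X.Over (Spec (CommRingCat.of A))]

theorem mem_basicOpen_toGlobal_iff (x : X) (a : A) :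
    x ∈ X.basicOpen (Coh.toGlobal (X ↘ Spec (CommRingCat.of A)) a) ↔
      a ∉ ((X ↘ Spec (CommRingCat.of A)).base x).asIdeal := by
  have h : (X ↘ Spec (CommRingCat.of A)) ⁻¹ᵁ (PrimeSpectrum.basicOpen a) =
      X.basicOpen (Coh.toGlobal (X ↘ Spec (CommRingCat.of A)) a) := by
    exact (congrArg (fun U => (X ↘ Spec (CommRingCat.of A)) ⁻¹ᵁ U) (basicOpen_eq_of_affine
      (R := CommRingCat.of A) a).symm).trans (Scheme.preimage_basicOpen _ _)
  rw [← h]
  rfl

/-- Sections of a quotient by `I ^ n` vanish where some element of `I` is invertible. -/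
theorem section_modPow_eq_zero (I : Ideal A) (n : ℕ) (M : X.Modules) {V : X.Opens}
    (hV : ∀ x ∈ V, ∃ a ∈ I, x ∈ X.basicOpen (Coh.toGlobal (X ↘ Spec (CommRingCat.of A)) a))
    (s : Γ(Formal.modPow I n M, V)) : s = 0 := by
  choose a ha hmem using hV
  refine TopCat.Sheaf.eq_of_locally_eq' (H10Coh.sheafOf (Formal.modPow I n M))
    (fun x : V => V ⊓ X.basicOpen (Coh.toGlobal (X ↘ Spec (CommRingCat.of A)) (a x.1 x.2))) V
    (fun x => homOfLE inf_le_left) (fun x hx => Opens.mem_iSup.2 ⟨⟨x, hx⟩, hx, hmem x hx⟩) _ _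
    fun x => ?_
  let W : X.Opens := V ⊓ X.basicOpen (Coh.toGlobal (X ↘ Spec (CommRingCat.of A)) (a x.1 x.2))
  let s' : Γ(Formal.modPow I n M, W) := (Formal.modPow I n M).presheaf.map (homOfLE inf_le_left).op s
  show s' = (Formal.modPow I n M).presheaf.map (homOfLE inf_le_left).op 0
  rw [map_zero]
  have hu : IsUnit (scal (X ↘ Spec (CommRingCat.of A)) W (a x.1 x.2)) := by
    have h := RingedSpace.isUnit_res_basicOpen X.toLocallyRingedSpace.toRingedSpace
      (Coh.toGlobal (X ↘ Spec (CommRingCat.of A)) (a x.1 x.2) : Γ(X, ⊤))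
    have h2 := h.map (X.presheaf.map (homOfLE (inf_le_right : W ≤ X.basicOpen
      (Coh.toGlobal (X ↘ Spec (CommRingCat.of A)) (a x.1 x.2)))).op).hom
    convert h2 using 1
    exact (ConcreteCategory.congr_hom (X.presheaf.map_comp
      (homOfLE (le_top : X.basicOpen (Coh.toGlobal (X ↘ Spec (CommRingCat.of A)) (a x.1 x.2)) ≤ ⊤)).op
      (homOfLE (inf_le_right : W ≤ X.basicOpen (Coh.toGlobal (X ↘ Spec (CommRingCat.of A)) (a x.1 x.2)))).op)
      (Coh.toGlobal (X ↘ Spec (CommRingCat.of A)) (a x.1 x.2) : Γ(X, ⊤)) :)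
  have hz : Formal.smulMod A (Formal.modPow I n M) (a x.1 x.2 ^ n) = 0 := by
    haveI : Epi (Formal.modPowπ I n M) := ⟨fun g h w => coequalizer.hom_ext w⟩
    rw [← cancel_epi (Formal.modPowπ I n M), comp_zero, smulMod_natural]
    exact smulMod_π I (Ideal.pow_mem_pow (ha x.1 x.2) n) M
  have h0 := congrArg (fun φ => φ.app W s') hz
  simp only [smulMod_app, map_pow] at h0
  obtain ⟨v, hv⟩ := hu.pow n
  rw [← hv] at h0
  calc s' = (↑v⁻¹ : Γ(X, W)) • ((v : Γ(X, W)) • s') := by rw [smul_smul, Units.inv_mul, one_smul]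
    _ = (↑v⁻¹ : Γ(X, W)) • 0 := congrArg _ h0
    _ = 0 := smul_zero _

/-- Evaluation at a point of the closed fibre. -/
noncomputable def evalAt (z : X) : Coh.structureModule X ⟶
    (Scheme.Modules.pushforward (X.fromSpecResidueField z)).obj
      (Coh.structureModule (Spec (X.residueField z))) :=
  ClSub.unitToPush (X.fromSpecResidueField z)

variable (I : Ideal A)

theorem smulFamily_evalAt (z : X) (hz : I ≤ ((X ↘ Spec (CommRingCat.of A)).base z).asIdeal) (n : ℕ) :
    Formal.smulFamily (I ^ (n + 1)) (Coh.structureModule X) ≫ evalAt z = 0 := by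
  refine Sigma.hom_ext _ _ fun a => ?_
  rw [Formal.smulFamily, Sigma.ι_desc_assoc, comp_zero]
  refine hom_ext_sections _ _ fun V s => ?_
  let g := X.fromSpecResidueField z
  let r : Γ(X, ⊤) := Coh.toGlobal (X ↘ Spec (CommRingCat.of A)) a.1
  have hg : g.app ⊤ r = 0 := by
    rw [← basicOpen_eq_bot_iff]
    refine TopologicalSpace.Opens.ext (Set.eq_empty_iff_forall_notMem.2 fun w hw => ?_)
    rw [← Scheme.preimage_basicOpen] at hw
    have hw' : g.base w ∈ X.basicOpen r := hw
    rw [Scheme.fromSpecResidueField_apply, mem_basicOpen_toGlobal_iff] at hw'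
    exact hw' (hz (Ideal.pow_le_self (by omega) a.2))
  show g.app V ((Formal.smulMod A (Coh.structureModule X) a.1).app V s) = 0
  rw [smulMod_app]
  show g.app V (X.presheaf.map (homOfLE (le_top : V ≤ ⊤)).op r * (show Γ(X, V) from s)) = 0
  rw [map_mul, ← CategoryTheory.comp_apply, g.naturality, CategoryTheory.comp_apply, hg, map_zero,
    zero_mul]

/-- Evaluation at a point of the closed fibre, on the quotient by `I ^ (n + 1)`. -/
noncomputable def evalMod (z : X) (hz : I ≤ ((X ↘ Spec (CommRingCat.of A)).base z).asIdeal) (n : ℕ) :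
    Formal.modPow I (n + 1) (Coh.structureModule X) ⟶
      (Scheme.Modules.pushforward (X.fromSpecResidueField z)).obj
        (Coh.structureModule (Spec (X.residueField z))) :=
  cokernel.desc _ _ (smulFamily_evalAt I z hz n)

theorem evalMod_π (z : X) (hz : I ≤ ((X ↘ Spec (CommRingCat.of A)).base z).asIdeal) (n : ℕ) (V : X.Opens)
    (s : Γ(X, V)) :
    (evalMod I z hz n).app V ((Formal.modPowπ I (n + 1) (Coh.structureModule X)).app V s) =
      (X.fromSpecResidueField z).app V s :=
  congrArg (fun φ => φ.app V s) (cokernel.π_desc _ _ (smulFamily_evalAt I z hz n))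

/-- The closed fibre of a proper scheme over a Noetherian local ring whose global functions come
from the base is preconnected. -/
theorem isPreconnected_closedFibre [IsLocalRing A] [IsNoetherianRing A]
    [IsProper (X ↘ Spec (CommRingCat.of A))]
    (hsurj : Function.Surjective (Coh.toGlobal (X ↘ Spec (CommRingCat.of A)))) :
    _root_.IsPreconnected ((X ↘ Spec (CommRingCat.of A)).base ⁻¹' {closedPoint A}) := by
  let str := X ↘ Spec (CommRingCat.of A)
  let F : Set X := str.base ⁻¹' {closedPoint A}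
  have hF : IsClosed F := (IsLocalRing.isClosed_singleton_closedPoint A).preimage str.base.hom.continuous
  by_contra hnot
  rw [isPreconnected_closed_iff] at hnot
  push Not at hnot
  obtain ⟨t, t', ht, ht', hsub, ⟨z₀, hz₀⟩, ⟨z₁, hz₁⟩, hdis⟩ := hnot
  let Z₀ : Set X := F ∩ t
  let Z₁ : Set X := F ∩ t'
  have hd : ∀ x, x ∈ Z₀ → x ∈ Z₁ → False := fun x h h' =>
    Set.eq_empty_iff_forall_notMem.1 hdis x ⟨h.1, h.2, h'.2⟩
  let V : Bool → X.Opens := fun b => cond b ⟨Z₁ᶜ, (hF.inter ht').isOpen_compl⟩ ⟨Z₀ᶜ, (hF.inter ht).isOpen_compl⟩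
  have hcov : (⊤ : X.Opens) ≤ iSup V := fun x _ => by
    by_cases hx : x ∈ Z₁
    · exact Opens.mem_iSup.2 ⟨false, fun h => hd x h hx⟩
    · exact Opens.mem_iSup.2 ⟨true, hx⟩
  have hm : ∀ x, x ∉ F → ∃ a ∈ maximalIdeal A, x ∈ X.basicOpen (Coh.toGlobal str a) := fun x hx => by
    by_contra h
    push Not at h
    refine hx (PrimeSpectrum.ext ((maximalIdeal.isMaximal A).eq_of_le (str.base x).isPrime.ne_top
      fun a ha => ?_).symm)
    by_contra hna
    exact h a ha ((mem_basicOpen_toGlobal_iff x a).2 hna)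
  have hoff : ∀ x ∈ V true ⊓ V false, x ∉ F := fun x hx hxF =>
    (hsub hxF).elim (fun h => hx.2 ⟨hxF, h⟩) fun h => hx.1 ⟨hxF, h⟩
  let O := Coh.structureModule X
  let I := maximalIdeal A
  have key : ∀ n, ∃! e : Γ(Formal.modPow I (n + 1) O, ⊤),
      ∀ b, (Formal.modPow I (n + 1) O).presheaf.map (homOfLE (le_top : V b ≤ ⊤)).op e =
        (Formal.modPowπ I (n + 1) O).app (V b) (cond b (1 : Γ(X, V b)) 0) := by
    intro n
    refine TopCat.Sheaf.existsUnique_gluing' (H10Coh.sheafOf (Formal.modPow I (n + 1) O)) V ⊤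
      (fun b => homOfLE le_top) hcov
      (fun b => (Formal.modPowπ I (n + 1) O).app (V b) (cond b (1 : Γ(X, V b)) 0)) ?_
    intro b b'
    cases b <;> cases b'
    · rfl
    · exact ((section_modPow_eq_zero I (n + 1) O
        (fun x (hx : x ∈ V false ⊓ V true) => hm x (hoff x ⟨hx.2, hx.1⟩)) _).trans
        (section_modPow_eq_zero I (n + 1) O (fun x (hx : x ∈ V false ⊓ V true) => hm x (hoff x ⟨hx.2, hx.1⟩)) _).symm :)
    · exact ((section_modPow_eq_zero I (n + 1) O
        (fun x (hx : x ∈ V true ⊓ V false) => hm x (hoff x ⟨hx.1, hx.2⟩)) _).trans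
        (section_modPow_eq_zero I (n + 1) O (fun x (hx : x ∈ V true ⊓ V false) => hm x (hoff x ⟨hx.1, hx.2⟩)) _).symm :)
    · rfl
  choose e he huniq using key
  have hc : ∀ n, Formal.HHmodPowTrans I O 0 n ((HH0Equiv _).symm (e (n + 1))) = (HH0Equiv _).symm (e n) := by
    intro n
    refine (HH0Equiv _).injective ?_
    rw [AddEquiv.apply_symm_apply]
    refine (HH0Equiv_map (Formal.modPowTrans I (n + 1) O) _).trans ?_
    rw [AddEquiv.apply_symm_apply]
    refine huniq n _ fun b => ?_
    refine (congr($((Scheme.Modules.Hom.mapPresheaf (Formal.modPowTrans I (n + 1) O)).naturality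
      (homOfLE (le_top : V b ≤ ⊤)).op) (e (n + 1)))).symm.trans ?_
    show (Formal.modPowTrans I (n + 1) O).app (V b)
      ((Formal.modPow I (n + 1 + 1) O).presheaf.map (homOfLE le_top).op (e (n + 1))) = _
    rw [he (n + 1) b]
    exact congrArg (fun φ => φ.app (V b) (cond b (1 : Γ(X, V b)) 0)) (Formal.modPowπ_trans I (n + 1) O)
  obtain ⟨x, hx⟩ := fromCompletion_surjective I O 0 (properCoh_of_isProper _ (H10Coh.isCoh_structureModule' X))
    ⟨fun n => (HH0Equiv _).symm (e n), hc⟩
  obtain ⟨f, rfl⟩ := AdicCompletion.mk_surjective I _ x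
  have h0 : Formal.toHHmodPow I O 0 0 (f 1) = (HH0Equiv _).symm (e 0) :=
    congrFun (congrArg Subtype.val hx) 0
  obtain ⟨a, ha⟩ := hsurj (HH0Equiv O (f 1))
  have h1 : (Formal.modPowπ I 1 O).app ⊤ (Coh.toGlobal str a : Γ(X, ⊤)) = e 0 := by
    have h := congrArg (HH0Equiv _) h0
    rw [AddEquiv.apply_symm_apply] at h
    rw [← h, ha]
    exact (HH0Equiv_map _ _).symm
  have heval : ∀ (z : X) (hz : z ∈ F) (b : Bool),
      (X.fromSpecResidueField z).app (V b) (X.presheaf.map (homOfLE (le_top : V b ≤ ⊤)).op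
        (Coh.toGlobal str a : Γ(X, ⊤))) =
      (X.fromSpecResidueField z).app (V b) (cond b 1 0) := by
    intro z hz b
    have hzI : I ≤ (str.base z).asIdeal := by
      rw [show str.base z = closedPoint A from hz]
      exact le_rfl
    rw [← evalMod_π I z hzI 0, ← evalMod_π I z hzI 0]
    refine congrArg ((evalMod I z hzI 0).app (V b)) ?_
    refine (congr($((Scheme.Modules.Hom.mapPresheaf (Formal.modPowπ I 1 O)).naturality
      (homOfLE (le_top : V b ≤ ⊤)).op) (Coh.toGlobal str a : Γ(X, ⊤)))).trans ?_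
    refine (congrArg ((Formal.modPow I 1 O).presheaf.map (homOfLE (le_top : V b ≤ ⊤)).op) h1).trans ?_
    exact he 0 b
  have hpre : ∀ (z : X) (b : Bool), z ∈ V b → Nontrivial Γ(Spec (X.residueField z), (X.fromSpecResidueField z) ⁻¹ᵁ V b) := by
    intro z b hzb
    haveI : Nonempty ((X.fromSpecResidueField z) ⁻¹ᵁ V b : Opens _) :=
      ⟨⟨IsLocalRing.closedPoint _, by
        show (X.fromSpecResidueField z).base _ ∈ V b
        exact (congrArg (· ∈ V b) (Scheme.fromSpecResidueField_apply z (IsLocalRing.closedPoint (X.residueField z)))).mpr hzb⟩⟩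
    infer_instance
  by_cases hu : a ∈ maximalIdeal A
  · -- the function vanishes on the closed fibre
    have hz : z₀ ∈ V true := fun h => hd z₀ hz₀ h
    have h := heval z₀ hz₀.1 true
    simp only [cond_true, map_one] at h
    have hzero : (X.fromSpecResidueField z₀).app (V true) (X.presheaf.map (homOfLE (le_top : V true ≤ ⊤)).op
        (Coh.toGlobal str a : Γ(X, ⊤))) = 0 := by
      have hz0 : I ≤ (str.base z₀).asIdeal := by
        rw [show str.base z₀ = closedPoint A from hz₀.1]
        exact le_rfl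
      have hh := congrArg (fun φ => (Sigma.ι (fun _ : (I ^ (0 + 1) : Ideal A) => O) ⟨a, by rw [zero_add, pow_one]; exact hu⟩ ≫ φ).app
        (V true) (1 : Γ(X, V true))) (smulFamily_evalAt I z₀ hz0 0)
      simp only [Formal.smulFamily, Sigma.ι_desc_assoc, comp_zero] at hh
      refine Eq.trans ?_ hh
      show _ = (X.fromSpecResidueField z₀).app (V true)
        (scal str (V true) a * (1 : Γ(X, V true)))
      rw [mul_one]
      rfl
    haveI := hpre z₀ true hz
    exact zero_ne_one (hzero.symm.trans h)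
  · -- the function is a unit
    have hz : z₁ ∈ V false := fun h => hd z₁ h hz₁
    have h := heval z₁ hz₁.1 false
    simp only [cond_false, map_zero] at h
    haveI := hpre z₁ false hz
    have hunit : IsUnit a := by simpa using hu
    exact not_isUnit_zero (h ▸ (((hunit.map (Coh.toGlobal str)).map
      (X.presheaf.map (homOfLE (le_top : V false ≤ ⊤)).op).hom).map
        ((X.fromSpecResidueField z₁).app (V false)).hom))

end Groth.Agent.H28NT
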