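-- Global functions of proper flat models
import Groth.Agent.H28NT.Connectedness
import Groth.Agent.H28Neron.Ext
import Groth.Prelude.Def_Models

/-!
# Global functions of a proper flat scheme over a discrete valuation ring
-/

set_option autoImplicit false
set_option linter.style.haveILetI false
universe u

open AlgebraicGeometry CategoryTheory CategoryTheory.Limits TopologicalSpace Opposite IsLocalRing

namespace Groth.Agent.H28NT

theorem finite_toGlobal (R : Type u) [CommRing R] [IsNoetherianRing R] {X : Scheme.{u}}
    (p : X ⟶ Spec (CommRingCat.of R)) [IsProper p] :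
    (show R →+* Γ(X, ⊤) from Coh.toGlobal p).Finite := by
  letI : X.Over (Spec (CommRingCat.of R)) := ⟨p⟩
  haveI : IsProper (X ↘ Spec (CommRingCat.of R)) := ‹IsProper p›
  haveI := H10Coh.finite_HH_proper R X (Coh.structureModule X) (H10Coh.isCoh_structureModule' X) 0
  letI : Algebra R Γ(X, ⊤) := (Coh.toGlobal p).toAlgebra
  let e : Coh.HH X (Coh.structureModule X) 0 ≃ₗ[R] Γ(X, ⊤) :=
    { H10Coh.HH0Equiv (Coh.structureModule X) with
      map_smul' := fun c x =>
        (H10Coh.HH0Equiv_smul (Coh.structureModule X) (Coh.toGlobal p c) x).trans rfl }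
  exact Module.Finite.equiv e

/-- If the generic fibre of a proper flat scheme over a discrete valuation ring has only the
constants as global functions, then so does the scheme. -/
theorem toGlobal_surjective_of_genericFibre (R : Type u) [CommRing R] [IsDomain R]
    [IsDiscreteValuationRing R] {X C : Scheme.{u}} (p : X ⟶ Spec (CommRingCat.of R)) [IsProper p] [Flat p]
    (f : C ⟶ Spec (CommRingCat.of (FractionRing R))) (g : C ⟶ X)
    (hg : IsPullback g f p (Spec.map (CommRingCat.ofHom (algebraMap R (FractionRing R)))))
    (hf : Function.Surjective f.appTop) :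
    Function.Surjective (Coh.toGlobal p) := by
  let K := FractionRing R
  haveI : IsSchemeTheoreticallyDominant g := by
    have h : g = hg.isoPullback.hom ≫ pullback.fst p (Neron.genPt R) := hg.isoPullback_hom_fst.symm
    rw [h]
    infer_instance
  haveI : QuasiCompact g := by
    have h : g = hg.isoPullback.hom ≫ pullback.fst p (Neron.genPt R) := hg.isoPullback_hom_fst.symm
    rw [h]
    infer_instance
  let φ : K →+* Γ(C, ⊤) := Coh.toGlobal f
  have hφ : Function.Surjective φ := hf.comp (Scheme.ΓSpecIso (CommRingCat.of K)).commRingCatIsoToRingEquiv.symm.surjective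
  have hcomm : ∀ r : R, g.appTop (Coh.toGlobal p r) = φ (algebraMap R K r) := by
    intro r
    have h1 : g ≫ p = f ≫ Spec.map (CommRingCat.ofHom (algebraMap R K)) := hg.w
    show (p.appTop ≫ g.appTop) ((Scheme.ΓSpecIso (CommRingCat.of R)).inv r) = _
    rw [← Scheme.Hom.comp_appTop, h1, Scheme.Hom.comp_appTop]
    exact congrArg f.appTop (ConcreteCategory.congr_hom
      (Scheme.ΓSpecIso_inv_naturality (CommRingCat.ofHom (algebraMap R K))) r).symm
  intro s
  by_cases hC : Subsingleton Γ(C, ⊤)
  · exact ⟨0, g.app_injective ⊤ (Subsingleton.elim (α := Γ(C, ⊤)) _ _)⟩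
  haveI : Nontrivial Γ(C, ⊤) := not_subsingleton_iff_nontrivial.1 hC
  obtain ⟨P, hPm, hP⟩ := (finite_toGlobal R p).to_isIntegral s
  obtain ⟨c, hc⟩ := hφ (g.appTop s)
  have hci : IsIntegral R c := by
    refine ⟨P, hPm, φ.injective ?_⟩
    rw [map_zero, Polynomial.hom_eval₂, hc]
    have h0 := congrArg g.appTop hP
    rw [map_zero] at h0
    rw [← h0]
    refine Eq.trans ?_ (Polynomial.hom_eval₂ P (Coh.toGlobal p) g.appTop.hom s).symm
    exact congrArg (fun ψ => Polynomial.eval₂ ψ (g.appTop s) P) (RingHom.ext fun r => (hcomm r).symm)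
  obtain ⟨r, rfl⟩ := IsIntegrallyClosed.isIntegral_iff.1 hci
  exact ⟨r, g.app_injective ⊤ ((hcomm r).trans hc)⟩

theorem connectedSpace_specialFibre (R : Type u) [CommRing R] [IsDomain R]
    [IsDiscreteValuationRing R] {X : Scheme.{u}} (p : X ⟶ Spec (CommRingCat.of R)) [IsProper p]
    (hsurj : Function.Surjective (Coh.toGlobal p)) (hne : (Set.range p.base).Nonempty) :
    ConnectedSpace ↥(Models.specialFibre R X p) := by
  letI : X.Over (Spec (CommRingCat.of R)) := ⟨p⟩
  haveI : IsProper (X ↘ Spec (CommRingCat.of R)) := ‹IsProper p›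
  let i := pullback.fst p (Spec.map (CommRingCat.ofHom (algebraMap R (ResidueField R))))
  haveI : IsClosedImmersion (Spec.map (CommRingCat.ofHom (algebraMap R (ResidueField R)))) :=
    IsClosedImmersion.spec_of_surjective _ residue_surjective
  have hrange : Set.range i.base = p.base ⁻¹' {closedPoint R} := by
    show Set.range (pullback.fst p (Spec.map (CommRingCat.ofHom (algebraMap R (ResidueField R))))).base = _
    rw [Scheme.Pullback.range_fst]
    refine congrArg _ (Set.ext fun z => ⟨?_, fun hz => ?_⟩)
    · rintro ⟨w, rfl⟩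
      exact comap_closedPoint_residue R w
    · exact ⟨closedPoint (ResidueField R), (comap_closedPoint_residue R _).trans hz.symm⟩
  have hpre : _root_.IsPreconnected (Set.range i.base) := hrange ▸ isPreconnected_closedFibre hsurj
  have hemb := (inferInstance : IsClosedImmersion i).isClosedEmbedding
  obtain ⟨z, x, rfl⟩ := hne
  obtain ⟨y, -, hy : p.base y = closedPoint R⟩ := p.isClosedMap.specializingMap
    (IsLocalRing.specializes_closedPoint (p.base x))
  obtain ⟨w, -⟩ : y ∈ Set.range i.base := hrange ▸ hy
  haveI : PreconnectedSpace ↥(Models.specialFibre R X p) :=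
    ⟨hemb.isInducing.isPreconnected_image.1 (show _root_.IsPreconnected _ from (Set.image_univ (f := i.base)).symm ▸ hpre)⟩
  exact ⟨⟨w⟩⟩
where
  comap_closedPoint_residue (R : Type u) [CommRing R] [IsDomain R] [IsDiscreteValuationRing R]
      (w : PrimeSpectrum (ResidueField R)) :
      PrimeSpectrum.comap (algebraMap R (ResidueField R)) w = closedPoint R := by
    refine PrimeSpectrum.ext ?_
    show Ideal.comap (algebraMap R (ResidueField R)) w.asIdeal = maximalIdeal R
    rw [show w.asIdeal = ⊥ from (Ideal.eq_bot_or_top w.asIdeal).resolve_right w.isPrime.ne_top]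
    exact ker_residue

end Groth.Agent.H28NT
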