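-- Lifting a group structure along a functor bijective on test morphisms
import Mathlib.CategoryTheory.Monoidal.Cartesian.Grp

/-!
# Lifting group objects

If `F : C ⥤ D` is bijective on morphisms into `N` from the objects in a class `P` stable under
products and containing `N` and the unit, a group structure on `F N` descends to `N`.
-/

set_option autoImplicit false
universe v v' u u'

open CategoryTheory MonoidalCategory CartesianMonoidalCategory
open scoped MonObj

namespace Groth.Agent.H28NT

variable {C : Type u} [Category.{v} C] [CartesianMonoidalCategory C]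
  {D : Type u'} [Category.{v'} D] [CartesianMonoidalCategory D] (F : C ⥤ D) (N : C)

/-- The descended group structure. -/
theorem exists_grpObj [GrpObj (F.obj N)] (P : C → Prop) (hunit : P (𝟙_ C)) (hN : P N)
    (htensor : ∀ X Y, P X → P Y → P (X ⊗ Y))
    (hbij : ∀ Y, P Y → Function.Bijective (fun g : Y ⟶ N => F.map g)) :
    Nonempty (GrpObj N) := by
  obtain ⟨e, he⟩ := (hbij _ hunit).2 (1 : F.obj (𝟙_ C) ⟶ F.obj N)
  obtain ⟨m, hm⟩ := (hbij _ (htensor _ _ hN hN)).2 (F.map (fst N N) * F.map (snd N N))
  obtain ⟨i, hi⟩ := (hbij _ hN).2 (F.map (𝟙 N))⁻¹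
  simp only at he hm hi
  have hmul : ∀ {Y : C} (a b : Y ⟶ N), F.map (lift a b ≫ m) = F.map a * F.map b := fun a b => by
    rw [F.map_comp, hm, MonObj.comp_mul, ← F.map_comp, ← F.map_comp, lift_fst, lift_snd]
  have hone : ∀ Y : C, F.map (toUnit Y ≫ e) = 1 := fun Y => by
    rw [F.map_comp, he, MonObj.comp_one]
  have hinv : ∀ {Y : C} (a : Y ⟶ N), F.map (a ≫ i) = (F.map a)⁻¹ := fun a => by
    rw [F.map_comp, hi, GrpObj.comp_inv, ← F.map_comp, Category.comp_id]
  refine ⟨{ one := e, mul := m, inv := i,
            one_mul := ?_, mul_one := ?_, mul_assoc := ?_, left_inv := ?_, right_inv := ?_ }⟩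
  · apply (hbij _ (htensor _ _ hunit hN)).1
    have h : e ▷ N = lift (toUnit _ ≫ e) (snd _ _) := by
      apply hom_ext
      · rw [whiskerRight_fst, lift_fst]; congr 1; exact toUnit_unique _ _
      · simp
    simp only [h, hmul, hone, one_mul, leftUnitor_hom]
  · apply (hbij _ (htensor _ _ hN hunit)).1
    have h : N ◁ e = lift (fst _ _) (toUnit _ ≫ e) := by
      apply hom_ext
      · simp
      · rw [whiskerLeft_snd, lift_snd]; congr 1; exact toUnit_unique _ _
    simp only [h, hmul, hone, mul_one, rightUnitor_hom]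
  · apply (hbij _ (htensor _ _ (htensor _ _ hN hN) hN)).1
    have h1 : m ▷ N = lift (fst _ _ ≫ m) (snd _ _) := by
      apply hom_ext <;> simp
    have h2 : (α_ N N N).hom ≫ N ◁ m = lift (fst _ _ ≫ fst _ _) (lift (fst _ _ ≫ snd _ _) (snd _ _) ≫ m) := by
      apply hom_ext
      · simp
      · rw [Category.assoc, whiskerLeft_snd, lift_snd, ← Category.assoc]
        congr 1
        apply hom_ext <;> simp
    simp only [h1, reassoc_of% h2, hmul]
    rw [F.map_comp, hm, MonObj.comp_mul, ← F.map_comp, ← F.map_comp, mul_assoc]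
  · apply (hbij _ hN).1
    show F.map (lift i (𝟙 N) ≫ m) = F.map (toUnit N ≫ e)
    rw [hmul, hone, hi, inv_mul_cancel]
  · apply (hbij _ hN).1
    show F.map (lift (𝟙 N) i ≫ m) = F.map (toUnit N ≫ e)
    rw [hmul, hone, hi, mul_inv_cancel]

end Groth.Agent.H28NT
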