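-- Good reduction and properness of the Néron model
import Groth.Agent.H28NT.GlobalFunctions
import Groth.Agent.H28NT.LiftGrp
import Groth.Agent.S18483
import Groth.Agent.S1537
import Groth.Agent.H22Alg.GlobalFunctions
import Groth.Prelude.Def_Neron

/-!
# Proper Néron models have geometrically connected fibres
-/

set_option autoImplicit false
set_option linter.style.haveILetI false
set_option linter.unusedSectionVars false
universe u

open CategoryTheory CategoryTheory.Limits AlgebraicGeometry IsLocalRing
open CategoryTheory.MonoidalCategory CategoryTheory.CartesianMonoidalCategory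
open scoped CategoryTheory.MonObj

namespace Groth.Agent.H28NT

/-- A connected scheme over a field with a rational point is geometrically connected. -/
theorem geometricallyConnected_of_section {k : Type u} [Field k] {X : Scheme.{u}}
    (f : X ⟶ Spec (CommRingCat.of k)) [ConnectedSpace X]
    (s : Spec (CommRingCat.of k) ⟶ X) (hs : s ≫ f = 𝟙 _) : GeometricallyConnected f := by
  letI : X.Over (Spec (CommRingCat.of k)) := ⟨f⟩
  let x := s.base (closedPoint k)
  refine Groth.Agent.S1537.result k X x fun a _ => ⟨X.descResidueField (Scheme.stalkClosedPointTo s) a, ?_⟩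
  refine (X.descResidueField (Scheme.stalkClosedPointTo s)).hom.injective ?_
  show X.descResidueField (Scheme.stalkClosedPointTo s)
    (X.residue x (X.presheaf.germ ⊤ x trivial (Coh.toGlobal f _ : Γ(X, ⊤)))) = _
  rw [← CategoryTheory.comp_apply (X.residue x), Scheme.residue_descResidueField]
  have h2 := ConcreteCategory.congr_hom (Scheme.germ_stalkClosedPointTo s ⊤ trivial)
    (Coh.toGlobal f (X.descResidueField (Scheme.stalkClosedPointTo s) a) : Γ(X, ⊤))
  refine h2.trans ?_
  show (Scheme.ΓSpecIso (CommRingCat.of k)).hom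
    ((Spec (CommRingCat.of k)).presheaf.map _ (s.appTop (f.appTop
      ((Scheme.ΓSpecIso (CommRingCat.of k)).inv _)))) = _
  rw [← CategoryTheory.comp_apply f.appTop, ← Scheme.Hom.comp_appTop, hs]
  refine Eq.trans ?_ (ConcreteCategory.congr_hom (Scheme.ΓSpecIso (CommRingCat.of k)).inv_hom_id _)
  exact congrArg _ (ConcreteCategory.congr_hom ((Spec (CommRingCat.of k)).presheaf.map_id _) _)

/-- A proper connected reduced scheme over a field with a rational point has only constant
global functions. -/
theorem appTop_surjective_of_section {k : Type u} [Field k] {X : Scheme.{u}}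
    (f : X ⟶ Spec (CommRingCat.of k)) [UniversallyClosed f] [ConnectedSpace X] [IsReduced X]
    (s : Spec (CommRingCat.of k) ⟶ X) (hs : s ≫ f = 𝟙 _) : Function.Surjective f.appTop := by
  letI := (H22Alg.GlobalFunctions.isField_of_universallyClosed f).toField
  haveI : Nontrivial Γ(Spec (CommRingCat.of k), ⊤) :=
    (Scheme.ΓSpecIso (CommRingCat.of k)).commRingCatIsoToRingEquiv.toEquiv.nontrivial
  intro a
  refine ⟨s.appTop a, s.appTop.hom.injective ?_⟩
  show (f.appTop ≫ s.appTop) (s.appTop a) = s.appTop a
  rw [← Scheme.Hom.comp_appTop, hs, Scheme.Hom.id_appTop]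
  rfl

variable {R : Type u} [CommRing R] [IsDomain R] [IsDiscreteValuationRing R]

theorem connectedSpace_of_range {N : Scheme.{u}} (p : N ⟶ Spec (CommRingCat.of R)) {k' : Type u}
    [Field k'] (t : Spec (CommRingCat.of k') ⟶ Spec (CommRingCat.of R))
    (hgen : GeometricallyConnected (pullback.snd p (Neron.genPt R)))
    (hcl : GeometricallyConnected
      (pullback.snd p (Spec.map (CommRingCat.ofHom (algebraMap R (ResidueField R)))))) :
    ConnectedSpace ↥(pullback p t) := by
  obtain ⟨φ, rfl⟩ : ∃ φ : R →+* k', Spec.map (CommRingCat.ofHom φ) = t :=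
    ⟨(Spec.preimage t).hom, Spec.map_preimage t⟩
  have key : ∀ (L : Type u) [Field L] (a : R →+* L) (b : L →+* k'), b.comp a = φ →
      GeometricallyConnected (pullback.snd p (Spec.map (CommRingCat.ofHom a))) →
      ConnectedSpace ↥(pullback p (Spec.map (CommRingCat.ofHom φ))) := by
    intro L _ a b hab hL
    haveI := hL
    haveI := GeometricallyConnected.geometrically_connectedSpace
      (f := pullback.snd p (Spec.map (CommRingCat.ofHom a))) (Spec.map (CommRingCat.ofHom b)) _ _
      (.of_hasPullback _ _)
    have e : pullback (pullback.snd p (Spec.map (CommRingCat.ofHom a))) (Spec.map (CommRingCat.ofHom b)) ≅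
        pullback p (Spec.map (CommRingCat.ofHom φ)) :=
      pullbackLeftPullbackSndIso p _ _ ≪≫ pullback.congrHom rfl
        (by rw [← Spec.map_comp, ← CommRingCat.ofHom_comp, hab])
    exact e.hom.homeomorph.connectedSpace_iff.mp inferInstance
  by_cases h : RingHom.ker φ = ⊥
  · have hinj : Function.Injective φ := (RingHom.injective_iff_ker_eq_bot φ).2 h
    exact key (FractionRing R) (algebraMap R (FractionRing R)) (IsFractionRing.lift hinj)
      (RingHom.ext fun r => IsFractionRing.lift_algebraMap hinj r) hgen
  · have hm : RingHom.ker φ = maximalIdeal R :=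
      eq_maximalIdeal (IsPrime.to_maximal_ideal (hpi := RingHom.ker_isPrime φ) h)
    exact key (ResidueField R) (algebraMap R (ResidueField R))
      (Ideal.Quotient.lift (maximalIdeal R) φ fun r hr => by rw [← hm] at hr; exact hr)
      (RingHom.ext fun r => rfl) hcl

/-- A proper Néron model of a geometrically connected scheme has connected geometric fibres. -/
theorem connectedSpace_geometric_fibre {N : Over (Spec (CommRingCat.of R))} [IsProper N.hom] [Flat N.hom]
    [GeometricallyIntegral ((Neron.genericFibre R).obj N).hom]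
    (e : Spec (CommRingCat.of R) ⟶ N.left) (he : e ≫ N.hom = 𝟙 _)
    (k' : Type u) [Field k'] (t : Spec (CommRingCat.of k') ⟶ Spec (CommRingCat.of R)) :
    ConnectedSpace ↥(pullback N.hom t) := by
  have hH0 : Function.Surjective ((Neron.genericFibre R).obj N).hom.appTop := by
    haveI : GeometricallyIntegral (pullback.snd N.hom (Neron.genPt R)) := ‹_›
    haveI : Subsingleton ↥(Spec (CommRingCat.of (FractionRing R))) :=
      inferInstanceAs (Subsingleton (PrimeSpectrum (FractionRing R)))
    haveI : IsIntegral (pullback N.hom (Neron.genPt R)) :=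
      GeometricallyIntegral.isIntegral_of_subsingleton (pullback.snd N.hom (Neron.genPt R))
    exact appTop_surjective_of_section (pullback.snd N.hom (Neron.genPt R))
      (pullback.lift (Neron.genPt R ≫ e) (𝟙 _) (by rw [Category.assoc, he, Category.comp_id, Category.id_comp]))
      (pullback.lift_snd _ _ _)
  refine connectedSpace_of_range N.hom t ?_ ?_
  · haveI : GeometricallyIntegral (pullback.snd N.hom (Neron.genPt R)) := ‹_›
    refine ⟨fun L _ y P fst snd hP => ?_⟩
    haveI := GeometricallyIntegral.geometrically_isIntegral y fst snd hP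
    infer_instance
  · haveI : ConnectedSpace ↥(pullback N.hom (Spec.map (CommRingCat.ofHom (algebraMap R (ResidueField R))))) :=
      connectedSpace_specialFibre R N.hom
        (toGlobal_surjective_of_genericFibre R N.hom ((Neron.genericFibre R).obj N).hom
          (pullback.fst N.hom (Neron.genPt R)) (IsPullback.of_hasPullback _ _) hH0)
        ⟨N.hom.base (e.base (closedPoint R)), _, rfl⟩
    exact geometricallyConnected_of_section _
      (pullback.lift (Spec.map (CommRingCat.ofHom (algebraMap R (ResidueField R))) ≫ e) (𝟙 _)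
        (by rw [Category.assoc, he, Category.comp_id, Category.id_comp]))
      (pullback.lift_snd _ _ _)

/-- Two Néron models of the same scheme are isomorphic. -/
theorem nonempty_iso_of_isNeronModelOf {N B : Over (Spec (CommRingCat.of R))}
    {A A' : Over (Spec (CommRingCat.of (FractionRing R)))} {e : (Neron.genericFibre R).obj N ≅ A}
    {e' : (Neron.genericFibre R).obj B ≅ A'} (hN : Neron.IsNeronModelOf R N A e)
    (hB : Neron.IsNeronModelOf R B A' e') (i : A' ≅ A) : Nonempty (B ≅ N) := by
  obtain ⟨f, hf⟩ := (hN.2.2.2.2 B hB.1).2 (e'.hom ≫ i.hom)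
  obtain ⟨g, hg⟩ := (hB.2.2.2.2 N hN.1).2 (e.hom ≫ i.inv)
  simp only at hf hg
  refine ⟨⟨f, g, (hB.2.2.2.2 B hB.1).1 ?_, (hN.2.2.2.2 N hN.1).1 ?_⟩⟩
  · show (Neron.genericFibre R).map (f ≫ g) ≫ e'.hom = _
    rw [Functor.map_comp, Category.assoc, hg, reassoc_of% hf]
    simp
  · show (Neron.genericFibre R).map (g ≫ f) ≫ e.hom = _
    rw [Functor.map_comp, Category.assoc, hf, reassoc_of% hg]
    simp

/-- The group law of the generic fibre extends to the Néron model. -/
theorem nonempty_grpObj_of_isNeronModelOf {N : Over (Spec (CommRingCat.of R))}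
    {A : Over (Spec (CommRingCat.of (FractionRing R)))} [GrpObj A]
    {e : (Neron.genericFibre R).obj N ≅ A} (hN : Neron.IsNeronModelOf R N A e) :
    Nonempty (GrpObj N) := by
  letI : GrpObj ((Neron.genericFibre R).obj N) := GrpObj.ofIso e.symm
  refine exists_grpObj (Neron.genericFibre R) N (fun Y => Smooth Y.hom) ?_ hN.1 ?_ fun Y hY => ?_
  · exact inferInstanceAs (Smooth (𝟙 _))
  · intro X Y hX hY
    haveI := hX
    haveI := hY
    exact inferInstanceAs (Smooth (pullback.fst X.hom Y.hom ≫ X.hom))
  · have h := hN.2.2.2.2 Y hY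
    refine ⟨fun a b hab => h.1 (congrArg (fun m => m ≫ e.hom) hab), fun m => ?_⟩
    obtain ⟨g, hg⟩ := h.2 (m ≫ e.hom)
    exact ⟨g, (cancel_mono e.hom).1 hg⟩

end Groth.Agent.H28NT
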