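-- Unramified extensions of discrete valuation rings with prescribed finite separable residue field
import Mathlib

/-!
# Monogenic unramified extensions of discrete valuation rings
-/

set_option autoImplicit false
set_option linter.style.haveILetI false
universe u

open IsLocalRing Polynomial

namespace Groth.Agent.H28NT

/-- A finite separable extension `K` of the residue field of a discrete valuation ring is the
residue field of a discrete valuation ring, finite free over it, in which a uniformizer stays one. -/
theorem exists_dvr_residueField (R : Type u) [CommRing R] [IsDomain R] [IsDiscreteValuationRing R]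
    (K : Type u) [Field K] [Algebra (ResidueField R) K] [FiniteDimensional (ResidueField R) K]
    [Algebra.IsSeparable (ResidueField R) K] :
    ∃ (S : Type u) (_ : CommRing S) (_ : IsDomain S) (_ : IsDiscreteValuationRing S) (_ : Algebra R S),
      Module.Finite R S ∧ Module.Free R S ∧
      (maximalIdeal R).map (algebraMap R S) = maximalIdeal S ∧
      ∃ e : ResidueField S ≃+* K,
        ∀ a : R, e (residue S (algebraMap R S a)) = algebraMap (ResidueField R) K (residue R a) := by
  obtain ⟨α, hα⟩ := Field.exists_primitive_element (ResidueField R) K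
  let g₀ := minpoly (ResidueField R) α
  have hg₀ : g₀.Monic := minpoly.monic (Algebra.IsIntegral.isIntegral α)
  obtain ⟨g, hg, hgdeg, hgm⟩ := lifts_and_degree_eq_and_monic
    ((mem_lifts _).2 (map_surjective _ residue_surjective g₀)) hg₀
  let S := AdjoinRoot g
  let toK : R →+* K := (algebraMap (ResidueField R) K).comp (residue R)
  have hroot : g.eval₂ toK α = 0 := by
    rw [← eval₂_map, hg]
    exact minpoly.aeval _ _
  let θ : S →+* K := AdjoinRoot.lift toK α hroot
  haveI : Module.Finite R S := hgm.finite_adjoinRoot
  haveI : Module.Free R S := hgm.free_adjoinRoot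
  have hθsurj : Function.Surjective θ := by
    intro y
    have hy : y ∈ IntermediateField.adjoin (ResidueField R) {α} := hα ▸ IntermediateField.mem_top
    rw [← IntermediateField.mem_toSubalgebra, IntermediateField.adjoin_simple_toSubalgebra_of_isAlgebraic
      (Algebra.IsAlgebraic.isAlgebraic α), Algebra.adjoin_singleton_eq_range_aeval] at hy
    obtain ⟨q, rfl⟩ := hy
    obtain ⟨q', rfl⟩ := map_surjective _ residue_surjective q
    refine ⟨AdjoinRoot.mk g q', ?_⟩
    show AdjoinRoot.lift toK α hroot (AdjoinRoot.mk g q') = aeval α (q'.map (residue R))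
    rw [AdjoinRoot.lift_mk, aeval_def, eval₂_map]
  have hker : RingHom.ker θ = (maximalIdeal R).map (algebraMap R S) := by
    refine le_antisymm (fun x hx => ?_) (Ideal.map_le_iff_le_comap.2 fun a ha => ?_)
    · obtain ⟨q, rfl⟩ := AdjoinRoot.mk_surjective x
      rw [RingHom.mem_ker] at hx
      have h0 : aeval α (q.map (residue R)) = 0 := by
        rw [aeval_def, eval₂_map]
        exact (AdjoinRoot.lift_mk hroot q).symm.trans hx
      obtain ⟨w, hw⟩ := minpoly.dvd (ResidueField R) α h0
      obtain ⟨w', rfl⟩ := map_surjective _ residue_surjective w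
      have h1 : q - g * w' ∈ (maximalIdeal R).map C := by
        rw [Ideal.mem_map_C_iff]
        intro n
        rw [← residue_eq_zero_iff, ← coeff_map, Polynomial.map_sub, Polynomial.map_mul, hg, hw,
          sub_self, coeff_zero]
      have h2 := Ideal.mem_map_of_mem (AdjoinRoot.mk g) h1
      rwa [Ideal.map_map, map_sub, map_mul, AdjoinRoot.mk_self, zero_mul, sub_zero] at h2
    · rw [Ideal.mem_comap, RingHom.mem_ker]
      show AdjoinRoot.lift toK α hroot (AdjoinRoot.of g a) = 0
      rw [AdjoinRoot.lift_of]
      show algebraMap (ResidueField R) K (residue R a) = 0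
      rw [(residue_eq_zero_iff a).2 ha, map_zero]
  have hmax : (RingHom.ker θ).IsMaximal := RingHom.ker_isMaximal_of_surjective θ hθsurj
  haveI : IsLocalRing S := by
    refine IsLocalRing.of_unique_max_ideal ⟨RingHom.ker θ, hmax, fun M hM => ?_⟩
    refine (hmax.eq_of_le hM.ne_top ?_).symm
    rw [hker, Ideal.map_le_iff_le_comap]
    haveI := hM
    exact (eq_maximalIdeal (Ideal.isMaximal_comap_of_isIntegral_of_isMaximal M)).ge
  have hmS : maximalIdeal S = (maximalIdeal R).map (algebraMap R S) :=
    (eq_maximalIdeal hmax).symm.trans hker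
  haveI : IsNoetherianRing S := Algebra.FiniteType.isNoetherianRing R S
  obtain ⟨π, hπ⟩ := IsDiscreteValuationRing.exists_irreducible R
  have hspan : maximalIdeal S = Ideal.span {algebraMap R S π} := by
    rw [hmS, hπ.maximalIdeal_eq, Ideal.map_span, Set.image_singleton]
  haveI : FaithfulSMul R S := inferInstance
  have hpow : ∀ n : ℕ, algebraMap R S π ^ n ≠ 0 := fun n h => by
    rw [← map_pow] at h
    exact pow_ne_zero n hπ.ne_zero (FaithfulSMul.algebraMap_injective R S (h.trans (map_zero _).symm))
  have hform : ∀ x : S, x ≠ 0 → ∃ (n : ℕ) (v : Sˣ), x = v * algebraMap R S π ^ n := by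
    intro x hx
    have hnot : ¬ ∀ n, x ∈ maximalIdeal S ^ n := fun h => hx (by
      have h' : x ∈ ⨅ n : ℕ, maximalIdeal S ^ n := Submodule.mem_iInf _ |>.2 h
      rwa [Ideal.iInf_pow_eq_bot_of_isLocalRing _ (maximalIdeal.isMaximal S).ne_top] at h')
    push Not at hnot
    classical
    let m := Nat.find hnot
    have hm : x ∉ maximalIdeal S ^ m := Nat.find_spec hnot
    obtain ⟨n, hn⟩ : ∃ n, m = n + 1 := by
      refine ⟨m - 1, (Nat.succ_pred_eq_of_pos (Nat.pos_of_ne_zero fun h0 => hm ?_)).symm⟩
      rw [h0, pow_zero, Ideal.one_eq_top]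
      trivial
    have hn' : x ∈ maximalIdeal S ^ n := by
      by_contra h
      exact Nat.find_min hnot (show n < m by omega) h
    rw [hspan, Ideal.span_singleton_pow, Ideal.mem_span_singleton] at hn'
    obtain ⟨c, rfl⟩ := hn'
    have hc : IsUnit c := by
      by_contra hc
      refine hm ?_
      rw [hn, pow_succ, hspan, Ideal.span_singleton_pow]
      refine Ideal.mul_mem_mul (Ideal.mem_span_singleton_self _) ?_
      rw [← hspan]
      exact hc
    exact ⟨n, hc.unit, mul_comm _ _⟩
  haveI : NoZeroDivisors S := ⟨fun {a b} hab => by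
    by_contra h
    push Not at h
    obtain ⟨n, v, rfl⟩ := hform a h.1
    obtain ⟨m, w, rfl⟩ := hform b h.2
    rw [mul_mul_mul_comm, ← pow_add, ← Units.val_mul, Units.mul_right_eq_zero] at hab
    exact hpow _ hab⟩
  haveI : IsDomain S := NoZeroDivisors.to_isDomain S
  have hnf : ¬ IsField S := fun h => by
    have h0 := IsLocalRing.isField_iff_maximalIdeal_eq.1 h
    rw [hspan, Ideal.span_singleton_eq_bot] at h0
    exact hpow 1 (by rw [pow_one]; exact h0)
  haveI : IsDiscreteValuationRing S :=
    ((IsDiscreteValuationRing.TFAE S hnf).out 4 0 :).1 ⟨⟨algebraMap R S π, hspan⟩⟩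
  refine ⟨S, inferInstance, inferInstance, inferInstance, inferInstance, inferInstance, inferInstance,
    hmS.symm, (Ideal.quotEquivOfEq (eq_maximalIdeal hmax).symm).trans
      (RingHom.quotientKerEquivOfSurjective hθsurj), fun a => ?_⟩
  show θ (algebraMap R S a) = _
  exact AdjoinRoot.lift_of hroot

end Groth.Agent.H28NT
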