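-- Excellence of discrete valuation rings
import Groth.Agent.H05EGA4.GeomReducedNagata
import Groth.Agent.H8Props.NagataAffine
import Groth.Agent.H4Depth.Regular
import Groth.Agent.S0567
import Groth.Agent.S0603
import Groth.Agent.S2619

/-!
# A discrete valuation ring is excellent iff its generic formal fibre is geometrically reduced
-/

set_option autoImplicit false
set_option linter.style.haveILetI false
set_option maxHeartbeats 800000
set_option synthInstance.maxHeartbeats 100000
universe u
open IsLocalRing TensorProduct Groth.Agent Groth.Agent.H05EGA4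

namespace Groth.Agent.H28NT

theorem isDiscreteValuationRing_cpl (A : Type u) [CommRing A] [IsDomain A] [IsDiscreteValuationRing A] :
    ∃ _ : IsDomain (EGA4.Cpl A), IsDiscreteValuationRing (EGA4.Cpl A) := by
  let C := EGA4.Cpl A
  haveI := isNoetherianRing_cpl A
  haveI := faithfullyFlat_cpl A
  haveI : IsRegularRing A := isRegularRing_of_isRegularLocalRing _
  haveI : IsRegularRing C := isRegularRing_adicCompletion _ (maximalIdeal A)
  haveI : IsRegularLocalRing C := IsRegularLocalRing.of_isRegularRing_of_isLocalRing _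
  haveI : IsDomain C := H4Depth.isDomain_of_isRegularLocalRing C
  obtain ⟨π, hπ⟩ := IsDiscreteValuationRing.exists_irreducible A
  have hmax : maximalIdeal C = Ideal.span {algebraMap A C π} := by
    rw [AdicCompletion.maximalIdeal_eq_map]
    refine (congrArg (Ideal.map (algebraMap A C)) hπ.maximalIdeal_eq).trans ?_
    rw [Ideal.map_span, Set.image_singleton]
  have hne : algebraMap A C π ≠ 0 := fun e =>
    hπ.ne_zero (FaithfulSMul.algebraMap_injective A C (by rw [e, map_zero]))
  have hnf : ¬ IsField C := fun h => by
    have h0 := IsLocalRing.isField_iff_maximalIdeal_eq.1 h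
    rw [hmax, Ideal.span_singleton_eq_bot] at h0
    exact hne h0
  refine ⟨inferInstance, ((IsDiscreteValuationRing.TFAE C hnf).out 4 0 :).1 ?_⟩
  exact ⟨⟨algebraMap A C π, hmax⟩⟩

theorem isField_generic_formalFibre (A : Type u) [CommRing A] [IsDomain A] [IsDiscreteValuationRing A] :
    IsField ((⊥ : Ideal A).ResidueField ⊗[A] EGA4.Cpl A) := by
  let C := EGA4.Cpl A
  haveI := isNoetherianRing_cpl A
  haveI := faithfullyFlat_cpl A
  obtain ⟨_, _⟩ := isDiscreteValuationRing_cpl A
  let K := (⊥ : Ideal A).ResidueField
  letI : Algebra C (K ⊗[A] C) := Algebra.TensorProduct.rightAlgebra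
  haveI : IsLocalization (Algebra.algebraMapSubmonoid C (nonZeroDivisors A)) (K ⊗[A] C) :=
    IsLocalization.tensorRight K (nonZeroDivisors A)
  obtain ⟨π, hπ⟩ := IsDiscreteValuationRing.exists_irreducible A
  have hπC : Irreducible (algebraMap A C π) := by
    rw [IsDiscreteValuationRing.irreducible_iff_uniformizer, AdicCompletion.maximalIdeal_eq_map]
    refine (congrArg (Ideal.map (algebraMap A C)) hπ.maximalIdeal_eq).trans ?_
    rw [Ideal.map_span, Set.image_singleton]
  have hS : Algebra.algebraMapSubmonoid C (nonZeroDivisors A) ≤ nonZeroDivisors C := by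
    rintro _ ⟨a, ha, rfl⟩
    exact mem_nonZeroDivisors_of_ne_zero fun e =>
      nonZeroDivisors.ne_zero ha (FaithfulSMul.algebraMap_injective A C (by rw [e, map_zero]))
  haveI : IsDomain (K ⊗[A] C) := IsLocalization.isDomain_of_le_nonZeroDivisors _ hS
  refine ⟨⟨0, 1, zero_ne_one⟩, mul_comm, fun {x} hx => ?_⟩
  obtain ⟨⟨c, s⟩, hcs⟩ := IsLocalization.surj (Algebra.algebraMapSubmonoid C (nonZeroDivisors A)) x
  have hc : c ≠ 0 := by
    rintro rfl
    rw [map_zero, mul_eq_zero] at hcs
    exact hcs.elim hx (IsLocalization.map_units (K ⊗[A] C) s).ne_zero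
  obtain ⟨n, v, rfl⟩ := IsDiscreteValuationRing.eq_unit_mul_pow_irreducible hc hπC
  have hu : IsUnit (algebraMap C (K ⊗[A] C) (v * algebraMap A C π ^ n)) := by
    rw [map_mul, map_pow]
    exact (v.isUnit.map _).mul ((IsLocalization.map_units (K ⊗[A] C)
      (⟨algebraMap A C π, π, mem_nonZeroDivisors_of_ne_zero hπ.ne_zero, rfl⟩ :
        Algebra.algebraMapSubmonoid C (nonZeroDivisors A))).pow n)
  rw [← hcs] at hu
  obtain ⟨w, hw⟩ := isUnit_of_mul_isUnit_left hu
  exact ⟨w.inv, by rw [← hw]; exact w.val_inv⟩

theorem grsHom_cpl_dvr (A : Type u) [CommRing A] [IsDomain A] [IsDiscreteValuationRing A]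
    [Algebra.IsGeometricallyReduced (⊥ : Ideal A).ResidueField
      ((⊥ : Ideal A).ResidueField ⊗[A] EGA4.Cpl A)] :
    GRSHom ⊤ ⊤ A (EGA4.Cpl A) := by
  let C := EGA4.Cpl A
  haveI := isNoetherianRing_cpl A
  haveI := faithfullyFlat_cpl A
  haveI : IsRegularRing A := isRegularRing_of_isRegularLocalRing _
  haveI : IsRegularRing C := isRegularRing_adicCompletion _ (maximalIdeal A)
  refine grsHom_of_forall (flat_cpl A) fun p hp k' _ _ _ _ hfin _ => ?_
  suffices IsRegularRing (k' ⊗[A] C) from rs_of_isRegularRing _
  by_cases h0 : p = ⊥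
  · subst h0
    let K := (⊥ : Ideal A).ResidueField
    letI : Field (K ⊗[A] C) := (isField_generic_formalFibre A).toField
    have hgr : CAlg.IsGeometricallyRegular K (K ⊗[A] C) :=
      isGeometricallyRegular_of_isGeometricallyReduced_field
    exact (isRegularRing_cancel_iff A K k' C).mp (hgr k' hfin)
  · have hmax : p = maximalIdeal A := eq_maximalIdeal (hp.isMaximal h0)
    haveI : Nontrivial (C ⊗[A] k') := Module.FaithfullyFlat.lTensor_nontrivial A C k'
    haveI : Nontrivial (k' ⊗[A] C) := (Algebra.TensorProduct.comm A k' C).toEquiv.nontrivial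
    let ψ : k' →+* k' ⊗[A] C := Algebra.TensorProduct.includeLeftRingHom
    have hz : ∀ z ∈ maximalIdeal C, (1 : k') ⊗ₜ[A] z = 0 := by
      intro z hz
      rw [AdicCompletion.maximalIdeal_eq_map, Ideal.map] at hz
      induction hz using Submodule.span_induction with
      | mem x hx =>
        obtain ⟨a, ha, rfl⟩ := hx
        rw [Algebra.algebraMap_eq_smul_one, TensorProduct.tmul_smul, TensorProduct.smul_tmul',
          show a • (1 : k') = 0 from by
            rw [← Algebra.algebraMap_eq_smul_one, IsScalarTower.algebraMap_apply A p.ResidueField k',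
              show algebraMap A p.ResidueField a = 0 from
                Ideal.algebraMap_residueField_eq_zero.mpr (hmax ▸ ha), map_zero],
          TensorProduct.zero_tmul]
      | zero => exact TensorProduct.tmul_zero _ _
      | add x y _ _ hx hy => rw [TensorProduct.tmul_add, hx, hy, add_zero]
      | smul c x _ hx =>
        rw [show (1 : k') ⊗ₜ[A] (c • x) = ((1 : k') ⊗ₜ[A] c) * ((1 : k') ⊗ₜ[A] x) by simp, hx, mul_zero]
    have hsur : Function.Surjective ψ := by
      intro t
      induction t using TensorProduct.induction_on with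
      | zero => exact ⟨0, map_zero _⟩
      | tmul x c =>
        obtain ⟨r, hr⟩ := (AdicCompletion.residueField_map_bijective A).2 (residue C c)
        obtain ⟨a, rfl⟩ := residue_surjective r
        rw [ResidueField.map_residue, eq_comm, ← sub_eq_zero, ← map_sub, residue_eq_zero_iff] at hr
        refine ⟨a • x, ?_⟩
        have h2 := hz _ hr
        rw [TensorProduct.tmul_sub, sub_eq_zero, Algebra.algebraMap_eq_smul_one, TensorProduct.tmul_smul,
          TensorProduct.smul_tmul'] at h2
        calc ψ (a • x) = (x ⊗ₜ[A] (1 : C)) * ((a • (1 : k')) ⊗ₜ[A] (1 : C)) := by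
              rw [Algebra.TensorProduct.tmul_mul_tmul, mul_smul_comm, mul_one, mul_one]; rfl
          _ = x ⊗ₜ[A] c := by rw [← h2, Algebra.TensorProduct.tmul_mul_tmul, mul_one, one_mul]
      | add s t hs ht =>
        obtain ⟨a, rfl⟩ := hs
        obtain ⟨b, rfl⟩ := ht
        exact ⟨a + b, map_add _ _ _⟩
    exact IsRegularRing.of_ringEquiv (RingEquiv.ofBijective ψ ⟨ψ.injective, hsur⟩)

/-- Criterion for excellence of a discrete valuation ring. -/
theorem isExcellent_iff_geometricallyReduced (R : Type u) [CommRing R] [IsDomain R]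
    [IsDiscreteValuationRing R] :
    EGA4.IsExcellent R ↔
      Algebra.IsGeometricallyReduced (⊥ : Ideal R).ResidueField (EGA4.formalFibre R (⊥ : Ideal R)) := by
  haveI := isNoetherianRing_cpl R
  haveI := faithfullyFlat_cpl R
  constructor
  · intro hR
    let m := maximalIdeal R
    have hg := grsHom_of_isRegularHom (r := 0) (n := 1) (hR.2.2.1.2 m)
    haveI : IsNoetherianRing (Localization.AtPrime m) :=
      IsLocalization.isNoetherianRing m.primeCompl _ inferInstance
    haveI : IsNoetherianRing (EGA4.Cpl (Localization.AtPrime m)) :=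
      isNoetherianRing_cpl _
    let e : R ≃ₐ[R] Localization.AtPrime m :=
      IsLocalization.atUnits R m.primeCompl fun x hx => not_not.1 hx
    have h := GRSHom.cpl_of_surjective e.symm.toRingEquiv.toRingHom e.symm.surjective hg
    haveI : IsNoetherianRing ((⊥ : Ideal R).Fiber (EGA4.Cpl R)) :=
      H02CA.isNoetherianRing_tensor_of_essFiniteType _ _ _
    exact isGeometricallyReduced_iff_grs.mpr (h.2 ⊥)
  · intro hgr
    haveI := hgr
    haveI : LocCoh.IsCohenMacaulayRing R := ⟨fun p _ => by
      haveI : IsRegularRing R := isRegularRing_of_isRegularLocalRing _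
      haveI := IsRegularRing.isRegularLocalRing_localization (R := R) p
      exact H4Depth.isCohenMacaulayLocalRing_of_regular _⟩
    refine ⟨inferInstance, S0603.result R, isGRing_of_maximal fun m hm => ?_,
      isJ2_of_finite_domains R fun A' _ _ _ hfin => ?_⟩
    · haveI : IsNoetherianRing (Localization.AtPrime m) :=
        IsLocalization.isNoetherianRing m.primeCompl _ inferInstance
      haveI := isNoetherianRing_cpl (Localization.AtPrime m)
      let e : R ≃ₐ[R] Localization.AtPrime m :=
        IsLocalization.atUnits R m.primeCompl fun x hx =>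
          not_not.1 fun hu => hx ((eq_maximalIdeal hm).ge hu)
      exact isRegularHom_iff_grsHom.mpr
        (GRSHom.cpl_of_surjective e.toRingEquiv.toRingHom e.surjective (grsHom_cpl_dvr R))
    · obtain ⟨π, hπ⟩ := IsDiscreteValuationRing.exists_irreducible R
      by_cases hk : algebraMap R A' π = 0
      · refine isJ0_of_isField ?_
        have hp : (RingHom.ker (algebraMap R A')).IsPrime := RingHom.ker_isPrime _
        have hm := hp.isMaximal fun e => hπ.ne_zero ((Submodule.mem_bot R).1 (e ▸ hk))
        letI : Algebra (R ⧸ RingHom.ker (algebraMap R A')) A' :=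
          (RingHom.kerLift (algebraMap R A')).toAlgebra
        haveI : IsScalarTower R (R ⧸ RingHom.ker (algebraMap R A')) A' :=
          IsScalarTower.of_algebraMap_eq fun _ => rfl
        haveI : Module.Finite (R ⧸ RingHom.ker (algebraMap R A')) A' :=
          Module.Finite.of_restrictScalars_finite R _ _
        exact isField_of_isIntegral_of_isField' (R := R ⧸ RingHom.ker (algebraMap R A'))
          ((Ideal.Quotient.maximal_ideal_iff_isField_quotient _).mp hm)
      · refine ⟨PrimeSpectrum.basicOpen (algebraMap R A' π), (PrimeSpectrum.basicOpen _).2,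
          ⟨⟨⊥, Ideal.isPrime_bot⟩, hk⟩, fun P hP => ?_⟩
        have hcomap : P.asIdeal.comap (algebraMap R A') = ⊥ := by
          by_contra hne
          refine hP ?_
          show π ∈ P.asIdeal.comap (algebraMap R A')
          rw [eq_maximalIdeal ((P.isPrime.comap (algebraMap R A')).isMaximal hne), hπ.maximalIdeal_eq]
          exact Ideal.mem_span_singleton_self π
        obtain rfl : P = ⟨⊥, Ideal.isPrime_bot⟩ :=
          PrimeSpectrum.ext (Ideal.eq_bot_of_comap_eq_bot hcomap)
        exact isRegularLocalRing_bot A'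

end Groth.Agent.H28NT
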