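import Groth.Agent.H28NT.Tree

/-!
# Chains of `(-2)`-indices
-/

namespace Groth.Agent.H28NT

open Finset Models Models.NumericalType

variable {n : ℕ} (T : NumericalType n)

lemma sqrt_three_le_e {i j : Fin n} (hij : i ≠ j) (h0 : T.a i j ≠ 0)
    (hw : T.w j = 3 * T.w i ∨ T.w i = 3 * T.w j) : Real.sqrt 3 ≤ e T i j := by
  obtain ⟨h1, h2⟩ := w_le_a T hij h0
  have hi := T.w_pos i
  have hj := T.w_pos j
  have := le_e_of_sq T hij (k := 3) (by
    rcases hw with h | h
    · nlinarith [mul_le_mul h2 h2 hj.le (hj.le.trans h2)]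
    · nlinarith [mul_le_mul h1 h1 hi.le (hi.le.trans h1)])
  simpa using this

/-- no `G₂~` as proper subgraph -/
lemma not_three_of_chain {i j k : Fin n} (hn : 3 < n) (hij : i ≠ j) (hjk : j ≠ k) (hik : i ≠ k)
    (hi : T.IsMinusTwo i) (hj : T.IsMinusTwo j) (hk : T.IsMinusTwo k)
    (h1 : T.a i j ≠ 0) (h2 : T.a j k ≠ 0) :
    ¬ (T.w j = 3 * T.w i ∨ T.w i = 3 * T.w j) := by
  intro hw
  refine key_false T (fun m => if m = 0 then i else if m = 1 then j else k)
    (fun m => if m = 0 then Real.sqrt 3 else if m = 1 then 2 else 1) hn ?_ ?_ ?_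
    ⟨1, by norm_num, by norm_num⟩ {(0, 1), (1, 2)} (by decide)
    (fun pq => if pq.1 = 0 then Real.sqrt 3 else 1) ?_ ?_
  · intro a ha b hb h
    simp only [Set.mem_Iio] at ha hb
    interval_cases a <;> interval_cases b <;>
      simp [hij, hjk, hik, hij.symm, hjk.symm, hik.symm] at h <;> rfl
  · intro a ha
    interval_cases a <;> simpa
  · intro p _
    split_ifs <;> positivity
  · intro pq hpq
    simp only [Finset.mem_insert, Finset.mem_singleton] at hpq
    rcases hpq with rfl | rfl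
    · simpa using sqrt_three_le_e T hij h1 hw
    · simpa using one_le_e T hjk h2
  · simp [Finset.sum_range_succ]
    nlinarith [Real.sq_sqrt (show (0:ℝ) ≤ 3 by norm_num)]

/-- An edge in a chain of three is simple or double. -/
lemma chain_edge {i j k : Fin n} (hn : 3 < n) (hij : i ≠ j) (hjk : j ≠ k) (hik : i ≠ k)
    (hi : T.IsMinusTwo i) (hj : T.IsMinusTwo j) (hk : T.IsMinusTwo k)
    (h1 : T.a i j ≠ 0) (h2 : T.a j k ≠ 0) :
    (T.w j = T.w i ∧ T.a i j = T.w i) ∨ (T.w j = 2 * T.w i ∧ T.a i j = 2 * T.w i) ∨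
      (T.w i = 2 * T.w j ∧ T.a i j = 2 * T.w j) := by
  have h := not_three_of_chain T hn hij hjk hik hi hj hk h1 h2
  rcases w_eq_or_mul T (by omega) hij hi hj h1 with ⟨a, b⟩ | ⟨a, b | b⟩ | ⟨a, b | b⟩
  · exact .inl ⟨b, a⟩
  · exact .inr (.inl ⟨b, a.trans b⟩)
  · exact absurd (.inl b) h
  · exact .inr (.inr ⟨b, a.trans b⟩)
  · exact absurd (.inr b) h

/-- no `F₄~` as proper subgraph -/
lemma inner_edge_simple {v : ℕ → Fin n} (hn : 5 < n) (hinj : Set.InjOn v (Set.Iio 5))
    (hv : ∀ p < 5, T.IsMinusTwo (v p)) (hc : ∀ p < 4, T.a (v p) (v (p + 1)) ≠ 0) :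
    T.w (v 1) = T.w (v 2) := by
  by_contra hw
  have hne : ∀ p q, p < 5 → q < 5 → p ≠ q → v p ≠ v q := fun p q hp hq hpq h => hpq (hinj hp hq h)
  refine key_false T v
    (fun m => if m = 0 then Real.sqrt 2 else if m = 1 then 2 * Real.sqrt 2
      else if m = 2 then 3 else if m = 3 then 2 else 1) hn hinj hv ?_
    ⟨2, by norm_num, by norm_num⟩ {(0, 1), (1, 2), (2, 3), (3, 4)} (by decide)
    (fun pq => if pq.1 = 1 then Real.sqrt 2 else 1) ?_ ?_
  · intro p _
    split_ifs <;> positivity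
  · intro pq hpq
    simp only [Finset.mem_insert, Finset.mem_singleton] at hpq
    rcases hpq with rfl | rfl | rfl | rfl
    · simpa using one_le_e T (hne 0 1 (by norm_num) (by norm_num) (by norm_num)) (hc 0 (by norm_num))
    · simpa using sqrt_two_le_e T (hne 1 2 (by norm_num) (by norm_num) (by norm_num))
        (hc 1 (by norm_num)) hw
    · simpa using one_le_e T (hne 2 3 (by norm_num) (by norm_num) (by norm_num)) (hc 2 (by norm_num))
    · simpa using one_le_e T (hne 3 4 (by norm_num) (by norm_num) (by norm_num)) (hc 3 (by norm_num))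
  · simp [Finset.sum_range_succ]
    nlinarith [Real.sq_sqrt (show (0:ℝ) ≤ 2 by norm_num)]

/-- no `C~` as proper subgraph: the two end edges of a chain are not both special -/
lemma not_both_ends {k : ℕ} {v : ℕ → Fin n} (hn : k + 3 < n) (hinj : Set.InjOn v (Set.Iio (k + 3)))
    (hv : ∀ p < k + 3, T.IsMinusTwo (v p)) (hc : ∀ p < k + 2, T.a (v p) (v (p + 1)) ≠ 0)
    (h0 : T.w (v 0) ≠ T.w (v 1)) : T.w (v (k + 1)) = T.w (v (k + 2)) := by
  by_contra hw
  have hne : ∀ p q, p < k + 3 → q < k + 3 → p ≠ q → v p ≠ v q :=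
    fun p q hp hq hpq h => hpq (hinj (show p < k + 3 from hp) (show q < k + 3 from hq) h)
  let c : ℕ → ℝ := fun p => if p = 0 ∨ p = k + 2 then 1 else Real.sqrt 2
  let L : ℕ × ℕ → ℝ := fun pq => if pq.1 = 0 ∨ pq.1 = k + 1 then Real.sqrt 2 else 1
  refine key_false T v c hn hinj hv ?_ ⟨0, by omega, by simp [c]⟩
    ((range (k + 1 + 1)).image fun p => (p, p + 1)) ?_ L ?_ ?_
  · intro p _
    simp only [c]; split_ifs <;> positivity
  · intro pq hpq
    simp only [Finset.mem_image, Finset.mem_range, not_exists, not_and, Prod.ext_iff] at hpq ⊢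
    obtain ⟨p, hp, h⟩ := hpq
    exact ⟨by omega, by omega, by omega, fun _ _ => by omega⟩
  · intro pq hpq
    simp only [Finset.mem_image, Finset.mem_range] at hpq
    obtain ⟨p, hp, rfl⟩ := hpq
    have hpne := hne p (p + 1) (by omega) (by omega) (by omega)
    rcases eq_or_ne p 0 with rfl | hp0
    · simpa [L] using sqrt_two_le_e T hpne (hc 0 (by omega)) h0
    rcases eq_or_ne p (k + 1) with rfl | hpk
    · simpa [L] using sqrt_two_le_e T hpne (hc _ (by omega)) hw
    · simpa [L, hp0, hpk] using one_le_e T hpne (hc p hp)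
  · have hs : ∑ p ∈ range (k + 1), c (p + 1) ^ 2 = (k + 1 : ℕ) * 2 := by
      rw [Finset.sum_congr rfl (fun x hx => ?_), Finset.sum_const, Finset.card_range, nsmul_eq_mul]
      simp at hx
      simp [c, show x ≠ k + 1 by omega]
    have hS : ∑ p ∈ range (k + 1 + 1 + 1), c p ^ 2 = (k + 1 : ℕ) * 2 + c 0 ^ 2 + c (k + 1 + 1) ^ 2 := by
      rw [Finset.sum_range_succ, Finset.sum_range_succ', hs]
    have ht : ∑ p ∈ range k, L (p + 1, p + 1 + 1) * (c (p + 1) * c (p + 1 + 1)) = (k : ℕ) * 2 := by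
      rw [Finset.sum_congr rfl (fun x hx => ?_), Finset.sum_const, Finset.card_range, nsmul_eq_mul]
      simp at hx
      simp [c, L, show x ≠ k + 1 by omega, show x ≠ k by omega]
    have hT : ∑ p ∈ range (k + 1 + 1), L (p, p + 1) * (c p * c (p + 1)) =
        (k : ℕ) * 2 + L (0, 1) * (c 0 * c 1) + L (k + 1, k + 2) * (c (k + 1) * c (k + 2)) := by
      rw [Finset.sum_range_succ, Finset.sum_range_succ', ht]
    rw [Finset.sum_image (fun a _ b _ h => (Prod.ext_iff.1 h).1), show k + 3 = k + 1 + 1 + 1 from rfl, hS]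
    show _ ≤ ∑ p ∈ range (k + 1 + 1), L (p, p + 1) * (c p * c (p + 1))
    rw [hT]
    simp [L, c]
    linarith

end Groth.Agent.H28NT
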