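import Groth.Agent.H28NT.Chain

/-!
# Row inequalities with proportional weights, and oriented chains
-/

namespace Groth.Agent.H28NT

open Finset Models Models.NumericalType

variable {n : ℕ} (T : NumericalType n)

lemma row1q {i j : Fin n} {w : ℤ} (p q : ℤ) (hw : 0 < w) (hij : i ≠ j) (hi : T.IsMinusTwo i)
    (hwi : T.w i = q * w) (ha : T.a i j = p * w) : p * T.m j ≤ 2 * q * T.m i := by
  have h := row2_one T hi hij
  rw [ha, hwi] at h
  exact le_of_mul_le_mul_left (by linarith) hw

lemma row2q {i j k : Fin n} {w : ℤ} (p p' q : ℤ) (hw : 0 < w) (hij : i ≠ j) (hik : i ≠ k) (hjk : j ≠ k)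
    (hi : T.IsMinusTwo i) (hwi : T.w i = q * w) (ha : T.a i j = p * w) (ha' : T.a i k = p' * w) :
    p * T.m j + p' * T.m k ≤ 2 * q * T.m i := by
  have h := row2_two T hi hij hik hjk
  rw [ha, ha', hwi] at h
  exact le_of_mul_le_mul_left (by linarith) hw

/-- The intersection number of a simple or double edge is the larger weight. -/
lemma a_eq_max {i j : Fin n} (hn : 2 < n) (hij : i ≠ j) (hi : T.IsMinusTwo i) (hj : T.IsMinusTwo j)
    (h0 : T.a i j ≠ 0) : T.a i j = max (T.w i) (T.w j) := by
  have := T.w_pos i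
  have := T.w_pos j
  rcases w_eq_or_mul T hn hij hi hj h0 with ⟨a, b⟩ | ⟨a, b | b⟩ | ⟨a, b | b⟩ <;> omega

lemma list_inj {t : ℕ} [NeZero t] (v : Fin t ↪ Fin n) (f : List ℕ) (hf : ∀ p ∈ f, p < t)
    (hnd : f.Nodup) : Set.InjOn (fun p => vN v (f.getD p 0)) (Set.Iio f.length) := by
  intro p hp q hq h
  simp only [Set.mem_Iio] at hp hq
  simp only [List.getD, List.getElem?_eq_getElem hp, List.getElem?_eq_getElem hq,
    Option.getD_some] at h
  exact (List.Nodup.getElem_inj_iff hnd).1
    (vN_injOn v (hf _ (List.getElem_mem hp)) (hf _ (List.getElem_mem hq)) h)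

/-- Chain of three vertices: edge zero. -/
lemma chain3_zero {i j k : Fin n} (hn : 3 < n) (hij : i ≠ j) (hjk : j ≠ k) (hik : i ≠ k)
    (hi : T.IsMinusTwo i) (hj : T.IsMinusTwo j) (hk : T.IsMinusTwo k)
    (h1 : T.a i j ≠ 0) (h2 : T.a j k ≠ 0) : T.a i k = 0 := by
  refine no_other_edge T (v := fun m => if m = 0 then i else if m = 1 then j else k) hn ?_ ?_
    {(0, 1), (1, 2)} (by decide) ?_ (by decide) (p := 0) (q := 2) (by norm_num) (by norm_num)
    (by norm_num) (by decide) (by decide)
  · intro a ha b hb h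
    simp only [Set.mem_Iio] at ha hb
    interval_cases a <;> interval_cases b <;>
      simp [hij, hjk, hik, hij.symm, hjk.symm, hik.symm] at h <;> rfl
  · intro a ha
    interval_cases a <;> simpa
  · simp only [Finset.mem_insert, Finset.mem_singleton, forall_eq_or_imp, forall_eq]
    exact ⟨by simpa, by simpa⟩

/-- Chain of three vertices: not both edges special. -/
lemma chain3_not_both {i j k : Fin n} (hn : 3 < n) (hij : i ≠ j) (hjk : j ≠ k) (hik : i ≠ k)
    (hi : T.IsMinusTwo i) (hj : T.IsMinusTwo j) (hk : T.IsMinusTwo k)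
    (h1 : T.a i j ≠ 0) (h2 : T.a j k ≠ 0) (hw : T.w i ≠ T.w j) : T.w j = T.w k := by
  refine not_both_ends T (k := 0) (v := fun m => if m = 0 then i else if m = 1 then j else k) hn ?_ ?_ ?_
    (by simpa)
  · intro a ha b hb h
    simp only [Set.mem_Iio] at ha hb
    interval_cases a <;> interval_cases b <;>
      simp [hij, hjk, hik, hij.symm, hjk.symm, hik.symm] at h <;> rfl
  · intro a ha
    interval_cases a <;> simpa
  · intro a ha
    interval_cases a <;> simpa

end Groth.Agent.H28NT
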