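import Groth.Agent.H28NT.Graph

/-!
# Small trees of `(-2)`-indices
-/

namespace Groth.Agent.H28NT

open Finset Models Models.NumericalType

variable {n : ℕ} (T : NumericalType n)

lemma branch_list {t : ℕ} [NeZero t] {v : Fin t ↪ Fin n} (hn : t < n) (hv : ∀ j, T.IsMinusTwo (v j))
    (f : List ℕ) (hlen : 4 ≤ f.length) (hf : ∀ p ∈ f, p < t) (hnd : f.Nodup)
    (hchain : ∀ p < f.length - 3, T.a (vN v (f.getD p 0)) (vN v (f.getD (p + 1) 0)) ≠ 0)
    (hq : T.a (vN v (f.getD (f.length - 3) 0)) (vN v (f.getD (f.length - 2) 0)) ≠ 0)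
    (hr : T.a (vN v (f.getD (f.length - 3) 0)) (vN v (f.getD (f.length - 1) 0)) ≠ 0) :
    T.w (vN v (f.getD 0 0)) = T.w (vN v (f.getD 1 0)) := by
  obtain ⟨k, hk⟩ : ∃ k, f.length = k + 3 := ⟨f.length - 3, by omega⟩
  have hlt : f.length ≤ t := by
    have := hnd.length_le_of_subset (l₂ := List.range t) fun p hp => List.mem_range.2 (hf p hp)
    simpa using this
  have hget : ∀ p, p < k + 3 → f.getD p 0 < t := fun p hp => by
    have : f.getD p 0 = f[p]'(by omega) := by simp [List.getD, show p < f.length by omega]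
    rw [this]; exact hf _ (List.getElem_mem _)
  simp only [hk, Nat.add_sub_cancel, show k + 3 - 2 = k + 1 from rfl,
    show k + 3 - 1 = k + 2 from rfl] at hchain hq hr
  refine branch_w T (v := fun p => vN v (f.getD p 0)) (k := k) (by omega) (by omega) ?_ ?_
    hchain hq hr
  · intro p hp q hq h
    have h2 := vN_injOn v (hget p hp) (hget q hq) h
    simp only [Set.mem_Iio] at hp hq
    simp only [List.getD, List.getElem?_eq_getElem (show p < f.length by omega),
      List.getElem?_eq_getElem (show q < f.length by omega), Option.getD_some] at h2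
    exact (List.Nodup.getElem_inj_iff hnd).1 h2
  · exact fun p hp => vN_minusTwo T hv _ (hget p hp)

/-- Equal weights on an edge give the intersection number and the row inequality. -/
lemma le_of_row {w m x : ℤ} (hw : 0 < w) (h : w * x ≤ 2 * w * m) : x ≤ 2 * m :=
  le_of_mul_le_mul_left (by linarith) hw

lemma m_le_one {i j : Fin n} {w : ℤ} (hij : i ≠ j) (hi : T.IsMinusTwo i) (hw : T.w i = w)
    (ha : T.a i j = w) : T.m j ≤ 2 * T.m i := by
  have h := row2_one T hi hij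
  rw [ha, hw] at h
  exact le_of_row (hw ▸ T.w_pos i) h

lemma m_le_two {i j k : Fin n} {w : ℤ} (hij : i ≠ j) (hik : i ≠ k) (hjk : j ≠ k)
    (hi : T.IsMinusTwo i) (hw : T.w i = w) (ha : T.a i j = w) (ha' : T.a i k = w) :
    T.m j + T.m k ≤ 2 * T.m i := by
  have h := row2_two T hi hij hik hjk
  rw [ha, ha', hw] at h
  exact le_of_row (hw ▸ T.w_pos i) (by linarith)

lemma m_le_three {i j k l : Fin n} {w : ℤ} (hij : i ≠ j) (hik : i ≠ k) (hil : i ≠ l)
    (hjk : j ≠ k) (hjl : j ≠ l) (hkl : k ≠ l)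
    (hi : T.IsMinusTwo i) (hw : T.w i = w) (ha : T.a i j = w) (ha' : T.a i k = w) (ha'' : T.a i l = w) :
    T.m j + T.m k + T.m l ≤ 2 * T.m i := by
  have h := row2_three T hi hij hik hil hjk hjl hkl
  rw [ha, ha', ha'', hw] at h
  exact le_of_row (hw ▸ T.w_pos i) (by linarith)

/-- An affine diagram with integral null vector cannot be a proper family. -/
lemma affine_false {t : ℕ} [NeZero t] {v : Fin t ↪ Fin n} (hn : t < n)
    (hv : ∀ j, T.IsMinusTwo (v j)) (c : List ℕ) (E : Finset (ℕ × ℕ))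
    (hE : ∀ pq ∈ E, pq.1 < t ∧ pq.2 < t ∧ pq.1 ≠ pq.2 ∧ (pq.2, pq.1) ∉ E)
    (hnz : ∀ pq ∈ E, T.a (vN v pq.1) (vN v pq.2) ≠ 0) (hc0 : c.getD 0 0 ≠ 0)
    (hsum : ∑ p ∈ range t, c.getD p 0 ^ 2 ≤ ∑ pq ∈ E, c.getD pq.1 0 * c.getD pq.2 0) : False := by
  refine key_false T (vN v) (fun p => (c.getD p 0 : ℝ)) hn (vN_injOn v) (vN_minusTwo T hv)
    (fun _ _ => Nat.cast_nonneg _) ⟨0, Nat.pos_of_neZero t, by exact_mod_cast hc0⟩ E hE (fun _ => 1)
    ?_ ?_
  · intro pq hpq
    obtain ⟨h1, h2, h3, -⟩ := hE pq hpq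
    exact one_le_e T (fun h => h3 (vN_injOn v h1 h2 h)) (hnz pq hpq)
  · simp only [one_mul]
    exact_mod_cast hsum

end Groth.Agent.H28NT
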