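import Groth.Agent.H28NT.Genus
import Groth.Agent.H28NT.Chain
import Groth.Agent.H28NT.Tree
import Groth.Agent.H28NT.Rows

/-!
# The bound `m i * |a i j| ≤ 768 g`
-/

namespace Groth.Agent.H28NT

open Finset Models Models.NumericalType

variable {n : ℕ} (T : NumericalType n)

/-- adjacent to an index which is not a `(-2)`-index -/
def Touched (i : Fin n) : Prop := ∃ j, ¬T.IsMinusTwo j ∧ T.a i j ≠ 0

/-- a walk of `(-2)`-indices from a touched index to `i` -/
def Walk (i : Fin n) (L : ℕ) (v : ℕ → Fin n) : Prop :=
  (∀ p ≤ L, T.IsMinusTwo (v p)) ∧ (∀ p < L, T.a (v p) (v (p + 1)) ≠ 0) ∧ Touched T (v 0) ∧ v L = i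

variable {T}

lemma diag_bound (hn : 1 < n) (hmin : T.IsMinimal) (j : Fin n) (hj : ¬T.IsMinusTwo j) :
    T.m j * (-T.a j j) ≤ 6 * T.genus - 6 := by
  have hm := T.m_pos j
  have hw := T.w_pos j
  have ha := diag_neg T hn j
  have h2 := two_genus T
  have hle : ctr T j ≤ ∑ i, ctr T i :=
    Finset.single_le_sum (fun i _ => ctr_nonneg T hn hmin i) (mem_univ j)
  have hne : ctr T j ≠ 0 := fun h => hj (minusTwo_of_zero T hn j h)
  have h0 := ctr_nonneg T hn hmin j
  rw [ctr] at hle h0 hne
  rcases (T.g_nonneg j).lt_or_eq with hg | hg
  · have := mul_nonneg (mul_nonneg hm.le hw.le) (show 0 ≤ T.g j - 1 by omega)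
    nlinarith
  · rw [← hg] at hle h0 hne
    obtain ⟨p, hp⟩ := T.w_dvd j j
    rw [hp] at hle h0 hne ha ⊢
    have hp3 : p ≤ -3 := by
      by_contra hc
      have : p = -2 ∨ p = -1 ∨ 0 ≤ p := by omega
      rcases this with rfl | rfl | h
      · exact hne (by ring)
      · nlinarith
      · nlinarith
    nlinarith

lemma exists_walk (hg : 2 ≤ T.genus) (hn : 1 < n) (hmin : T.IsMinimal) (i : Fin n)
    (hi : T.IsMinusTwo i) : ∃ L v, Walk T i L v := by
  classical
  obtain ⟨j0, hj0⟩ : ∃ j, ¬T.IsMinusTwo j := by
    by_contra h
    push_neg at h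
    have h2 := two_genus T
    have : ∑ i, ctr T i = 0 := Finset.sum_eq_zero fun i _ => by
      rw [ctr, (h i).1, (h i).2]; ring
    omega
  let I := univ.filter fun j => ¬T.IsMinusTwo j ∨ ∃ L v, Walk T j L v
  by_contra hne
  obtain ⟨a, ha, b, hb, hab⟩ := T.connected I ⟨j0, by simp [I, hj0]⟩ (fun e => by
    have := Finset.eq_univ_iff_forall.1 e i
    simp only [I, mem_filter, mem_univ, true_and] at this
    exact this.elim (fun h => h hi) hne)
  simp only [I, mem_filter, mem_univ, true_and, not_or, not_not] at ha hb
  apply hb.2
  by_cases ha' : T.IsMinusTwo a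
  · obtain ⟨L, v, h1, h2, h3, h4⟩ := ha.resolve_left (not_not.2 ha')
    refine ⟨L + 1, fun p => if p ≤ L then v p else b, fun p hp => ?_, fun p hp => ?_, ?_, ?_⟩
    · dsimp only; split_ifs with h
      · exact h1 p h
      · exact hb.1
    · rcases lt_or_eq_of_le (show p ≤ L by omega) with h | rfl
      · simpa [h.le, Nat.succ_le_of_lt h] using h2 p h
      · simpa [h4] using hab
    · simpa using h3
    · simp
  · exact ⟨0, fun _ => b, fun _ _ => hb.1, fun _ h => absurd h (Nat.not_lt_zero _),
      ⟨a, ha', by rwa [a_comm]⟩, rfl⟩

/-- `m w` of a touched index is small -/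
lemma touched_bound (hn : 1 < n) (hmin : T.IsMinimal) {k : Fin n} (hk : T.IsMinusTwo k)
    (h : Touched T k) : T.m k * T.w k ≤ 6 * T.genus - 6 := by
  obtain ⟨j, hj, ha⟩ := h
  have hne : k ≠ j := fun e => hj (e ▸ hk)
  have h1 := row_le T (i := j) (S := {k}) (by simpa using hne.symm)
  rw [Finset.sum_singleton, a_comm T j k] at h1
  have h2 := mul_le_mul_of_nonneg_left (w_le_a T hne ha).1 (T.m_pos k).le
  linarith [diag_bound hn hmin j hj]

/-- `m w` at most doubles along an edge -/
lemma step_bound {i j : Fin n} (hi : T.IsMinusTwo i) (hij : i ≠ j) (h : T.a i j ≠ 0) :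
    T.m j * T.w j ≤ 2 * (T.m i * T.w i) := by
  have h1 := row2_one T hi hij
  have h2 := mul_le_mul_of_nonneg_left (w_le_a T hij h).2 (T.m_pos j).le
  linarith

lemma row_minusTwo {i : Fin n} (hi : T.IsMinusTwo i) :
    ∑ j ∈ univ.erase i, T.a i j * T.m j = 2 * T.w i * T.m i := by
  rw [row_erase, hi.2]; ring

theorem max_bound (hn : 1 < n) (hmin : T.IsMinimal) (hg : 2 ≤ T.genus) (i : Fin n)
    (hi : T.IsMinusTwo i)
    (hmax : ∀ j, T.IsMinusTwo j → T.m j * T.w j ≤ T.m i * T.w i) :
    T.m i * T.w i ≤ 384 * T.genus := by
  classical
  have hex : ∃ L, ∃ v, Walk T i L v := exists_walk hg hn hmin i hi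
  obtain ⟨v, hmt, hed, htouch, hlast⟩ := Nat.find_spec hex
  have hshort : ∀ L' v', Walk T i L' v' → Nat.find hex ≤ L' := fun L' v' h => Nat.find_min' hex ⟨v', h⟩
  generalize Nat.find hex = L at hmt hed hlast hshort
  clear hex
  subst hlast
  -- shortcuts
  have untouched : ∀ p, 1 ≤ p → p ≤ L → ¬ Touched T (v p) := by
    intro p h1 h2 ht
    have := hshort (L - p) (fun q => v (p + q)) ⟨fun q hq => hmt _ (by omega), fun q hq => hed _ (by omega),
      ht, by show v (p + (L - p)) = v L; rw [show p + (L - p) = L by omega]⟩
    omega
  have chordless : ∀ p q, p + 1 < q → q ≤ L → T.a (v p) (v q) = 0 := by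
    intro p q h1 h2
    by_contra h
    have := hshort (L - (q - p - 1)) (fun x => if x ≤ p then v x else v (x + (q - p - 1)))
      ⟨fun x hx => by dsimp only; split_ifs <;> exact hmt _ (by omega), fun x hx => by
        rcases lt_trichotomy x p with hxp | rfl | hxp
        · simpa [hxp.le, Nat.succ_le_of_lt hxp] using hed x (by omega)
        · simp only [le_refl, if_true, show ¬ x + 1 ≤ x by omega, if_false]
          rwa [show x + 1 + (q - x - 1) = q by omega]
        · simp only [show ¬ x ≤ p by omega, show ¬ x + 1 ≤ p by omega, if_false]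
          rw [show x + 1 + (q - p - 1) = x + (q - p - 1) + 1 by omega]
          exact hed _ (by omega),
        by simpa using htouch, by
        simp only [show ¬ L - (q - p - 1) ≤ p by omega, if_false]
        rw [show L - (q - p - 1) + (q - p - 1) = L by omega]⟩
    omega
  have hne : ∀ p q, p ≤ L → q ≤ L → p < q → v p ≠ v q := by
    intro p q hp hq hpq e
    have := hshort (L - (q - p)) (fun x => if x ≤ p then v x else v (x + (q - p)))
      ⟨fun x hx => by dsimp only; split_ifs <;> exact hmt _ (by omega), fun x hx => by
        rcases lt_trichotomy x p with hxp | rfl | hxp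
        · simpa [hxp.le, Nat.succ_le_of_lt hxp] using hed x (by omega)
        · simp only [le_refl, if_true, show ¬ x + 1 ≤ x by omega, if_false]
          rw [e, show x + 1 + (q - x) = q + 1 by omega]
          exact hed q (by omega)
        · simp only [show ¬ x ≤ p by omega, show ¬ x + 1 ≤ p by omega, if_false]
          rw [show x + 1 + (q - p) = x + (q - p) + 1 by omega]
          exact hed _ (by omega),
        by simpa using htouch, by
        by_cases hc : L - (q - p) ≤ p
        · simp only [hc, if_true]
          rw [show L - (q - p) = p by omega, e, show q = L by omega]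
        · simp only [hc, if_false]
          rw [show L - (q - p) + (q - p) = L by omega]⟩
    omega
  have hne' : ∀ p q, p ≤ L → q ≤ L → p ≠ q → v p ≠ v q := fun p q hp hq hpq => by
    rcases lt_or_gt_of_ne hpq with h | h
    · exact hne p q hp hq h
    · exact (hne q p hq hp h).symm
  have hinj : Set.InjOn v (Set.Iio (L + 1)) := fun p hp q hq e => by
    by_contra h
    exact hne' p q (Nat.le_of_lt_succ hp) (Nat.le_of_lt_succ hq) h e
  have b0 := touched_bound hn hmin (hmt 0 (Nat.zero_le _)) htouch
  have bd : ∀ p ≤ L, T.m (v p) * T.w (v p) ≤ 2 ^ p * (T.m (v 0) * T.w (v 0)) := by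
    intro p
    induction p with
    | zero => simp
    | succ p ih =>
      intro hp
      have := step_bound (hmt p (by omega)) (hne p (p + 1) (by omega) hp (by omega)) (hed p (by omega))
      have := ih (by omega)
      rw [pow_succ]
      linarith
  rcases le_or_gt L 6 with hsmall | hlong
  · have h1 := bd L le_rfl
    have h2 : (2 : ℤ) ^ L ≤ 2 ^ 6 := pow_le_pow_right₀ (by norm_num) hsmall
    have h3 : 0 ≤ T.m (v 0) * T.w (v 0) := mul_nonneg (T.m_pos _).le (T.w_pos _).le
    have h4 := mul_le_mul_of_nonneg_right h2 h3
    linarith
  -- long paths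
  have hLn : L + 1 < n := by
    obtain ⟨j, hj, -⟩ := htouch
    have := Finset.card_lt_card (s := (range (L + 1)).image v) (t := univ)
      ⟨subset_univ _, fun h => by
        obtain ⟨p, hp, rfl⟩ := Finset.mem_image.1 (h (mem_univ j))
        exact hj (hmt p (Nat.le_of_lt_succ (Finset.mem_range.1 hp)))⟩
    rwa [Finset.card_image_of_injOn (by simpa using hinj), Finset.card_range, Finset.card_univ,
      Fintype.card_fin] at this
  -- proper families
  have proper : ∀ (t : ℕ) (u : ℕ → Fin n), Set.InjOn u (Set.Iio t) → (∀ p < t, T.IsMinusTwo (u p)) → t < n := by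
    intro t u hu hum
    obtain ⟨j, hj, -⟩ := htouch
    have := Finset.card_lt_card (s := (range t).image u) (t := univ)
      ⟨subset_univ _, fun h => by
        obtain ⟨p, hp, rfl⟩ := Finset.mem_image.1 (h (mem_univ j))
        exact hj (hum p (Finset.mem_range.1 hp))⟩
    rwa [Finset.card_image_of_injOn (by simpa using hu), Finset.card_range, Finset.card_univ,
      Fintype.card_fin] at this
  have sub : ∀ (t : ℕ) (f : ℕ → ℕ), (∀ p < t, f p ≤ L) → (∀ p < t, ∀ q < t, f p = f q → p = q) →
      Set.InjOn (fun p => v (f p)) (Set.Iio t) := fun t f hf hfi p hp q hq h =>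
    hfi p hp q hq (hinj (show f p < L + 1 by have := hf p hp; omega)
      (show f q < L + 1 by have := hf q hq; omega) h)
  have simple : ∀ p, 1 ≤ p → p + 2 ≤ L → T.w (v p) = T.w (v (p + 1)) := by
    intro p hp1 hp2
    by_cases h : p + 4 ≤ L + 1
    · have := inner_edge_simple T (v := fun x => v (p - 1 + x)) (by omega)
        (sub 5 _ (fun x hx => by omega) (fun a _ b _ h => by omega))
        (fun x hx => hmt _ (by omega)) (fun x hx => hed _ (by omega))
      simpa [show p - 1 + 1 = p by omega, show p - 1 + 2 = p + 1 by omega] using this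
    · have := inner_edge_simple T (v := fun x => v (p + 2 - x)) (by omega)
        (sub 5 _ (fun x hx => by omega) (fun a _ b _ h => by omega))
        (fun x hx => hmt _ (by omega)) (fun x hx => by
          show T.a (v (p + 2 - x)) (v (p + 2 - (x + 1))) ≠ 0
          rw [a_comm, show p + 2 - x = p + 2 - (x + 1) + 1 by omega]
          exact hed _ (by omega))
      simpa [show p + 2 - 1 = p + 1 by omega, show p + 2 - 2 = p by omega] using this.symm
  have wc : ∀ p, 1 ≤ p → p ≤ L - 1 → T.w (v p) = T.w (v 1) := by
    intro p hp1
    induction p, hp1 using Nat.le_induction with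
    | base => simp
    | succ p hp1 ih => intro hp2; rw [← simple p hp1 (by omega)]; exact ih (by omega)
  have aw : ∀ p, 1 ≤ p → p + 2 ≤ L → T.a (v p) (v (p + 1)) = T.w (v 1) := fun p h1 h2 => by
    rw [a_eq_w T (by omega) (hne p (p + 1) (by omega) (by omega) (by omega)) (hmt _ (by omega))
      (hmt _ (by omega)) (hed p (by omega)) (simple p h1 h2).symm, wc p h1 (by omega)]
  have nbm : ∀ p, 1 ≤ p → p ≤ L → ∀ z, T.a (v p) z ≠ 0 → T.IsMinusTwo z := fun p h1 h2 z hz => by
    by_contra h
    exact untouched p h1 h2 ⟨z, h, hz⟩
  -- vertices off the path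
  have off : ∀ z p, p ≤ L → T.a (v p) z ≠ 0 → (∀ q, q ≤ L → v q ≠ z) →
      T.IsMinusTwo z → p ≠ L → 2 ≤ p → p + 2 ≤ L → False := by
    intro z p hp hz hzv hzm _ h2 h3
    by_cases h7 : 3 ≤ p ∧ p + 3 ≤ L
    · have hu : Set.InjOn (fun x => if x ≤ 6 then v (p - 3 + x) else z) (Set.Iio 8) := by
        intro a ha b hb e
        simp only [Set.mem_Iio] at ha hb
        dsimp only at e
        split_ifs at e <;>
          first
          | omega
          | exact absurd e (hzv _ (by omega))
          | exact absurd e.symm (hzv _ (by omega))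
          | (have := hinj (show _ < L + 1 by omega) (show _ < L + 1 by omega) e; omega)
      have hum : ∀ x < 8, T.IsMinusTwo (if x ≤ 6 then v (p - 3 + x) else z) := fun x hx => by
        split_ifs
        · exact hmt _ (by omega)
        · exact hzm
      refine (key_lt T _ (fun x => (([1, 2, 3, 4, 3, 2, 1, 2] : List ℕ).getD x 0 : ℝ)) (proper 8 _ hu hum) hu hum
        (fun _ _ => Nat.cast_nonneg _) ⟨0, by omega, by norm_num⟩
        {(0, 1), (1, 2), (2, 3), (3, 4), (4, 5), (5, 6), (7, 3)} (by decide)).not_ge ?_
      have c1 : ∀ x, x < 6 → 1 ≤ e T (v (p - 3 + x)) (v (p - 3 + (x + 1))) := fun x hx =>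
        one_le_e T (hne' _ _ (by omega) (by omega) (by omega)) (hed (p - 3 + x) (by omega))
      have c2 : 1 ≤ e T z (v (p - 3 + 3)) := one_le_e T (hzv _ (by omega)).symm (by
        rw [a_comm, show p - 3 + 3 = p by omega]; exact hz)
      have := c1 0 (by omega)
      have := c1 1 (by omega)
      have := c1 2 (by omega)
      have := c1 3 (by omega)
      have := c1 4 (by omega)
      have := c1 5 (by omega)
      simp only [Nat.add_zero, Nat.zero_add, Nat.reduceAdd] at *
      simp [Finset.sum_range_succ]
      linarith
    · -- `E₈~`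
      obtain ⟨f, hf, hfi, hfe, hfb⟩ : ∃ f : ℕ → ℕ, (∀ x < 8, f x ≤ L) ∧ (∀ x < 8, ∀ y < 8, f x = f y → x = y) ∧
          (∀ x < 7, f x + 1 = f (x + 1) ∨ f (x + 1) + 1 = f x) ∧ f 5 = p := by
        rcases show p = 2 ∨ p + 2 = L by omega with rfl | h
        · exact ⟨fun x => 7 - x, fun x hx => by dsimp only; omega, fun x _ y _ h => by dsimp only at h; omega,
            fun x hx => by dsimp only; omega, rfl⟩
        · exact ⟨fun x => L - 7 + x, fun x hx => by dsimp only; omega, fun x _ y _ h => by dsimp only at h; omega,
            fun x hx => by dsimp only; omega, by show L - 7 + 5 = p; omega⟩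
      have hu : Set.InjOn (fun x => if x ≤ 7 then v (f x) else z) (Set.Iio 9) := by
        intro a ha b hb e
        simp only [Set.mem_Iio] at ha hb
        dsimp only at e
        split_ifs at e
        · exact hfi a (by omega) b (by omega) (hinj (show _ < L + 1 by have := hf a (by omega); omega)
            (show _ < L + 1 by have := hf b (by omega); omega) e)
        · exact absurd e (hzv _ (hf a (by omega)))
        · exact absurd e.symm (hzv _ (hf b (by omega)))
        · omega
      have hum : ∀ x < 9, T.IsMinusTwo (if x ≤ 7 then v (f x) else z) := fun x hx => by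
        split_ifs with h
        · exact hmt _ (hf x (by omega))
        · exact hzm
      refine (key_lt T _ (fun x => (([1, 2, 3, 4, 5, 6, 4, 2, 3] : List ℕ).getD x 0 : ℝ)) (proper 9 _ hu hum) hu hum
        (fun _ _ => Nat.cast_nonneg _) ⟨0, by omega, by norm_num⟩
        {(0, 1), (1, 2), (2, 3), (3, 4), (4, 5), (5, 6), (6, 7), (8, 5)} (by decide)).not_ge ?_
      have c1 : ∀ x, x < 7 → 1 ≤ e T (v (f x)) (v (f (x + 1))) := fun x hx => by
        refine one_le_e T (hne' _ _ (hf x (by omega)) (hf _ (by omega)) fun h => by
          have := hfi x (by omega) (x + 1) (by omega) h; omega) ?_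
        rcases hfe x hx with h | h
        · rw [← h]; exact hed _ (by have := hf (x + 1) (by omega); omega)
        · rw [a_comm, ← h]; exact hed _ (by have := hf x (by omega); omega)
      have c2 : 1 ≤ e T z (v (f 5)) := one_le_e T (hzv _ (hf 5 (by omega))).symm (by
        rw [a_comm, hfb]; exact hz)
      have := c1 0 (by omega)
      have := c1 1 (by omega)
      have := c1 2 (by omega)
      have := c1 3 (by omega)
      have := c1 4 (by omega)
      have := c1 5 (by omega)
      have := c1 6 (by omega)
      simp only [Nat.add_zero, Nat.zero_add, Nat.reduceAdd] at *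
      simp [Finset.sum_range_succ]
      linarith
  have W := T.w_pos (v 1)
  -- linear on the middle part
  have mid : ∀ p, 2 ≤ p → p + 2 ≤ L → T.m (v (p - 1)) + T.m (v (p + 1)) = 2 * T.m (v p) := by
    intro p h1 h2
    have h := row_minusTwo (hmt p (by omega))
    rw [← Finset.sum_subset (s₁ := {v (p - 1), v (p + 1)}) (fun z hz => by
        simp only [Finset.mem_insert, Finset.mem_singleton] at hz
        refine Finset.mem_erase.2 ⟨?_, mem_univ _⟩
        rcases hz with rfl | rfl <;> exact hne' _ _ (by omega) (by omega) (by omega))
      (fun z hz hnz => by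
        simp only [Finset.mem_insert, Finset.mem_singleton, not_or] at hnz
        by_contra h0
        have hz' : T.a (v p) z ≠ 0 := fun e => h0 (by rw [e, zero_mul])
        by_cases hq : ∃ q, q ≤ L ∧ v q = z
        · obtain ⟨q, hq, rfl⟩ := hq
          rcases show q + 1 < p ∨ q + 1 = p ∨ q = p ∨ q = p + 1 ∨ p + 1 < q by omega with a | a | a | a | a
          · exact hz' (by rw [a_comm]; exact chordless q p a (by omega))
          · exact hnz.1 (by rw [show p - 1 = q by omega])
          · exact (Finset.mem_erase.1 hz).1 (by rw [a])
          · exact hnz.2 (by rw [a])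
          · exact hz' (chordless p q a hq)
        · push_neg at hq
          exact off z p (by omega) hz' hq (nbm p (by omega) (by omega) z hz') (by omega) h1 h2),
      Finset.sum_pair (hne' _ _ (by omega) (by omega) (by omega)), wc p (by omega) (by omega),
      aw p (by omega) h2, a_comm T (v p) (v (p - 1))] at h
    have h' := aw (p - 1) (by omega) (by omega)
    rw [show p - 1 + 1 = p by omega] at h'
    rw [h'] at h
    exact mul_left_cancel₀ W.ne' (by linarith)
  by_cases hinc : T.m (v (L - 1)) ≤ T.m (v (L - 2))
  · -- decreasing towards `i`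
    have dec : ∀ d, d + 3 ≤ L → T.m (v (L - 1 - d)) ≤ T.m (v (L - 2 - d)) ∧ T.m (v (L - 1)) ≤ T.m (v (L - 2 - d)) := by
      intro d
      induction d with
      | zero => exact fun _ => ⟨hinc, hinc⟩
      | succ d ih =>
        intro hd
        obtain ⟨h1, h2⟩ := ih (by omega)
        have h := mid (L - 2 - d) (by omega) (by omega)
        rw [show L - 2 - d + 1 = L - 1 - d by omega, show L - 2 - d - 1 = L - 2 - (d + 1) by omega] at h
        rw [show L - 1 - (d + 1) = L - 2 - d by omega]
        constructor <;> omega
    have h1 := (dec (L - 3) (by omega)).2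
    rw [show L - 2 - (L - 3) = 1 by omega] at h1
    have hs := step_bound (hmt (L - 1) (by omega)) (hne (L - 1) L (by omega) le_rfl (by omega))
      (by have := hed (L - 1) (by omega); rwa [show L - 1 + 1 = L by omega] at this)
    have b1 := bd 1 (by omega)
    rw [wc (L - 1) (by omega) le_rfl] at hs
    have := mul_le_mul_of_nonneg_right h1 W.le
    linarith
  -- increasing towards `i`: impossible at a maximum
  exfalso
  push_neg at hinc
  have eL : L - 1 + 1 = L := by omega
  have e2 : L - 2 + 1 = L - 1 := by omega
  have hedL : T.a (v (L - 1)) (v L) ≠ 0 := by have := hed (L - 1) (by omega); rwa [eL] at this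
  have hn21 : v (L - 2) ≠ v (L - 1) := hne' _ _ (by omega) (by omega) (by omega)
  have hn20 : v (L - 2) ≠ v L := hne' _ _ (by omega) (by omega) (by omega)
  have hn10 : v (L - 1) ≠ v L := hne' _ _ (by omega) (by omega) (by omega)
  have a21 : T.a (v (L - 1)) (v (L - 2)) = T.w (v 1) := by
    have := aw (L - 2) (by omega) (by omega)
    rwa [e2, a_comm] at this
  have wL1 := wc (L - 1) (by omega) le_rfl
  have wL2 := wc (L - 2) (by omega) (by omega)
  have um : ∀ z, (T.a (v (L - 1)) z ≠ 0 ∨ T.a (v L) z ≠ 0) → T.IsMinusTwo z → ¬ Touched T z := by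
    rintro z (hz | hz) hzm ht
    · have := hshort 2 (fun x => if x = 0 then z else if x = 1 then v (L - 1) else v L)
        ⟨fun x hx => by dsimp only; split_ifs <;> [exact hzm; exact hmt _ (by omega); exact hmt _ le_rfl],
          fun x hx => by
            interval_cases x
            · simpa [a_comm T z] using hz
            · simpa using hedL,
          by simpa using ht, by simp⟩
      omega
    · have := hshort 1 (fun x => if x = 0 then z else v L)
        ⟨fun x hx => by dsimp only; split_ifs <;> [exact hzm; exact hmt _ le_rfl],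
          fun x hx => by
            obtain rfl : x = 0 := by omega
            simpa [a_comm T z] using hz,
          by simpa using ht, by simp⟩
      omega
  have um2 : ∀ z, T.IsMinusTwo z → (T.a (v (L - 1)) z ≠ 0 ∨ T.a (v L) z ≠ 0) →
      ∀ y, T.a z y ≠ 0 → T.IsMinusTwo y := fun z hzm hz y hy => by
    by_contra h
    exact um z hz hzm ⟨y, h, hy⟩
  -- off-path neighbours of the two last vertices cannot go further
  have notpath : ∀ q ≤ L, q + 2 ≤ L - 1 → T.a (v (L - 1)) (v q) = 0 := fun q hq h => by
    rw [a_comm]; exact chordless q (L - 1) (by omega) (by omega)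
  by_cases hbr : ∃ u, T.a (v (L - 1)) u ≠ 0 ∧ u ≠ v (L - 1) ∧ u ≠ v (L - 2) ∧ u ≠ v L
  · obtain ⟨u, hu, hu1, hu2, hu3⟩ := hbr
    have hum : T.IsMinusTwo u := nbm (L - 1) (by omega) (by omega) u hu
    have huv : ∀ q ≤ L, v q ≠ u := fun q hq e => by
      subst e
      rcases show q + 2 ≤ L - 1 ∨ q = L - 2 ∨ q = L - 1 ∨ q = L by omega with a | a | a | a
      · exact hu (notpath q hq a)
      · exact hu2 (by rw [a])
      · exact hu1 (by rw [a])
      · exact hu3 (by rw [a])
    have arm : ∀ x y, (x = v L ∧ y = u ∨ x = u ∧ y = v L) →
        T.w x = T.w (v 1) ∧ T.a (v (L - 1)) x = T.w (v 1) ∧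
          ∀ z, z ≠ x → T.a x z ≠ 0 → z = v (L - 1) := by
      intro x y hxy
      have hxm : T.IsMinusTwo x := by rcases hxy with ⟨rfl, -⟩ | ⟨rfl, -⟩ <;> [exact hmt _ le_rfl; exact hum]
      have hym : T.IsMinusTwo y := by rcases hxy with ⟨-, rfl⟩ | ⟨-, rfl⟩ <;> [exact hum; exact hmt _ le_rfl]
      have hxy' : x ≠ y := by
        rcases hxy with ⟨rfl, rfl⟩ | ⟨rfl, rfl⟩ <;> [exact hu3.symm; exact hu3]
      have hax : T.a (v (L - 1)) x ≠ 0 := by rcases hxy with ⟨rfl, -⟩ | ⟨rfl, -⟩ <;> [exact hedL; exact hu]
      have hay : T.a (v (L - 1)) y ≠ 0 := by rcases hxy with ⟨-, rfl⟩ | ⟨-, rfl⟩ <;> [exact hu; exact hedL]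
      have hxv : ∀ q, q ≤ L - 1 → v q ≠ x := by
        intro q hq
        rcases hxy with ⟨rfl, -⟩ | ⟨rfl, -⟩ <;> [exact hne q L (by omega) le_rfl (by omega); exact huv q (by omega)]
      have hyv : ∀ q, q ≤ L - 1 → v q ≠ y := by
        intro q hq
        rcases hxy with ⟨-, rfl⟩ | ⟨-, rfl⟩ <;> [exact huv q (by omega); exact hne q L (by omega) le_rfl (by omega)]
      have hu4 : Set.InjOn (fun a => if a = 0 then x else if a = 1 then v (L - 1) else
          if a = 2 then v (L - 2) else y) (Set.Iio (1 + 3)) := by
        intro a ha b hb h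
        simp only [Set.mem_Iio] at ha hb
        dsimp only at h
        split_ifs at h <;>
          first
          | omega
          | exact absurd h (hxv _ (by omega))
          | exact absurd h.symm (hxv _ (by omega))
          | exact absurd h (hyv _ (by omega))
          | exact absurd h.symm (hyv _ (by omega))
          | exact absurd h hxy'
          | exact absurd h.symm hxy'
          | exact absurd h hn21
          | exact absurd h.symm hn21
      have hum4 : ∀ a < 1 + 3, T.IsMinusTwo (if a = 0 then x else if a = 1 then v (L - 1) else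
          if a = 2 then v (L - 2) else y) := fun a ha => by
        split_ifs <;> [exact hxm; exact hmt _ (by omega); exact hmt _ (by omega); exact hym]
      have hw := branch_w T (k := 1) (v := fun a => if a = 0 then x else if a = 1 then v (L - 1) else
          if a = 2 then v (L - 2) else y) le_rfl (proper _ _ hu4 hum4) hu4 hum4
        (fun a ha => by
          obtain rfl : a = 0 := by omega
          simpa [a_comm T x] using hax)
        (by simpa [a21] using W.ne')
        (by simpa using hay)
      have hwx : T.w x = T.w (v 1) := by simpa [wL1] using hw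
      refine ⟨hwx, ?_, fun z hzx hz => ?_⟩
      · rw [a_eq_w T (by omega) (hxv _ le_rfl) (hmt _ (by omega)) hxm hax (by rw [hwx, wL1]), wL1]
      · by_contra hz1
        have hzm : T.IsMinusTwo z := um2 x hxm (.inl hax) z hz
        have hzy : z ≠ y := by
          rintro rfl
          have hu3' : Set.InjOn (fun a => if a = 0 then x else if a = 1 then v (L - 1) else z) (Set.Iio 3) := by
            intro a ha b hb h
            simp only [Set.mem_Iio] at ha hb
            interval_cases a <;> interval_cases b <;>
              simp [hxv (L - 1) le_rfl, (hxv (L - 1) le_rfl).symm, hzx, hzx.symm, hz1, Ne.symm hz1] at h <;> rfl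
          have hum3 : ∀ a < 3, T.IsMinusTwo (if a = 0 then x else if a = 1 then v (L - 1) else z) :=
            fun a ha => by split_ifs <;> [exact hxm; exact hmt _ (by omega); exact hzm]
          exact absurd (forest T (proper 3 _ hu3' hum3) (by omega) hu3' hum3 {(0, 1), (1, 2), (2, 0)} (by decide)
            (by
              simp only [Finset.mem_insert, Finset.mem_singleton, forall_eq_or_imp, forall_eq]
              exact ⟨by simpa [a_comm T x] using hax, by simpa using hay, by simpa [a_comm T z] using hz⟩)) (by decide)
        have hzv : ∀ q, L - 7 ≤ q → q ≤ L - 1 → v q ≠ z := by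
          intro q h7 hq e
          subst e
          rcases hxy with ⟨rfl, -⟩ | ⟨rfl, -⟩
          · rcases show q + 1 < L ∨ q + 1 = L by omega with a | a
            · exact hz (by rw [a_comm]; exact chordless q L a le_rfl)
            · exact hz1 (by rw [show L - 1 = q by omega])
          · -- a cycle through `u`
            have hq1 : q < L - 1 := lt_of_le_of_ne hq (fun e => hz1 (by rw [e]))
            have huc : Set.InjOn (fun a => if a ≤ L - 1 - q then v (q + a) else x) (Set.Iio (L - 1 - q + 2)) := by
              intro a ha b hb h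
              simp only [Set.mem_Iio] at ha hb
              dsimp only at h
              split_ifs at h <;>
                first
                | omega
                | exact absurd h (hxv _ (by omega))
                | exact absurd h.symm (hxv _ (by omega))
                | (have := hinj (show _ < L + 1 by omega) (show _ < L + 1 by omega) h; omega)
            have humc : ∀ a < L - 1 - q + 2, T.IsMinusTwo (if a ≤ L - 1 - q then v (q + a) else x) :=
              fun a ha => by split_ifs <;> [exact hmt _ (by omega); exact hxm]
            have := forest T (proper _ _ huc humc) (by omega) huc humc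
              (insert (L - 1 - q + 1, 0) ((range (L - 1 - q + 1)).image fun a => (a, a + 1))) ?_ ?_
            · rw [Finset.card_insert_of_notMem (by simp), Finset.card_image_of_injective _
                (fun a b h => (Prod.ext_iff.1 h).1), Finset.card_range] at this
              omega
            · intro pq hpq
              simp only [Finset.mem_insert, Finset.mem_image, Finset.mem_range, not_or, not_exists, not_and,
                Prod.ext_iff] at hpq ⊢
              rcases hpq with h | ⟨a, ha, h⟩ <;>
                exact ⟨by omega, by omega, by omega, by omega, fun _ _ => by omega⟩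
            · intro pq hpq
              simp only [Finset.mem_insert, Finset.mem_image, Finset.mem_range] at hpq
              rcases hpq with rfl | ⟨a, ha, rfl⟩
              · simpa using hz
              · rcases lt_or_eq_of_le (show a ≤ L - 1 - q by omega) with h | h
                · simp only [show a ≤ L - 1 - q by omega, show a + 1 ≤ L - 1 - q by omega, if_true]
                  exact hed (q + a) (by omega)
                · simp only [show a ≤ L - 1 - q by omega, show ¬ a + 1 ≤ L - 1 - q by omega, if_true, if_false]
                  rw [show q + a = L - 1 by omega]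
                  exact hax
        have hu9 : Set.InjOn (fun a => if a ≤ 5 then v (L - 6 + a) else if a = 6 then x else if a = 7 then z else y)
            (Set.Iio 9) := by
          intro a ha b hb h
          simp only [Set.mem_Iio] at ha hb
          dsimp only at h
          split_ifs at h <;>
            first
            | omega
            | exact absurd h (hxv _ (by omega))
            | exact absurd h.symm (hxv _ (by omega))
            | exact absurd h (hyv _ (by omega))
            | exact absurd h.symm (hyv _ (by omega))
            | exact absurd h (hzv _ (by omega) (by omega))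
            | exact absurd h.symm (hzv _ (by omega) (by omega))
            | exact absurd h hxy'
            | exact absurd h.symm hxy'
            | exact absurd h hzy
            | exact absurd h.symm hzy
            | exact absurd h hzx
            | exact absurd h.symm hzx
            | (have := hinj (show _ < L + 1 by omega) (show _ < L + 1 by omega) h; omega)
        have hum9 : ∀ a < 9, T.IsMinusTwo (if a ≤ 5 then v (L - 6 + a) else if a = 6 then x else
            if a = 7 then z else y) := fun a ha => by
          split_ifs <;> [exact hmt _ (by omega); exact hxm; exact hzm; exact hym]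
        refine (key_lt T _ (fun a => (([1, 2, 3, 4, 5, 6, 4, 2, 3] : List ℕ).getD a 0 : ℝ)) (proper 9 _ hu9 hum9)
          hu9 hum9 (fun _ _ => Nat.cast_nonneg _) ⟨0, by omega, by norm_num⟩
          {(0, 1), (1, 2), (2, 3), (3, 4), (4, 5), (5, 6), (6, 7), (8, 5)} (by decide)).not_ge ?_
        have c1 : ∀ a, a < 5 → 1 ≤ e T (v (L - 6 + a)) (v (L - 6 + (a + 1))) := fun a ha =>
          one_le_e T (hne' _ _ (by omega) (by omega) (by omega)) (hed (L - 6 + a) (by omega))
        have e5 : L - 6 + 5 = L - 1 := by omega
        have c2 : 1 ≤ e T (v (L - 6 + 5)) x := by rw [e5]; exact one_le_e T (hxv _ le_rfl) hax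
        have c3 : 1 ≤ e T x z := one_le_e T hzx.symm hz
        have c4 : 1 ≤ e T y (v (L - 6 + 5)) := by
          rw [e5]; exact one_le_e T (hyv _ le_rfl).symm (by rw [a_comm]; exact hay)
        have := c1 0 (by omega)
        have := c1 1 (by omega)
        have := c1 2 (by omega)
        have := c1 3 (by omega)
        have := c1 4 (by omega)
        simp only [Nat.add_zero, Nat.zero_add, Nat.reduceAdd] at *
        simp [Finset.sum_range_succ]
        linarith
    obtain ⟨wL, aL, leafL⟩ := arm (v L) u (.inl ⟨rfl, rfl⟩)
    obtain ⟨wu, au, leafu⟩ := arm u (v L) (.inr ⟨rfl, rfl⟩)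
    have leafrow : ∀ x, T.IsMinusTwo x → T.w x = T.w (v 1) → T.a (v (L - 1)) x = T.w (v 1) → x ≠ v (L - 1) →
        (∀ z, z ≠ x → T.a x z ≠ 0 → z = v (L - 1)) → T.m (v (L - 1)) = 2 * T.m x := by
      intro x hxm hw ha hx hl
      have h := row_minusTwo hxm
      rw [Finset.sum_eq_single (v (L - 1)) (fun z hz hne => by
          by_contra h0
          exact hne (hl z (Finset.mem_erase.1 hz).1 (fun e => h0 (by rw [e, zero_mul]))))
        (fun h0 => absurd (Finset.mem_erase.2 ⟨hx.symm, mem_univ _⟩) h0), a_comm, ha, hw] at h
      exact mul_left_cancel₀ W.ne' (by linarith)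
    have rL := leafrow (v L) (hmt _ le_rfl) wL aL hn10.symm leafL
    have ru := leafrow u hum wu au hu1 leafu
    -- the row of `v (L - 1)`: no further neighbour
    have h := row_minusTwo (hmt (L - 1) (by omega))
    rw [← Finset.sum_subset (s₁ := {v (L - 2), v L, u}) (fun z hz => by
        simp only [Finset.mem_insert, Finset.mem_singleton] at hz
        refine Finset.mem_erase.2 ⟨?_, mem_univ _⟩
        rcases hz with rfl | rfl | rfl <;> [exact hn21; exact hn10.symm; exact hu1])
      (fun z hz hnz => by
        simp only [Finset.mem_insert, Finset.mem_singleton, not_or] at hnz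
        by_contra h0
        have hz' : T.a (v (L - 1)) z ≠ 0 := fun e => h0 (by rw [e, zero_mul])
        have hzm := nbm (L - 1) (by omega) (by omega) z hz'
        have hz1 := (Finset.mem_erase.1 hz).1
        have hu5 : Set.InjOn (fun a => if a = 0 then v (L - 1) else if a = 1 then v (L - 2) else
            if a = 2 then v L else if a = 3 then u else z) (Set.Iio 5) := by
          intro a ha b hb h
          simp only [Set.mem_Iio] at ha hb
          interval_cases a <;> interval_cases b <;>
            simp [hn21, hn21.symm, hn10, hn10.symm, hn20, hn20.symm, hu1, hu1.symm, hu2, hu2.symm, hu3, hu3.symm,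
              hz1, Ne.symm hz1, hnz.1, Ne.symm hnz.1, hnz.2.1, Ne.symm hnz.2.1, hnz.2.2, Ne.symm hnz.2.2] at h <;> rfl
        have hum5 : ∀ a < 5, T.IsMinusTwo (if a = 0 then v (L - 1) else if a = 1 then v (L - 2) else
            if a = 2 then v L else if a = 3 then u else z) := fun a ha => by
          split_ifs <;> [exact hmt _ (by omega); exact hmt _ (by omega); exact hmt _ le_rfl; exact hum; exact hzm]
        refine (key_lt T _ (fun a => if a = 0 then 2 else 1) (proper 5 _ hu5 hum5) hu5 hum5
          (fun a _ => by split_ifs <;> norm_num) ⟨0, by omega, by norm_num⟩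
          {(0, 1), (0, 2), (0, 3), (0, 4)} (by decide)).not_ge ?_
        have := one_le_e T hn21.symm (by rw [a21]; exact W.ne')
        have := one_le_e T hn10 hedL
        have := one_le_e T hu1.symm hu
        have := one_le_e T (Ne.symm hz1) hz'
        simp [Finset.sum_range_succ]
        linarith),
      Finset.sum_insert (by simp [hn20, hu2.symm]), Finset.sum_pair hu3.symm, a21, aL, au, wL1] at h
    have : T.m (v (L - 2)) + (T.m (v L) + T.m u) = 2 * T.m (v (L - 1)) := mul_left_cancel₀ W.ne' (by linarith)
    omega
  push_neg at hbr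
  -- row of `v (L-1)`
  have hrow := row_minusTwo (hmt (L - 1) (by omega))
  rw [← Finset.sum_subset (s₁ := {v (L - 2), v L}) (fun z hz => by
      simp only [Finset.mem_insert, Finset.mem_singleton] at hz
      refine Finset.mem_erase.2 ⟨?_, mem_univ _⟩
      rcases hz with rfl | rfl <;> [exact hn21; exact hn10.symm])
    (fun z hz hnz => by
      simp only [Finset.mem_insert, Finset.mem_singleton, not_or] at hnz
      by_contra h0
      exact hnz.2 (hbr z (fun e => h0 (by rw [e, zero_mul])) (Finset.mem_erase.1 hz).1 hnz.1)),
    Finset.sum_pair hn20, a21, wL1] at hrow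
  have hgt : T.w (v 1) * T.m (v (L - 1)) < T.a (v (L - 1)) (v L) * T.m (v L) := by
    have := mul_lt_mul_of_pos_left hinc W
    linarith
  -- neighbours of `i` off the path
  have nbL : ∀ z, z ≠ v L → T.a (v L) z ≠ 0 → z ≠ v (L - 1) → T.IsMinusTwo z ∧ ∀ q ≤ L, v q ≠ z := by
    intro z hzi hz hz1
    refine ⟨nbm L (by omega) le_rfl z hz, fun q hq e => ?_⟩
    subst e
    rcases show q + 1 < L ∨ q + 1 = L ∨ q = L by omega with a | a | a
    · exact hz (by rw [a_comm]; exact chordless q L a le_rfl)
    · exact hz1 (by rw [show L - 1 = q by omega])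
    · exact hzi (by rw [a])
  -- the path can be prolonged by one step
  have prol : ∀ z, T.IsMinusTwo z → (∀ q ≤ L, v q ≠ z) → T.a (v L) z ≠ 0 →
      T.w (v (L - 1)) = T.w (v L) := by
    intro z hzm hzv hz
    refine (inner_edge_simple T (v := fun a => if a = 0 then z else v (L + 1 - a)) (by omega) ?_ ?_ ?_).symm.trans ?_
    · intro a ha b hb h
      simp only [Set.mem_Iio] at ha hb
      dsimp only at h
      split_ifs at h <;>
        first
        | omega
        | exact absurd h (hzv _ (by omega))
        | exact absurd h.symm (hzv _ (by omega))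
        | (have := hinj (show _ < L + 1 by omega) (show _ < L + 1 by omega) h; omega)
    · intro a ha
      split_ifs <;> [exact hzm; exact hmt _ (by omega)]
    · intro a ha
      rcases Nat.eq_zero_or_pos a with rfl | ha0
      · simpa [a_comm T z] using hz
      · simp only [show a + 1 ≠ 0 by omega, ha0.ne', if_false]
        rw [a_comm, show L + 1 - a = L + 1 - (a + 1) + 1 by omega]
        exact hed _ (by omega)
    · simp [show L + 1 - 2 = L - 1 by omega]
  rcases chain_edge T (by omega) hn10.symm hn21.symm hn20.symm (hmt L le_rfl) (hmt (L - 1) (by omega)) (hmt (L - 2) (by omega))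
    (by rw [a_comm]; exact hedL) (by rw [a21]; exact W.ne') with ⟨k, ka⟩ | ⟨k, ka⟩ | ⟨k, ka⟩
  rotate_left
  · -- double edge at the end, `i` lighter
    have hleaf : ∀ z, z ≠ v L → T.a (v L) z ≠ 0 → z = v (L - 1) := fun z h1 h2 => by
      by_contra h3
      obtain ⟨hzm, hzv⟩ := nbL z h1 h2 h3
      have := prol z hzm hzv h2
      have := T.w_pos (v L)
      omega
    have h := row_minusTwo (hmt L le_rfl)
    rw [Finset.sum_eq_single (v (L - 1)) (fun z hz hne => by
        by_contra h0
        exact hne (hleaf z (Finset.mem_erase.1 hz).1 (fun e => h0 (by rw [e, zero_mul]))))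
      (fun h0 => absurd (Finset.mem_erase.2 ⟨hn10, mem_univ _⟩) h0), ka] at h
    have hm : T.m (v (L - 1)) = T.m (v L) :=
      mul_left_cancel₀ (show 2 * T.w (v L) ≠ 0 by have := T.w_pos (v L); omega) (by linarith)
    rw [a_comm, ka, ← k, wL1, hm] at hgt
    exact lt_irrefl _ hgt
  · -- double edge at the end, `i` heavier
    have hleaf : ∀ z, z ≠ v L → T.a (v L) z ≠ 0 → z = v (L - 1) := fun z h1 h2 => by
      by_contra h3
      obtain ⟨hzm, hzv⟩ := nbL z h1 h2 h3
      have := prol z hzm hzv h2
      have := T.w_pos (v (L - 1))
      omega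
    have h := row_minusTwo (hmt L le_rfl)
    rw [Finset.sum_eq_single (v (L - 1)) (fun z hz hne => by
        by_contra h0
        exact hne (hleaf z (Finset.mem_erase.1 hz).1 (fun e => h0 (by rw [e, zero_mul]))))
      (fun h0 => absurd (Finset.mem_erase.2 ⟨hn10, mem_univ _⟩) h0), ka, k] at h
    have hm : T.m (v (L - 1)) = 2 * T.m (v L) :=
      mul_left_cancel₀ (show 2 * T.w (v (L - 1)) ≠ 0 by have := T.w_pos (v (L - 1)); omega) (by linarith)
    rw [a_comm, ka, wL1, hm] at hgt
    linarith
  -- simple edge: the multiplicity still increases at `i`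
  rw [a_comm, ka] at hgt
  have wi : T.w (v L) = T.w (v 1) := by rw [← k, wL1]
  rw [wi] at hgt
  rw [a_comm T (v (L - 1)) (v L), ka, wi] at hrow
  have mgt : T.m (v (L - 1)) < T.m (v L) := lt_of_mul_lt_mul_left hgt W.le
  have aL : T.a (v L) (v (L - 1)) = T.w (v 1) := by rw [ka, wi]
  have hrowi := row_minusTwo (hmt L le_rfl)
  rw [← Finset.add_sum_erase _ _ (Finset.mem_erase.2 ⟨hn10, mem_univ (v (L - 1))⟩), aL, wi] at hrowi
  have hsum : T.w (v 1) * T.m (v L) < ∑ z ∈ (univ.erase (v L)).erase (v (L - 1)), T.a (v L) z * T.m z := by
    have := mul_lt_mul_of_pos_left mgt W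
    linarith
  obtain ⟨z, hz, hzpos⟩ : ∃ z ∈ (univ.erase (v L)).erase (v (L - 1)), T.a (v L) z ≠ 0 := by
    by_contra h
    push_neg at h
    rw [Finset.sum_eq_zero fun z hz => by rw [h z hz, zero_mul]] at hsum
    linarith [mul_pos W (T.m_pos (v L))]
  simp only [Finset.mem_erase, mem_univ, and_true] at hz
  obtain ⟨hzm, hzv⟩ := nbL z hz.2 hzpos hz.1
  have hzn : z ≠ v (L - 1) := hz.1
  by_cases hsec : ∃ y, T.a (v L) y ≠ 0 ∧ y ≠ v L ∧ y ≠ v (L - 1) ∧ y ≠ z
  · obtain ⟨y, hy, hy1, hy2, hy3⟩ := hsec
    obtain ⟨hym, hyv⟩ := nbL y hy1 hy hy2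
    have arm : ∀ x x', (x = z ∧ x' = y ∨ x = y ∧ x' = z) → T.w x = T.w (v 1) ∧ T.a (v L) x = T.w (v 1) ∧
        ∀ t, t ≠ x → T.a x t ≠ 0 → t = v L := by
      intro x x' hxx
      obtain ⟨hxm, hx'm, hxx', hax, hax', hxv, hx'v⟩ : T.IsMinusTwo x ∧ T.IsMinusTwo x' ∧ x ≠ x' ∧
          T.a (v L) x ≠ 0 ∧ T.a (v L) x' ≠ 0 ∧ (∀ q ≤ L, v q ≠ x) ∧ (∀ q ≤ L, v q ≠ x') := by
        rcases hxx with ⟨rfl, rfl⟩ | ⟨rfl, rfl⟩
        · exact ⟨hzm, hym, hy3.symm, hzpos, hy, hzv, hyv⟩
        · exact ⟨hym, hzm, hy3, hy, hzpos, hyv, hzv⟩
      have hu4 : Set.InjOn (fun a => if a = 0 then x else if a = 1 then v L else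
          if a = 2 then v (L - 1) else x') (Set.Iio (1 + 3)) := by
        intro a ha b hb h
        simp only [Set.mem_Iio] at ha hb
        dsimp only at h
        split_ifs at h <;>
          first
          | omega
          | exact absurd h (hxv _ (by omega))
          | exact absurd h.symm (hxv _ (by omega))
          | exact absurd h (hx'v _ (by omega))
          | exact absurd h.symm (hx'v _ (by omega))
          | exact absurd h hxx'
          | exact absurd h.symm hxx'
          | exact absurd h hn10
          | exact absurd h.symm hn10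
      have hum4 : ∀ a < 1 + 3, T.IsMinusTwo (if a = 0 then x else if a = 1 then v L else
          if a = 2 then v (L - 1) else x') := fun a ha => by
        split_ifs <;> [exact hxm; exact hmt _ le_rfl; exact hmt _ (by omega); exact hx'm]
      have hw := branch_w T (k := 1) (v := fun a => if a = 0 then x else if a = 1 then v L else
          if a = 2 then v (L - 1) else x') le_rfl (proper _ _ hu4 hum4) hu4 hum4
        (fun a ha => by
          obtain rfl : a = 0 := by omega
          simpa [a_comm T x] using hax)
        (by simpa [aL] using W.ne') (by simpa using hax')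
      have hwx : T.w x = T.w (v 1) := by simpa [wi] using hw
      refine ⟨hwx, ?_, fun t htx ht => ?_⟩
      · rw [a_eq_w T (by omega) (hxv _ le_rfl) (hmt _ le_rfl) hxm hax (by rw [hwx, wi]), wi]
      · by_contra ht1
        have htm : T.IsMinusTwo t := um2 x hxm (.inr hax) t ht
        have htp : ∀ q ≤ L, v q ≠ t := by
          intro q hq e
          subst e
          have hq1 : q < L := lt_of_le_of_ne hq (fun e => ht1 (by rw [e]))
          have huc : Set.InjOn (fun a => if a ≤ L - q then v (q + a) else x) (Set.Iio (L - q + 2)) := by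
            intro a ha b hb h
            simp only [Set.mem_Iio] at ha hb
            dsimp only at h
            split_ifs at h <;>
              first
              | omega
              | exact absurd h (hxv _ (by omega))
              | exact absurd h.symm (hxv _ (by omega))
              | (have := hinj (show _ < L + 1 by omega) (show _ < L + 1 by omega) h; omega)
          have humc : ∀ a < L - q + 2, T.IsMinusTwo (if a ≤ L - q then v (q + a) else x) :=
            fun a ha => by split_ifs <;> [exact hmt _ (by omega); exact hxm]
          have := forest T (proper _ _ huc humc) (by omega) huc humc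
            (insert (L - q + 1, 0) ((range (L - q + 1)).image fun a => (a, a + 1))) ?_ ?_
          · rw [Finset.card_insert_of_notMem (by simp), Finset.card_image_of_injective _
              (fun a b h => (Prod.ext_iff.1 h).1), Finset.card_range] at this
            omega
          · intro pq hpq
            simp only [Finset.mem_insert, Finset.mem_image, Finset.mem_range, not_or, not_exists, not_and,
              Prod.ext_iff] at hpq ⊢
            rcases hpq with h | ⟨a, ha, h⟩ <;>
              exact ⟨by omega, by omega, by omega, by omega, fun _ _ => by omega⟩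
          · intro pq hpq
            simp only [Finset.mem_insert, Finset.mem_image, Finset.mem_range] at hpq
            rcases hpq with rfl | ⟨a, ha, rfl⟩
            · simpa using ht
            · rcases lt_or_eq_of_le (show a ≤ L - q by omega) with h | h
              · simp only [show a ≤ L - q by omega, show a + 1 ≤ L - q by omega, if_true]
                exact hed (q + a) (by omega)
              · simp only [show a ≤ L - q by omega, show ¬ a + 1 ≤ L - q by omega, if_true, if_false]
                rw [show q + a = L by omega]
                exact hax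
        have htx' : t ≠ x' := by
          rintro rfl
          have hu3' : Set.InjOn (fun a => if a = 0 then x else if a = 1 then v L else t) (Set.Iio 3) := by
            intro a ha b hb h
            simp only [Set.mem_Iio] at ha hb
            interval_cases a <;> interval_cases b <;>
              simp [hxv L le_rfl, (hxv L le_rfl).symm, htx, htx.symm, ht1, Ne.symm ht1] at h <;> rfl
          have hum3 : ∀ a < 3, T.IsMinusTwo (if a = 0 then x else if a = 1 then v L else t) :=
            fun a ha => by split_ifs <;> [exact hxm; exact hmt _ le_rfl; exact htm]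
          exact absurd (forest T (proper 3 _ hu3' hum3) (by omega) hu3' hum3 {(0, 1), (1, 2), (2, 0)} (by decide)
            (by
              simp only [Finset.mem_insert, Finset.mem_singleton, forall_eq_or_imp, forall_eq]
              exact ⟨by simpa [a_comm T x] using hax, by simpa using hax', by simpa [a_comm T t] using ht⟩)) (by decide)
        have hu9 : Set.InjOn (fun a => if a ≤ 5 then v (L - 5 + a) else if a = 6 then x else if a = 7 then t else x')
            (Set.Iio 9) := by
          intro a ha b hb h
          simp only [Set.mem_Iio] at ha hb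
          dsimp only at h
          split_ifs at h <;>
            first
            | omega
            | exact absurd h (hxv _ (by omega))
            | exact absurd h.symm (hxv _ (by omega))
            | exact absurd h (hx'v _ (by omega))
            | exact absurd h.symm (hx'v _ (by omega))
            | exact absurd h (htp _ (by omega))
            | exact absurd h.symm (htp _ (by omega))
            | exact absurd h hxx'
            | exact absurd h.symm hxx'
            | exact absurd h htx'
            | exact absurd h.symm htx'
            | exact absurd h htx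
            | exact absurd h.symm htx
            | (have := hinj (show _ < L + 1 by omega) (show _ < L + 1 by omega) h; omega)
        have hum9 : ∀ a < 9, T.IsMinusTwo (if a ≤ 5 then v (L - 5 + a) else if a = 6 then x else
            if a = 7 then t else x') := fun a ha => by
          split_ifs <;> [exact hmt _ (by omega); exact hxm; exact htm; exact hx'm]
        refine (key_lt T _ (fun a => (([1, 2, 3, 4, 5, 6, 4, 2, 3] : List ℕ).getD a 0 : ℝ)) (proper 9 _ hu9 hum9)
          hu9 hum9 (fun _ _ => Nat.cast_nonneg _) ⟨0, by omega, by norm_num⟩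
          {(0, 1), (1, 2), (2, 3), (3, 4), (4, 5), (5, 6), (6, 7), (8, 5)} (by decide)).not_ge ?_
        have c1 : ∀ a, a < 5 → 1 ≤ e T (v (L - 5 + a)) (v (L - 5 + (a + 1))) := fun a ha =>
          one_le_e T (hne' _ _ (by omega) (by omega) (by omega)) (hed (L - 5 + a) (by omega))
        have e5 : L - 5 + 5 = L := by omega
        have c2 : 1 ≤ e T (v (L - 5 + 5)) x := by rw [e5]; exact one_le_e T (hxv _ le_rfl) hax
        have c3 : 1 ≤ e T x t := one_le_e T htx.symm ht
        have c4 : 1 ≤ e T x' (v (L - 5 + 5)) := by
          rw [e5]; exact one_le_e T (hx'v _ le_rfl).symm (by rw [a_comm]; exact hax')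
        have := c1 0 (by omega)
        have := c1 1 (by omega)
        have := c1 2 (by omega)
        have := c1 3 (by omega)
        have := c1 4 (by omega)
        simp only [Nat.add_zero, Nat.zero_add, Nat.reduceAdd] at *
        simp [Finset.sum_range_succ]
        linarith
    obtain ⟨wz, az, leafz⟩ := arm z y (.inl ⟨rfl, rfl⟩)
    obtain ⟨wy, ay, leafy⟩ := arm y z (.inr ⟨rfl, rfl⟩)
    have leafrow : ∀ x, T.IsMinusTwo x → T.w x = T.w (v 1) → T.a (v L) x = T.w (v 1) → x ≠ v L →
        (∀ t, t ≠ x → T.a x t ≠ 0 → t = v L) → T.m (v L) = 2 * T.m x := by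
      intro x hxm hw ha hx hl
      have h := row_minusTwo hxm
      rw [Finset.sum_eq_single (v L) (fun t ht hne => by
          by_contra h0
          exact hne (hl t (Finset.mem_erase.1 ht).1 (fun e => h0 (by rw [e, zero_mul]))))
        (fun h0 => absurd (Finset.mem_erase.2 ⟨hx.symm, mem_univ _⟩) h0), a_comm, ha, hw] at h
      exact mul_left_cancel₀ W.ne' (by linarith)
    have rz := leafrow z hzm wz az hz.2 leafz
    have ry := leafrow y hym wy ay hy1 leafy
    rw [← Finset.sum_subset (s₁ := {z, y}) (fun t ht => by
        simp only [Finset.mem_insert, Finset.mem_singleton] at ht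
        rcases ht with rfl | rfl <;>
          simp only [Finset.mem_erase, mem_univ, and_true] <;> [exact hz; exact ⟨hy2, hy1⟩])
      (fun t ht hnt => by
        simp only [Finset.mem_insert, Finset.mem_singleton, not_or] at hnt
        simp only [Finset.mem_erase, mem_univ, and_true] at ht
        by_contra h0
        have ht' : T.a (v L) t ≠ 0 := fun e => h0 (by rw [e, zero_mul])
        obtain ⟨htm, htv⟩ := nbL t ht.2 ht' ht.1
        have hu5 : Set.InjOn (fun a => if a = 0 then v L else if a = 1 then v (L - 1) else
            if a = 2 then z else if a = 3 then y else t) (Set.Iio 5) := by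
          intro a ha b hb h
          simp only [Set.mem_Iio] at ha hb
          interval_cases a <;> interval_cases b <;>
            simp [hn10, hn10.symm, hz.1, Ne.symm hz.1, hz.2, Ne.symm hz.2, hy1, Ne.symm hy1, hy2, Ne.symm hy2, hy3,
              Ne.symm hy3, ht.1, Ne.symm ht.1, ht.2, Ne.symm ht.2, hnt.1, Ne.symm hnt.1, hnt.2, Ne.symm hnt.2] at h <;> rfl
        have hum5 : ∀ a < 5, T.IsMinusTwo (if a = 0 then v L else if a = 1 then v (L - 1) else
            if a = 2 then z else if a = 3 then y else t) := fun a ha => by
          split_ifs <;> [exact hmt _ le_rfl; exact hmt _ (by omega); exact hzm; exact hym; exact htm]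
        refine (key_lt T _ (fun a => if a = 0 then 2 else 1) (proper 5 _ hu5 hum5) hu5 hum5
          (fun a _ => by split_ifs <;> norm_num) ⟨0, by omega, by norm_num⟩
          {(0, 1), (0, 2), (0, 3), (0, 4)} (by decide)).not_ge ?_
        have := one_le_e T hn10.symm (by rw [aL]; exact W.ne')
        have := one_le_e T (Ne.symm hz.2) hzpos
        have := one_le_e T (Ne.symm hy1) hy
        have := one_le_e T (Ne.symm ht.2) ht'
        simp [Finset.sum_range_succ]
        linarith),
      Finset.sum_pair hy3.symm, az, ay] at hsum
    rw [rz] at hsum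
    have : T.m z = T.m y := by omega
    rw [this] at hsum
    linarith
  push_neg at hsec
  rw [← Finset.sum_subset (s₁ := {z}) (fun t ht => by
      simp only [Finset.mem_singleton] at ht
      subst ht
      simp only [Finset.mem_erase, mem_univ, and_true]
      exact hz)
    (fun t ht hnt => by
      simp only [Finset.mem_singleton] at hnt
      simp only [Finset.mem_erase, mem_univ, and_true] at ht
      by_contra h0
      exact hnt (hsec t (fun e => h0 (by rw [e, zero_mul])) ht.2 ht.1)), Finset.sum_singleton] at hsum
  have hmz := hmax z hzm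
  rcases chain_edge T (by omega) hz.2 hn10.symm hzn hzm (hmt L le_rfl) (hmt (L - 1) (by omega))
    (by rw [a_comm]; exact hzpos) (by rw [aL]; exact W.ne') with ⟨kz, kaz⟩ | ⟨kz, kaz⟩ | ⟨kz, kaz⟩
  · rw [a_comm, kaz, ← kz, wi] at hsum
    rw [← kz] at hmz
    rw [wi] at hmz
    linarith
  · -- `z` is lighter, hence a leaf
    rw [a_comm, kaz, ← kz, wi] at hsum
    have hleaf : ∀ t, t ≠ z → T.a z t ≠ 0 → t = v L := fun t htz ht => by
      by_contra ht1
      have htm : T.IsMinusTwo t := um2 z hzm (.inr hzpos) t ht
      rcases em (t = v (L - 1)) with rfl | ht2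
      · exact absurd (chain3_zero T (by omega) hz.2 hn10.symm hzn hzm (hmt L le_rfl) (hmt (L - 1) (by omega))
          (by rw [a_comm]; exact hzpos) (by rw [aL]; exact W.ne')) ht
      rcases em (t = v (L - 2)) with rfl | ht3
      · have hu4 : Set.InjOn (fun a => if a = 0 then z else if a = 1 then v L else
            if a = 2 then v (L - 1) else v (L - 2)) (Set.Iio 4) := by
          intro a ha b hb h
          simp only [Set.mem_Iio] at ha hb
          interval_cases a <;> interval_cases b <;>
            simp [hn10, hn10.symm, hn20, hn20.symm, hn21, hn21.symm, hz.1, Ne.symm hz.1, hz.2, Ne.symm hz.2, htz,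
              Ne.symm htz] at h <;> rfl
        have hum4 : ∀ a < 4, T.IsMinusTwo (if a = 0 then z else if a = 1 then v L else
            if a = 2 then v (L - 1) else v (L - 2)) := fun a ha => by
          split_ifs <;> [exact hzm; exact hmt _ le_rfl; exact hmt _ (by omega); exact hmt _ (by omega)]
        exact absurd (forest T (proper 4 _ hu4 hum4) (by omega) hu4 hum4 {(0, 1), (1, 2), (2, 3), (3, 0)} (by decide)
          (by
            simp only [Finset.mem_insert, Finset.mem_singleton, forall_eq_or_imp, forall_eq]
            exact ⟨by simpa [a_comm T z] using hzpos, by simpa [aL] using W.ne', by simpa [a21] using W.ne',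
              by simpa [a_comm T (v (L - 2))] using ht⟩)) (by decide)
      have hu5 : Set.InjOn (fun a => if a = 0 then t else if a = 1 then z else if a = 2 then v L else
          if a = 3 then v (L - 1) else v (L - 2)) (Set.Iio 5) := by
        intro a ha b hb h
        simp only [Set.mem_Iio] at ha hb
        interval_cases a <;> interval_cases b <;>
          simp [hn10, hn10.symm, hn20, hn20.symm, hn21, hn21.symm, hz.1, Ne.symm hz.1, hz.2, Ne.symm hz.2, htz,
            Ne.symm htz, ht1, Ne.symm ht1, ht2, Ne.symm ht2, ht3, Ne.symm ht3, hzv (L - 2) (by omega),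
            Ne.symm (hzv (L - 2) (by omega))] at h <;> rfl
      have hw2 := inner_edge_simple T (v := fun a => if a = 0 then t else if a = 1 then z else if a = 2 then v L else
          if a = 3 then v (L - 1) else v (L - 2)) (by omega) hu5
        (fun a ha => by split_ifs <;> [exact htm; exact hzm; exact hmt _ le_rfl; exact hmt _ (by omega); exact hmt _ (by omega)])
        (fun a ha => by
          interval_cases a
          · simpa [a_comm T t] using ht
          · simpa [a_comm T z] using hzpos
          · simpa [aL] using W.ne'
          · simpa [a21] using W.ne')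
      have hw3 : T.w z = T.w (v L) := by simpa using hw2
      have := T.w_pos z
      omega
    have h := row_minusTwo hzm
    rw [Finset.sum_eq_single (v L) (fun t ht hne => by
        by_contra h0
        exact hne (hleaf t (Finset.mem_erase.1 ht).1 (fun e => h0 (by rw [e, zero_mul]))))
      (fun h0 => absurd (Finset.mem_erase.2 ⟨Ne.symm hz.2, mem_univ _⟩) h0), kaz] at h
    have hm : T.m (v L) = T.m z :=
      mul_left_cancel₀ (show 2 * T.w z ≠ 0 by have := T.w_pos z; omega) (by linarith)
    rw [hm] at hsum
    exact lt_irrefl _ hsum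
  · -- `z` is heavier: larger `m w`
    rw [a_comm, kaz, wi] at hsum
    rw [kz, wi] at hmz
    linarith

theorem bound768 (hmin : T.IsMinimal) (hg : 2 ≤ T.genus) (i j : Fin n) :
    T.m i * |T.a i j| ≤ 768 * T.genus := by
  classical
  rcases Nat.lt_or_ge 1 n with hn | hn
  swap
  · have hn1 : n = 1 := by have := T.pos; omega
    subst hn1
    obtain rfl : i = 0 := Subsingleton.elim _ _
    obtain rfl : j = 0 := Subsingleton.elim _ _
    rw [(single T).1]; simp; omega
  have hdiag : ∀ j, T.m j * (-T.a j j) ≤ 768 * T.genus := by
    intro j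
    by_cases hj : T.IsMinusTwo j
    · let S := univ.filter fun k => T.IsMinusTwo k
      obtain ⟨i0, hi0, hmax⟩ := Finset.exists_max_image S (fun k => T.m k * T.w k) ⟨j, by simp [S, hj]⟩
      simp only [S, mem_filter, mem_univ, true_and] at hi0 hmax
      have h1 := max_bound hn hmin hg i0 hi0 hmax
      have h2 := hmax j hj
      rw [hj.2]
      linarith
    · have := diag_bound hn hmin j hj
      omega
  rcases eq_or_ne i j with rfl | hij
  · rw [abs_of_neg (diag_neg T hn i)]; exact hdiag i
  · rw [abs_of_nonneg (T.offDiag_nonneg i j hij)]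
    have h := row_le T (i := j) (S := {i}) (by simpa using hij.symm)
    rw [Finset.sum_singleton, a_comm T j i] at h
    linarith [hdiag j]

end Groth.Agent.H28NT
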