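import Groth.Agent.H28NT.Graph
import Mathlib.Data.ZMod.Basic
import Mathlib.Algebra.BigOperators.Ring.Finset

/-!
# The genus of a numerical type
-/

namespace Groth.Agent.H28NT

open Finset Models Models.NumericalType

variable {n : ℕ} (T : NumericalType n)

/-- twice the contribution of an index to the genus -/
def ctr (i : Fin n) : ℤ := T.m i * (2 * T.w i * (T.g i - 1) - T.a i i)

lemma two_dvd_sum : (2 : ℤ) ∣ ∑ i, T.m i * T.a i i := by
  classical
  refine (ZMod.intCast_zmod_eq_zero_iff_dvd _ 2).1 ?_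
  have h2 : ∀ x : ZMod 2, x * x = x ∧ x + x = 0 := by decide
  have hz : (∑ i, ∑ j, ((T.m i : ZMod 2) * T.a i j * T.m j)) = 0 := by
    refine Finset.sum_eq_zero fun i _ => ?_
    have := row_eq T i
    have h3 : ((∑ j, T.a i j * T.m j : ℤ) : ZMod 2) = 0 := by rw [this, Int.cast_zero]
    push_cast at h3
    simp only [mul_assoc, ← Finset.mul_sum, h3, mul_zero]
  rw [← Finset.sum_product' (f := fun i j => (T.m i : ZMod 2) * T.a i j * T.m j),
    ← Finset.sum_filter_add_sum_filter_not (univ ×ˢ univ) (fun pq : Fin n × Fin n => pq.1 = pq.2)] at hz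
  have hoff : (∑ pq ∈ (univ ×ˢ univ).filter (fun pq : Fin n × Fin n => ¬ pq.1 = pq.2),
      ((T.m pq.1 : ZMod 2) * T.a pq.1 pq.2 * T.m pq.2)) = 0 := by
    refine Finset.sum_involution (fun pq _ => pq.swap) ?_ ?_ ?_ ?_
    · intro pq _
      simp only [Prod.fst_swap, Prod.snd_swap, a_comm T pq.2 pq.1]
      rw [mul_comm (T.m pq.2 : ZMod 2) _, mul_right_comm _ _ (T.m pq.1 : ZMod 2)]
      rw [mul_comm (T.m pq.1 : ZMod 2) (T.a pq.1 pq.2 : ZMod 2)]
      exact (h2 _).2
    · intro pq hpq _ h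
      simp only [mem_filter] at hpq
      exact hpq.2 (congrArg Prod.fst h).symm
    · intro pq hpq
      simp only [mem_filter, mem_product, mem_univ, true_and, Prod.fst_swap, Prod.snd_swap] at hpq ⊢
      exact fun h => hpq h.symm
    · intro pq _; exact Prod.swap_swap pq
  rw [hoff, add_zero] at hz
  push_cast
  rw [← hz]
  refine Finset.sum_nbij' (fun i => (i, i)) (fun pq => pq.1) ?_ ?_ ?_ ?_ ?_
  · intro i _; simp
  · intro pq _; simp
  · intro i _; simp
  · rintro ⟨p, q⟩ h; simp_all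
  · intro i _
    rw [mul_right_comm, (h2 _).1]

lemma two_genus : 2 * (T.genus - 1) = ∑ i, ctr T i := by
  have hd := Int.mul_ediv_cancel' (two_dvd_sum T)
  have h1 : ∑ i, ctr T i = 2 * (∑ i, T.m i * T.w i * (T.g i - 1)) - ∑ i, T.m i * T.a i i := by
    rw [Finset.mul_sum, ← Finset.sum_sub_distrib]
    exact Finset.sum_congr rfl fun i _ => by rw [ctr]; ring
  rw [h1, NumericalType.genus]
  linarith

lemma exists_nbr (hn : 1 < n) (i : Fin n) : ∃ j, j ≠ i ∧ T.a i j ≠ 0 := by
  obtain ⟨k, hk, j, hj, h⟩ := T.connected {i} (singleton_nonempty i) (by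
    intro h
    have := congrArg Finset.card h
    simp at this
    omega)
  rw [Finset.mem_singleton] at hk hj
  subst hk
  exact ⟨j, hj, h⟩

lemma diag_neg (hn : 1 < n) (i : Fin n) : T.a i i < 0 := by
  obtain ⟨j, hji, hj⟩ := exists_nbr T hn i
  have h1 := row_le T (i := i) (S := {j}) (by simpa using hji.symm)
  rw [Finset.sum_singleton] at h1
  have := mul_pos (a_pos T hji.symm hj) (T.m_pos j)
  have := T.m_pos i
  nlinarith

lemma minusOne_of_neg (hn : 1 < n) (i : Fin n) (h : ctr T i < 0) : T.IsMinusOne i := by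
  have hm := T.m_pos i
  have hw := T.w_pos i
  have ha := diag_neg T hn i
  have h' : 2 * T.w i * (T.g i - 1) - T.a i i < 0 := by
    by_contra hc
    exact absurd (mul_nonneg hm.le (not_lt.1 hc)) (not_le.2 h)
  have hg : T.g i = 0 := by
    rcases (T.g_nonneg i).lt_or_eq with h0 | h0
    · have := mul_nonneg (show 0 ≤ 2 * T.w i by omega) (show 0 ≤ T.g i - 1 by omega)
      omega
    · exact h0.symm
  rw [hg] at h'
  refine ⟨hg, ?_⟩
  obtain ⟨p, hp⟩ := T.w_dvd i i
  have hp1 : p < 0 := by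
    by_contra hc
    nlinarith
  have hp2 : -2 < p := by
    by_contra hc
    nlinarith
  rw [hp, show p = -1 by omega]; ring

lemma minusTwo_of_zero (hn : 1 < n) (i : Fin n) (h : ctr T i = 0) : T.IsMinusTwo i := by
  have hm := T.m_pos i
  have hw := T.w_pos i
  have ha := diag_neg T hn i
  rw [ctr, mul_eq_zero, or_iff_right hm.ne', sub_eq_zero] at h
  have hg : T.g i = 0 := by
    rcases (T.g_nonneg i).lt_or_eq with h0 | h0
    · have := mul_nonneg (show 0 ≤ 2 * T.w i by omega) (show 0 ≤ T.g i - 1 by omega)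
      omega
    · exact h0.symm
  rw [hg] at h
  exact ⟨hg, by linarith⟩

lemma ctr_nonneg (hn : 1 < n) (hmin : T.IsMinimal) (i : Fin n) : 0 ≤ ctr T i :=
  not_lt.1 fun h => hmin i (minusOne_of_neg T hn i h)

lemma one_le_genus (hn : 1 < n) (hmin : T.IsMinimal) : 1 ≤ T.genus := by
  have := two_genus T
  have : 0 ≤ ∑ i, ctr T i := Finset.sum_nonneg fun i _ => ctr_nonneg T hn hmin i
  omega

lemma all_minusTwo (hn : 1 < n) (hmin : T.IsMinimal) (hg : T.genus = 1) (i : Fin n) :
    T.IsMinusTwo i := by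
  refine minusTwo_of_zero T hn i ?_
  have h := two_genus T
  rw [hg, sub_self, mul_zero] at h
  exact (Finset.sum_eq_zero_iff_of_nonneg fun i _ => ctr_nonneg T hn hmin i).1 h.symm i (mem_univ i)

lemma single (T : NumericalType 1) :
    T.a 0 0 = 0 ∧ T.genus = 1 + T.m 0 * T.w 0 * (T.g 0 - 1) := by
  have h := row_eq T 0
  simp only [Fin.sum_univ_one, mul_eq_zero, (T.m_pos 0).ne', or_false] at h
  refine ⟨h, ?_⟩
  rw [NumericalType.genus, Fin.sum_univ_one, Fin.sum_univ_one, h]
  simp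

lemma eq_trivial (hmin : T.IsMinimal) (hg : T.genus = 0) :
    n = 1 ∧ ∀ i, T.m i = 1 ∧ T.a i i = 0 ∧ T.w i = 1 ∧ T.g i = 0 := by
  have hn : n = 1 := by
    by_contra h
    have := one_le_genus T (by have := T.pos; omega) hmin
    omega
  subst hn
  refine ⟨rfl, fun i => ?_⟩
  obtain rfl : i = 0 := Subsingleton.elim _ _
  obtain ⟨ha, hgen⟩ := single T
  have hm := T.m_pos 0
  have hw := T.w_pos 0
  have hmw : 1 ≤ T.m 0 * T.w 0 := by nlinarith
  have hg0 : T.g 0 = 0 := by
    rcases (T.g_nonneg 0).lt_or_eq with h0 | h0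
    · have := mul_nonneg (show 0 ≤ T.m 0 * T.w 0 by omega) (show 0 ≤ T.g 0 - 1 by omega)
      omega
    · exact h0.symm
  rw [hg0, hg] at hgen
  have h1 : T.m 0 * T.w 0 = 1 := by linarith
  exact ⟨Int.eq_one_of_mul_eq_one_right hm.le h1, ha,
    Int.eq_one_of_mul_eq_one_left hw.le h1, hg0⟩

/-- number of edges inside `C` -/
def edgesIn (C : Finset (Fin n)) : Finset (Fin n × Fin n) :=
  (C ×ˢ C).filter fun p => p.1 < p.2 ∧ 0 < T.a p.1 p.2

lemma edgesIn_univ : (edgesIn T univ).card = T.edgeCount := by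
  simp [edgesIn, NumericalType.edgeCount]

lemma exists_card_edges : ∀ k, k < n → ∃ I : Finset (Fin n), I.card = k + 1 ∧ k ≤ (edgesIn T I).card := by
  classical
  intro k
  induction k with
  | zero => exact fun hk => ⟨{⟨0, hk⟩}, by simp, Nat.zero_le _⟩
  | succ k ih =>
    intro hk
    obtain ⟨I, hI, hE⟩ := ih (by omega)
    obtain ⟨i, hi, j, hj, h⟩ := T.connected I (Finset.card_pos.1 (by omega)) (fun h => by
      rw [h, Finset.card_univ, Fintype.card_fin] at hI; omega)
    refine ⟨insert j I, by rw [Finset.card_insert_of_notMem hj, hI], ?_⟩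
    have hij : i ≠ j := fun h => hj (h ▸ hi)
    have hpos := a_pos T hij h
    let p : Fin n × Fin n := if i < j then (i, j) else (j, i)
    have hp : p ∈ edgesIn T (insert j I) \ edgesIn T I := by
      simp only [p, edgesIn, Finset.mem_sdiff, mem_filter, mem_product, Finset.mem_insert]
      split_ifs with hlt
      · exact ⟨⟨⟨.inr hi, .inl rfl⟩, hlt, hpos⟩, fun h => hj h.1.2⟩
      · refine ⟨⟨⟨.inl rfl, .inr hi⟩, lt_of_le_of_ne (not_lt.1 hlt) hij.symm, ?_⟩, fun h => hj h.1.1⟩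
        rw [a_comm]; exact hpos
    have hsub : edgesIn T I ⊆ edgesIn T (insert j I) := by
      intro q hq
      simp only [edgesIn, mem_filter, mem_product, Finset.mem_insert] at hq ⊢
      exact ⟨⟨.inr hq.1.1, .inr hq.1.2⟩, hq.2⟩
    have := Finset.card_lt_card (Finset.ssubset_iff_subset_ne.2 ⟨hsub, fun h => by
      rw [h] at hp; simp at hp⟩)
    omega

lemma topGenus_nonneg : 0 ≤ T.topGenus := by
  have := T.pos
  obtain ⟨I, hI, hE⟩ := exists_card_edges T (n - 1) (by omega)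
  have hu : I = univ := Finset.eq_univ_of_card I (by rw [hI, Fintype.card_fin]; omega)
  rw [hu, edgesIn_univ] at hE
  rw [NumericalType.topGenus]
  omega

/-- number of neighbours in `C` -/
def nb (C : Finset (Fin n)) (i : Fin n) : Finset (Fin n) := (C.erase i).filter fun j => 0 < T.a i j

lemma exists_core : ∀ C : Finset (Fin n), ∃ D ⊆ C, (∀ i ∈ D, 2 ≤ (nb T D i).card) ∧
    ((edgesIn T C).card : ℤ) - C.card ≤ (edgesIn T D).card - D.card := by
  classical
  intro C
  induction C using Finset.strongInduction with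
  | _ C ih =>
    by_cases h : ∀ i ∈ C, 2 ≤ (nb T C i).card
    · exact ⟨C, subset_rfl, h, le_rfl⟩
    push_neg at h
    obtain ⟨i, hi, hlt⟩ := h
    obtain ⟨D, hD, hD2, hle⟩ := ih (C.erase i) (Finset.erase_ssubset hi)
    refine ⟨D, hD.trans (Finset.erase_subset _ _), hD2, le_trans ?_ hle⟩
    have hsub : edgesIn T C ⊆ edgesIn T (C.erase i) ∪
        (nb T C i).image (fun j => if i < j then (i, j) else (j, i)) := by
      rintro ⟨a, b⟩ hab
      simp only [edgesIn, nb, mem_filter, mem_product, Finset.mem_union, Finset.mem_image,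
        mem_erase] at hab ⊢
      obtain ⟨⟨ha, hb⟩, hlt', hpos⟩ := hab
      rcases eq_or_ne a i with rfl | hai
      · exact .inr ⟨b, ⟨⟨hlt'.ne', hb⟩, hpos⟩, by rw [if_pos hlt']⟩
      rcases eq_or_ne b i with rfl | hbi
      · refine .inr ⟨a, ⟨⟨hai, ha⟩, by rw [a_comm]; exact hpos⟩, ?_⟩
        rw [if_neg (not_lt.2 hlt'.le)]
      exact .inl ⟨⟨⟨hai, ha⟩, hbi, hb⟩, hlt', hpos⟩
    have h1 := (Finset.card_le_card hsub).trans (Finset.card_union_le _ _)
    have h2 := Finset.card_image_le (s := nb T C i) (f := fun j => if i < j then (i, j) else (j, i))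
    rw [Finset.card_erase_of_mem hi]
    have := Finset.card_pos.2 ⟨i, hi⟩
    omega

lemma sum_nb (C : Finset (Fin n)) : ∑ i ∈ C, ((nb T C i).card : ℤ) = 2 * (edgesIn T C).card := by
  classical
  have h : ((C ×ˢ C).filter fun p => p.1 ≠ p.2 ∧ 0 < T.a p.1 p.2).card =
      (edgesIn T C).card + (edgesIn T C).card := by
    have he : ((C ×ˢ C).filter fun p => p.1 ≠ p.2 ∧ 0 < T.a p.1 p.2) =
        edgesIn T C ∪ (edgesIn T C).image Prod.swap := by
      ext ⟨a, b⟩
      simp only [edgesIn, mem_filter, mem_product, Finset.mem_union, Finset.mem_image,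
        Prod.exists, Prod.swap_prod_mk, Prod.mk.injEq]
      constructor
      · rintro ⟨⟨ha, hb⟩, hne, hpos⟩
        rcases lt_or_gt_of_ne hne with h | h
        · exact .inl ⟨⟨ha, hb⟩, h, hpos⟩
        · exact .inr ⟨b, a, ⟨⟨hb, ha⟩, h, by rw [a_comm]; exact hpos⟩, rfl, rfl⟩
      · rintro (⟨h1, h2, h3⟩ | ⟨b', a', ⟨⟨h1, h1'⟩, h2, h3⟩, rfl, rfl⟩)
        · exact ⟨h1, h2.ne, h3⟩
        · exact ⟨⟨h1', h1⟩, h2.ne', by rw [a_comm]; exact h3⟩
    rw [he, Finset.card_union_of_disjoint, Finset.card_image_of_injective _ Prod.swap_injective]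
    rw [Finset.disjoint_left]
    rintro ⟨a, b⟩ h1 h2
    simp only [edgesIn, mem_filter, mem_product, Finset.mem_image, Prod.exists, Prod.swap_prod_mk,
      Prod.mk.injEq] at h1 h2
    obtain ⟨b', a', ⟨-, h4, -⟩, rfl, rfl⟩ := h2
    exact lt_asymm h1.2.1 h4
  have h' : ∑ i ∈ C, (nb T C i).card = ((C ×ˢ C).filter fun p => p.1 ≠ p.2 ∧ 0 < T.a p.1 p.2).card := by
    rw [Finset.card_filter, Finset.sum_product]
    refine Finset.sum_congr rfl fun i hi => ?_
    rw [← Finset.card_filter]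
    congr 1
    ext j
    simp only [nb, mem_filter, mem_erase]
    constructor
    · rintro ⟨⟨a, b⟩, c⟩; exact ⟨b, a.symm, c⟩
    · rintro ⟨b, a, c⟩; exact ⟨⟨Ne.symm a, b⟩, c⟩
  have h3 := h'.trans h
  rw [two_mul]
  exact_mod_cast h3

lemma topGenus_le (hn : 1 < n) (hmin : T.IsMinimal) : T.topGenus ≤ T.genus := by
  classical
  obtain ⟨D, -, hD, hle⟩ := exists_core T univ
  rw [edgesIn_univ, Finset.card_univ, Fintype.card_fin] at hle
  have key : ∀ i ∈ D, (∑ j ∈ nb T D i, T.w j * T.m j) - 2 * T.m i * T.w i ≤ ctr T i := by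
    intro i _
    have h1 : ∑ j ∈ nb T D i, T.w j * T.m j ≤ ∑ j ∈ nb T D i, T.a i j * T.m j := by
      refine Finset.sum_le_sum fun j hj => ?_
      simp only [nb, mem_filter, mem_erase] at hj
      exact mul_le_mul_of_nonneg_right (w_le_a T hj.1.1.symm hj.2.ne').2 (T.m_pos j).le
    have h2 := row_le T (i := i) (S := nb T D i) (by simp [nb])
    have h3 : 0 ≤ T.m i * T.w i * T.g i :=
      mul_nonneg (mul_nonneg (T.m_pos i).le (T.w_pos i).le) (T.g_nonneg i)
    rw [ctr]
    linarith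
  have hswap : ∑ i ∈ D, ∑ j ∈ nb T D i, T.w j * T.m j = ∑ j ∈ D, (nb T D j).card * (T.w j * T.m j) := by
    rw [Finset.sum_comm' (s := D) (t := fun i => nb T D i) (t' := D) (s' := fun j => nb T D j)]
    · exact Finset.sum_congr rfl fun j _ => by rw [Finset.sum_const, nsmul_eq_mul]
    · intro i j
      simp only [nb, mem_filter, mem_erase]
      constructor
      · rintro ⟨hi, ⟨hne, hj⟩, hpos⟩
        exact ⟨⟨⟨hne.symm, hi⟩, by rw [a_comm]; exact hpos⟩, hj⟩
      · rintro ⟨⟨⟨hne, hi⟩, hpos⟩, hj⟩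
        exact ⟨hi, ⟨hne.symm, hj⟩, by rw [a_comm]; exact hpos⟩
  have hsum : ∑ i ∈ D, ctr T i ≤ ∑ i, ctr T i :=
    Finset.sum_le_sum_of_subset_of_nonneg (subset_univ _) fun i _ _ => ctr_nonneg T hn hmin i
  have hD' : ∑ j ∈ D, (((nb T D j).card : ℤ) - 2) ≤ ∑ i ∈ D, ctr T i := by
    refine le_trans ?_ (Finset.sum_le_sum key)
    rw [Finset.sum_sub_distrib (f := fun i => ∑ j ∈ nb T D i, T.w j * T.m j), hswap,
      ← Finset.sum_sub_distrib]
    refine Finset.sum_le_sum fun j hj => ?_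
    have h1 : (2 : ℤ) ≤ (nb T D j).card := by exact_mod_cast hD j hj
    have h2 : 1 ≤ T.w j * T.m j := mul_pos (T.w_pos j) (T.m_pos j)
    nlinarith
  rw [Finset.sum_sub_distrib, sum_nb, Finset.sum_const, nsmul_eq_mul] at hD'
  have := two_genus T
  rw [NumericalType.topGenus]
  linarith

end Groth.Agent.H28NT
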