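import Groth.Agent.H28NT.Families
import Groth.Agent.H28NT.Genus

/-!
# Every type made of `(-2)`-indices on at least three indices is affine
-/

namespace Groth.Agent.H28NT

open Finset Models Models.NumericalType

variable {n : ℕ} {T : NumericalType n}

/-- a path with `L` edges -/
def IsPath (T : NumericalType n) (L : ℕ) (v : ℕ → Fin n) : Prop :=
  Set.InjOn v (Set.Iio (L + 1)) ∧ ∀ p < L, T.a (v p) (v (p + 1)) ≠ 0

lemma IsPath.rev {L : ℕ} {v : ℕ → Fin n} (h : IsPath T L v) : IsPath T L (fun p => v (L - p)) := by
  refine ⟨fun p hp q hq hpq => ?_, fun p hp => ?_⟩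
  · simp only [Set.mem_Iio] at hp hq
    have := h.1 (show L - p < L + 1 by omega) (show L - q < L + 1 by omega) hpq
    omega
  · rw [a_comm]
    have := h.2 (L - (p + 1)) (by omega)
    rwa [show L - (p + 1) + 1 = L - p by omega] at this

lemma IsPath.length_lt {L : ℕ} {v : ℕ → Fin n} (h : IsPath T L v) : L < n := by
  have := Finset.card_le_card (Finset.subset_univ ((range (L + 1)).image v))
  rw [Finset.card_image_of_injOn (by simpa using h.1), Finset.card_range, Finset.card_univ,
    Fintype.card_fin] at this
  omega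

lemma exists_longest (hn : 3 ≤ n) :
    ∃ L v, 2 ≤ L ∧ IsPath T L v ∧ ∀ L' v', IsPath T L' v' → L' ≤ L := by
  classical
  let i : Fin n := ⟨0, by omega⟩
  obtain ⟨j, hji, hj⟩ := exists_nbr T (by omega) i
  obtain ⟨p, hp, q, hq, hpq⟩ := T.connected {i, j} ⟨i, by simp⟩ (fun h => by
    have := congrArg Finset.card h
    rw [Finset.card_pair hji.symm, Finset.card_univ, Fintype.card_fin] at this
    omega)
  simp only [Finset.mem_insert, Finset.mem_singleton, not_or] at hp hq
  have h2 : ∃ v, IsPath T 2 v := by
    rcases hp with e | e <;> subst e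
    · refine ⟨fun m => if m = 0 then j else if m = 1 then i else q, ⟨fun a ha b hb h => ?_, fun m hm => ?_⟩⟩
      · simp only [Set.mem_Iio] at ha hb
        interval_cases a <;> interval_cases b <;>
          simp [hji, hji.symm, hq.1, hq.2, Ne.symm hq.1, Ne.symm hq.2] at h <;> rfl
      · interval_cases m
        · simpa [a_comm T j] using hj
        · simpa using hpq
    · refine ⟨fun m => if m = 0 then i else if m = 1 then p else q, ⟨fun a ha b hb h => ?_, fun m hm => ?_⟩⟩
      · simp only [Set.mem_Iio] at ha hb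
        interval_cases a <;> interval_cases b <;>
          simp [hji, hji.symm, hq.1, hq.2, Ne.symm hq.1, Ne.symm hq.2] at h <;> rfl
      · interval_cases m
        · simpa using hj
        · simpa using hpq
  let L := Nat.findGreatest (fun L => ∃ v, IsPath T L v) n
  have hle2 : 2 ≤ L := Nat.le_findGreatest (by omega) h2
  obtain ⟨v, hv⟩ : ∃ v, IsPath T L v :=
    Nat.findGreatest_spec (P := fun L => ∃ v, IsPath T L v) (m := 2) (by omega) h2
  exact ⟨L, v, hle2, hv, fun L' v' h => Nat.le_findGreatest h.length_lt.le ⟨v', h⟩⟩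

/-- re-indexing a found configuration -/
lemma injOn_comp {L t : ℕ} {v : ℕ → Fin n} (hinj : Set.InjOn v (Set.Iio (L + 1))) (f : ℕ → ℕ)
    (hf : ∀ p < t, f p ≤ L) (hfi : ∀ p < t, ∀ q < t, f p = f q → p = q) :
    Set.InjOn (fun p => v (f p)) (Set.Iio t) := fun p hp q hq h =>
  hfi p hp q hq (hinj (show f p < L + 1 by have := hf p hp; omega)
    (show f q < L + 1 by have := hf q hq; omega) h)

variable (hv' : ∀ i, T.IsMinusTwo i) (hn : 3 ≤ n) {L : ℕ} {v : ℕ → Fin n} (hL : 2 ≤ L)
  (hP : IsPath T L v)
include hv' hn hL hP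

/-- a chord gives a cycle -/
lemma chord {p q : ℕ} (hpq : p + 1 < q) (hq : q ≤ L) (h : T.a (v p) (v q) ≠ 0) : AffineType T := by
  refine (cyc_found hv' (t := q - p + 1) (v := fun a => v (p + a)) (by omega)
    (injOn_comp hP.1 _ (fun a ha => by omega) (fun a _ b _ h => by omega))
    (fun a ha => hP.2 (p + a) (by omega)) ?_).2
  show T.a (v (p + (q - p + 1 - 1))) (v (p + 0)) ≠ 0
  rw [show p + (q - p + 1 - 1) = q by omega, a_comm]
  exact h

/-- simple end segment: the multiplicities grow linearly from the end -/
lemma linear_end {q0 : ℕ} (hq0 : q0 ≤ L)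
    (hnb : ∀ p, q0 < p → p ≤ L → ∀ i, i ≠ v p → T.a (v p) i ≠ 0 → i = v (p - 1) ∨ (p < L ∧ i = v (p + 1)))
    (hw : ∀ p, q0 < p → p ≤ L → T.a (v (p - 1)) (v p) = T.w (v p) ∧ T.w (v (p - 1)) = T.w (v p)) :
    ∀ d, d + q0 ≤ L → T.m (v (L - d)) = (d + 1 : ℤ) * T.m (v L) := by
  classical
  intro d
  induction d using Nat.strong_induction_on with
  | _ d ih =>
    intro hd
    rcases d with _ | _ | d
    · simp
    · have hp : q0 < L ∧ L ≤ L := ⟨by omega, le_rfl⟩
      obtain ⟨ha, hwe⟩ := hw L hp.1 le_rfl
      have hrow := row_erase T (v L)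
      rw [(hv' _).2, Finset.sum_eq_single (v (L - 1))] at hrow
      · rw [a_comm, ha] at hrow
        have : T.m (v (L - 1)) = 2 * T.m (v L) := mul_left_cancel₀ (T.w_pos (v L)).ne' (by linarith)
        simpa using this
      · intro i hi hne
        by_contra h
        have h' : T.a (v L) i ≠ 0 := fun e => h (by rw [e, zero_mul])
        rcases hnb L hp.1 le_rfl i (Finset.mem_erase.1 hi).1 h' with h1 | ⟨h1, -⟩
        · exact hne h1
        · omega
      · intro h
        exfalso
        exact h (Finset.mem_erase.2 ⟨fun e => by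
          have := hP.1 (show L - 1 < L + 1 by omega) (show L < L + 1 by omega) e; omega, mem_univ _⟩)
    · have hp : q0 < L - (d + 1) := by omega
      have ih1 := ih (d + 1) (by omega) (by omega)
      have ih0 := ih d (by omega) (by omega)
      generalize hpdef : L - (d + 1) = p at hp ih1
      have hpL : p < L := by omega
      obtain ⟨ha1, hwe1⟩ := hw p hp hpL.le
      obtain ⟨ha2, hwe2⟩ := hw (p + 1) (by omega) (by omega)
      simp only [Nat.add_sub_cancel] at ha2 hwe2
      have hne : v (p - 1) ≠ v (p + 1) := fun e => by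
        have := hP.1 (show p - 1 < L + 1 by omega) (show p + 1 < L + 1 by omega) e; omega
      have hrow := row_erase T (v p)
      rw [(hv' _).2, ← Finset.sum_subset (s₁ := {v (p - 1), v (p + 1)}) ?_ ?_, Finset.sum_pair hne] at hrow
      · rw [a_comm T (v p) (v (p - 1)), ha1, ha2, ← hwe2] at hrow
        have h3 : T.m (v (p - 1)) + T.m (v (p + 1)) = 2 * T.m (v p) :=
          mul_left_cancel₀ (T.w_pos (v p)).ne' (by linarith)
        rw [show L - d = p + 1 by omega] at ih0
        rw [show L - (d + 1 + 1) = p - 1 by omega]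
        push_cast at ih1 ⊢
        linarith
      · intro i hi
        simp only [Finset.mem_insert, Finset.mem_singleton] at hi
        refine Finset.mem_erase.2 ⟨fun e => ?_, mem_univ _⟩
        rcases hi with rfl | rfl
        · have := hP.1 (show p - 1 < L + 1 by omega) (show p < L + 1 by omega) e; omega
        · have := hP.1 (show p + 1 < L + 1 by omega) (show p < L + 1 by omega) e; omega
      · intro i hi hni
        simp only [Finset.mem_insert, Finset.mem_singleton, not_or] at hni
        by_contra h
        have h' : T.a (v p) i ≠ 0 := fun e => h (by rw [e, zero_mul])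
        rcases hnb p hp hpL.le i (Finset.mem_erase.1 hi).1 h' with h1 | ⟨-, h1⟩
        · exact hni.1 h1
        · exact hni.2 h1

omit hP in
/-- A path through all indices. -/
lemma spanning {v : ℕ → Fin n} (hP : IsPath T L v) (hspan : ∀ i, ∃ p ≤ L, v p = i) : AffineType T := by
  classical
  have hne : ∀ p q, p ≤ L → q ≤ L → p ≠ q → v p ≠ v q := fun p q hp hq hpq e =>
    hpq (hP.1 (show p < L + 1 by omega) (show q < L + 1 by omega) e)
  -- no chords
  by_cases hch : ∃ p q, p + 1 < q ∧ q ≤ L ∧ T.a (v p) (v q) ≠ 0
  · obtain ⟨p, q, h1, h2, h3⟩ := hch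
    exact chord hv' hn hL hP h1 h2 h3
  push_neg at hch
  -- no triple edges
  by_cases htr : ∃ p < L, T.w (v (p + 1)) = 3 * T.w (v p) ∨ T.w (v p) = 3 * T.w (v (p + 1))
  · obtain ⟨p, hp, h⟩ := htr
    by_cases hp0 : 1 ≤ p
    · refine (g2_found hv' (v := fun a => v (p - 1 + a)) (by omega)
        (injOn_comp hP.1 _ (fun a ha => by omega) (fun a _ b _ h => by omega))
        (hP.2 (p - 1 + 0) (by omega)) (hP.2 (p - 1 + 1) (by omega)) ?_).2
      show T.w (v (p - 1 + 2)) = 3 * T.w (v (p - 1 + 1)) ∨ _
      rw [show p - 1 + 2 = p + 1 by omega, show p - 1 + 1 = p by omega]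
      exact h
    · obtain rfl : p = 0 := by omega
      refine (g2_found hv' (v := fun a => v (2 - a)) (by omega)
        (injOn_comp hP.1 _ (fun a ha => by omega) (fun a _ b _ h => by omega))
        (by rw [a_comm]; exact hP.2 1 (by omega)) (by rw [a_comm]; exact hP.2 0 (by omega)) ?_).2
      exact h.symm
  push_neg at htr
  -- two special edges
  by_cases htwo : ∃ p q, p < q ∧ q < L ∧ T.w (v p) ≠ T.w (v (p + 1)) ∧ T.w (v q) ≠ T.w (v (q + 1))
  · obtain ⟨p, q, h1, h2, h3, h4⟩ := htwo
    refine (cpath_found hv' (v := fun a => v (p + a)) (k := q - p - 1) (by omega)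
      (injOn_comp hP.1 _ (fun a ha => by omega) (fun a _ b _ h => by omega))
      (fun a ha => hP.2 (p + a) (by omega)) h3 ?_).2
    show T.w (v (p + (q - p - 1 + 1))) ≠ T.w (v (p + (q - p - 1 + 2)))
    rw [show p + (q - p - 1 + 1) = q by omega, show p + (q - p - 1 + 2) = q + 1 by omega]
    exact h4
  -- an interior special edge with room
  by_cases hf4 : ∃ p, T.w (v p) ≠ T.w (v (p + 1)) ∧ ((2 ≤ p ∧ p + 2 ≤ L) ∨ (1 ≤ p ∧ p + 3 ≤ L))
  · obtain ⟨p, h1, h2 | h2⟩ := hf4
    · refine (f4_found hv' (v := fun a => v (p - 2 + a)) (by omega)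
        (injOn_comp hP.1 _ (fun a ha => by omega) (fun a _ b _ h => by omega))
        (fun a ha => hP.2 (p - 2 + a) (by omega)) ?_).2
      show T.w (v (p - 2 + 2)) ≠ T.w (v (p - 2 + 3))
      rw [show p - 2 + 2 = p by omega, show p - 2 + 3 = p + 1 by omega]
      exact h1
    · refine (f4_found hv' (v := fun a => v (p + 3 - a)) (by omega)
        (injOn_comp hP.1 _ (fun a ha => by omega) (fun a ha b hb h => by omega)) (fun a ha => ?_) ?_).2
      · show T.a (v (p + 3 - a)) (v (p + 3 - (a + 1))) ≠ 0
        rw [a_comm, show p + 3 - a = p + 3 - (a + 1) + 1 by omega]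
        exact hP.2 _ (by omega)
      · show T.w (v (p + 3 - 2)) ≠ T.w (v (p + 3 - 3))
        rw [show p + 3 - 2 = p + 1 by omega, show p + 3 - 3 = p by omega]
        exact h1.symm
  push_neg at htwo hf4
  exfalso
  -- neighbours along the path
  have hnb : ∀ p ≤ L, ∀ i, i ≠ v p → T.a (v p) i ≠ 0 → (1 ≤ p ∧ i = v (p - 1)) ∨ (p < L ∧ i = v (p + 1)) := by
    intro p hp i hi h
    obtain ⟨q, hq, rfl⟩ := hspan i
    rcases lt_trichotomy p q with h' | h' | h'
    · rcases lt_or_eq_of_le (Nat.succ_le_of_lt h') with h'' | h''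
      · exact absurd (hch p q h'' hq) h
      · exact .inr ⟨by omega, by rw [show p + 1 = q from h'']⟩
    · exact absurd (by rw [h']) hi
    · rcases lt_or_eq_of_le (Nat.succ_le_of_lt h') with h'' | h''
      · exact absurd (by rw [a_comm]; exact hch q p h'' hp) h
      · exact .inl ⟨by omega, by rw [show p - 1 = q by omega]⟩
  have amax : ∀ p < L, T.a (v p) (v (p + 1)) = max (T.w (v p)) (T.w (v (p + 1))) := fun p hp =>
    a_eq_max T (by omega) (hne p (p + 1) (by omega) (by omega) (by omega)) (hv' _) (hv' _) (hP.2 p hp)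
  have kinds : ∀ p < L, T.w (v (p + 1)) = T.w (v p) ∨ T.w (v (p + 1)) = 2 * T.w (v p) ∨
      T.w (v p) = 2 * T.w (v (p + 1)) := by
    intro p hp
    have := htr p hp
    rcases w_eq_or_mul T (by omega) (hne p (p + 1) (by omega) (by omega) (by omega)) (hv' _) (hv' _)
      (hP.2 p hp) with ⟨a, b⟩ | ⟨a, b | b⟩ | ⟨a, b | b⟩ <;> omega
  -- rows
  have rowmid : ∀ p, 1 ≤ p → p < L → T.a (v p) (v (p - 1)) * T.m (v (p - 1)) +
      T.a (v p) (v (p + 1)) * T.m (v (p + 1)) = 2 * T.w (v p) * T.m (v p) := by
    intro p h1 h2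
    have h := row_erase T (v p)
    rw [(hv' _).2, ← Finset.sum_subset (s₁ := {v (p - 1), v (p + 1)}) ?_ ?_,
      Finset.sum_pair (hne _ _ (by omega) (by omega) (by omega))] at h
    · linarith
    · intro i hi
      simp only [Finset.mem_insert, Finset.mem_singleton] at hi
      refine Finset.mem_erase.2 ⟨?_, mem_univ _⟩
      rcases hi with rfl | rfl <;> exact hne _ _ (by omega) (by omega) (by omega)
    · intro i hi hni
      simp only [Finset.mem_insert, Finset.mem_singleton, not_or] at hni
      by_contra h0
      rcases hnb p h2.le i (Finset.mem_erase.1 hi).1 (fun e => h0 (by rw [e, zero_mul])) with ⟨-, e⟩ | ⟨-, e⟩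
      · exact hni.1 e
      · exact hni.2 e
  have rowend : ∀ p q, p ≤ L → q ≤ L → (p = 0 ∧ q = 1 ∨ p = L ∧ q + 1 = L) →
      T.a (v p) (v q) * T.m (v q) = 2 * T.w (v p) * T.m (v p) := by
    intro p q hp hq hpq
    have h := row_erase T (v p)
    rw [(hv' _).2, Finset.sum_eq_single (v q)] at h
    · linarith
    · intro i hi hne'
      by_contra h0
      rcases hnb p hp i (Finset.mem_erase.1 hi).1 (fun e => h0 (by rw [e, zero_mul])) with ⟨h1, e⟩ | ⟨h1, e⟩
      · exact hne' (by rw [e, show p - 1 = q by omega])
      · exact hne' (by rw [e, show p + 1 = q by omega])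
    · intro h0
      exact absurd (Finset.mem_erase.2 ⟨hne q p hq hp (by omega), mem_univ _⟩) h0
  by_cases hmid : ∃ p, 1 ≤ p ∧ p + 2 ≤ L ∧ T.w (v p) ≠ T.w (v (p + 1))
  · obtain ⟨p, hp1, hp2, hp3⟩ := hmid
    obtain ⟨rfl, rfl⟩ : p = 1 ∧ L = 3 := by
      have := hf4 p hp3
      omega
    have e01 : T.w (v 0) = T.w (v 1) := not_not.1 fun h => (htwo 0 1 one_pos (by omega) h) |> fun h' => hp3 h'
    have e23 : T.w (v 2) = T.w (v 3) := htwo 1 2 (by omega) (by omega) hp3
    have r0 := rowend 0 1 (by omega) (by omega) (by omega)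
    have r3 := rowend 3 2 (by omega) (by omega) (by omega)
    have r1 : T.a (v 1) (v 0) * T.m (v 0) + T.a (v 1) (v 2) * T.m (v 2) = 2 * T.w (v 1) * T.m (v 1) :=
      rowmid 1 le_rfl (by omega)
    have r2 : T.a (v 2) (v 1) * T.m (v 1) + T.a (v 2) (v 3) * T.m (v 3) = 2 * T.w (v 2) * T.m (v 2) :=
      rowmid 2 (by omega) (by omega)
    rw [amax 0 (by omega), e01, max_self] at r0
    rw [a_comm, amax 2 (by omega), e23, max_self] at r3
    rw [a_comm T (v 1) (v 0), amax 0 (by omega), e01, max_self, amax 1 (by omega)] at r1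
    rw [a_comm T (v 2) (v 1), amax 1 (by omega), amax 2 (by omega), e23, max_self] at r2
    have p1 := T.w_pos (v 1)
    have p2 := T.w_pos (v 2)
    have p3 := T.w_pos (v 3)
    have q0 : T.m (v 1) = 2 * T.m (v 0) := mul_left_cancel₀ p1.ne' (by linarith)
    have q3 : T.m (v 2) = 2 * T.m (v 3) := mul_left_cancel₀ p3.ne' (by linarith)
    rcases (kinds 1 (by omega)).resolve_left (fun h => hp3 h.symm) with k | k
    · rw [e23] at k
      rw [show T.w (v (1 + 1)) = T.w (v 3) from e23] at r1
      rw [k, max_eq_right (by omega)] at r1 r2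
      have a1 : T.m (v 0) + 2 * T.m (v 2) = 2 * T.m (v 1) := mul_left_cancel₀ p1.ne' (by linarith)
      have a2 : T.m (v 1) + T.m (v 3) = 2 * T.m (v 2) :=
        mul_left_cancel₀ (show 2 * T.w (v 1) ≠ 0 by omega) (by linarith)
      have := T.m_pos (v 0)
      omega
    · rw [show T.w (v (1 + 1)) = T.w (v 3) from e23] at k
      rw [show T.w (v (1 + 1)) = T.w (v 3) from e23] at r1
      rw [k, max_eq_left (by omega)] at r1 r2
      have a1 : T.m (v 0) + T.m (v 2) = 2 * T.m (v 1) :=
        mul_left_cancel₀ (show 2 * T.w (v 3) ≠ 0 by omega) (by linarith)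
      have a2 : 2 * T.m (v 1) + T.m (v 3) = 2 * T.m (v 2) := mul_left_cancel₀ p3.ne' (by linarith)
      have := T.m_pos (v 0)
      omega
  push_neg at hmid
  -- at most one end is special; orient it to be the first
  obtain ⟨u, hu, huspan, hulast, huch, hutr⟩ : ∃ u : ℕ → Fin n, IsPath T L u ∧ (∀ i, ∃ p ≤ L, u p = i) ∧
      (∀ p, 1 ≤ p → p < L → T.w (u p) = T.w (u (p + 1))) ∧
      (∀ p q, p + 1 < q → q ≤ L → T.a (u p) (u q) = 0) ∧
      (∀ p < L, T.w (u (p + 1)) ≠ 3 * T.w (u p) ∧ T.w (u p) ≠ 3 * T.w (u (p + 1))) := by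
    by_cases hlast : T.w (v (L - 1)) = T.w (v L)
    · refine ⟨v, hP, hspan, fun p h1 h2 => ?_, hch, htr⟩
      rcases lt_or_eq_of_le (Nat.succ_le_of_lt h2) with h | h
      · exact hmid p h1 h
      · rw [show p = L - 1 by omega, show L - 1 + 1 = L by omega]; exact hlast
    · refine ⟨fun p => v (L - p), hP.rev, fun i => ?_, fun p h1 h2 => ?_, fun p q h1 h2 => ?_, fun p h1 => ?_⟩
      · obtain ⟨p, hp, rfl⟩ := hspan i
        exact ⟨L - p, by omega, show v (L - (L - p)) = v p by rw [show L - (L - p) = p by omega]⟩
      · show T.w (v (L - p)) = T.w (v (L - (p + 1)))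
        rcases lt_or_eq_of_le (Nat.succ_le_of_lt h2) with h | h
        · have := hmid (L - (p + 1)) (by omega) (by omega)
          rw [show L - (p + 1) + 1 = L - p by omega] at this
          exact this.symm
        · rw [show L - (p + 1) = 0 by omega, show L - p = 1 by omega]
          by_contra h0
          have := htwo 0 (L - 1) (by omega) (by omega) (Ne.symm h0)
          rw [show L - 1 + 1 = L by omega] at this
          exact hlast this
      · show T.a (v (L - p)) (v (L - q)) = 0
        rw [a_comm]; exact hch (L - q) (L - p) (by omega) (by omega)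
      · show T.w (v (L - (p + 1))) ≠ 3 * T.w (v (L - p)) ∧ T.w (v (L - p)) ≠ 3 * T.w (v (L - (p + 1)))
        have := htr (L - (p + 1)) (by omega)
        rw [show L - (p + 1) + 1 = L - p by omega] at this
        exact this.symm
  clear hch htr htwo hf4 hnb amax kinds rowmid rowend hmid hne hspan hP
  have hne : ∀ p q, p ≤ L → q ≤ L → p ≠ q → u p ≠ u q := fun p q hp hq hpq e =>
    hpq (hu.1 (show p < L + 1 by omega) (show q < L + 1 by omega) e)
  have hnb : ∀ p ≤ L, ∀ i, i ≠ u p → T.a (u p) i ≠ 0 →
      (1 ≤ p ∧ i = u (p - 1)) ∨ (p < L ∧ i = u (p + 1)) := by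
    intro p hp i hi h
    obtain ⟨q, hq, rfl⟩ := huspan i
    rcases lt_trichotomy p q with h' | h' | h'
    · rcases lt_or_eq_of_le (Nat.succ_le_of_lt h') with h'' | h''
      · exact absurd (huch p q h'' hq) h
      · exact .inr ⟨by omega, by rw [show p + 1 = q from h'']⟩
    · exact absurd (by rw [h']) hi
    · rcases lt_or_eq_of_le (Nat.succ_le_of_lt h') with h'' | h''
      · exact absurd (by rw [a_comm]; exact huch q p h'' hp) h
      · exact .inl ⟨by omega, by rw [show p - 1 = q by omega]⟩
  have amax : ∀ p < L, T.a (u p) (u (p + 1)) = max (T.w (u p)) (T.w (u (p + 1))) := fun p hp =>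
    a_eq_max T (by omega) (hne p (p + 1) (by omega) (by omega) (by omega)) (hv' _) (hv' _) (hu.2 p hp)
  have lin := linear_end hv' hn hL hu (q0 := 1) (by omega) (fun p h1 h2 i hi h => by
      rcases hnb p h2 i hi h with ⟨-, e⟩ | e
      · exact .inl e
      · exact .inr e) (fun p h1 h2 => by
      have h3 := hulast (p - 1) (by omega) (by omega)
      have h4 := amax (p - 1) (by omega)
      rw [show p - 1 + 1 = p by omega] at h3 h4
      rw [h4, h3, max_self]; exact ⟨rfl, rfl⟩)
  have m1 := lin (L - 1) (by omega)
  have m2 := lin (L - 2) (by omega)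
  rw [show L - (L - 1) = 1 by omega, Nat.cast_sub (by omega : 1 ≤ L)] at m1
  rw [show L - (L - 2) = 2 by omega, Nat.cast_sub hL] at m2
  push_cast at m1 m2
  have h0 := row_erase T (u 0)
  rw [(hv' _).2, Finset.sum_eq_single (u 1) (fun i hi hne' => by
      by_contra h0
      rcases hnb 0 (by omega) i (Finset.mem_erase.1 hi).1 (fun e => h0 (by rw [e, zero_mul])) with ⟨h1, -⟩ | ⟨-, e⟩
      · omega
      · exact hne' e)
    (fun h0 => absurd (Finset.mem_erase.2 ⟨hne 1 0 (by omega) (by omega) (by omega), mem_univ _⟩) h0)] at h0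
  have h1 := row_erase T (u 1)
  rw [(hv' _).2, ← Finset.sum_subset (s₁ := {u 0, u 2}) (fun i hi => by
      simp only [Finset.mem_insert, Finset.mem_singleton] at hi
      refine Finset.mem_erase.2 ⟨?_, mem_univ _⟩
      rcases hi with rfl | rfl <;> exact hne _ _ (by omega) (by omega) (by omega))
    (fun i hi hni => by
      simp only [Finset.mem_insert, Finset.mem_singleton, not_or] at hni
      by_contra h0
      rcases hnb 1 (by omega) i (Finset.mem_erase.1 hi).1 (fun e => h0 (by rw [e, zero_mul])) with ⟨-, e⟩ | ⟨-, e⟩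
      · exact hni.1 e
      · exact hni.2 e),
    Finset.sum_pair (hne _ _ (by omega) (by omega) (by omega))] at h1
  have a01 : T.a (u 0) (u 1) = max (T.w (u 0)) (T.w (u 1)) := amax 0 (by omega)
  have a12 : T.a (u 1) (u 2) = max (T.w (u 1)) (T.w (u 2)) := amax 1 (by omega)
  have w12 : T.w (u 1) = T.w (u 2) := hulast 1 le_rfl (by omega)
  rw [a_comm T (u 1) (u 0), a12, ← w12, max_self, a01] at h1
  rw [a01] at h0
  have p0 := T.w_pos (u 0)
  have p1 := T.w_pos (u 1)
  have := hutr 0 (by omega)
  have mL := T.m_pos (u L)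
  have m0 := T.m_pos (u 0)
  rcases w_eq_or_mul T (by omega) (hne 0 1 (by omega) (by omega) (by omega)) (hv' _) (hv' _)
    (hu.2 0 (by omega)) with ⟨-, k⟩ | ⟨-, k | k⟩ | ⟨-, k | k⟩
  · rw [k, max_self] at h0 h1
    have e0 : T.m (u 1) = 2 * T.m (u 0) := mul_left_cancel₀ p0.ne' (by linarith)
    have e1 : T.m (u 0) + T.m (u 2) = 2 * T.m (u 1) := mul_left_cancel₀ p0.ne' (by linarith)
    linarith
  · rw [k, max_eq_right (by omega)] at h0 h1
    have e0 : T.m (u 1) = T.m (u 0) := mul_left_cancel₀ p0.ne' (by linarith)
    have e1 : T.m (u 0) + T.m (u 2) = 2 * T.m (u 1) :=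
      mul_left_cancel₀ (show 2 * T.w (u 0) ≠ 0 by omega) (by linarith)
    linarith
  · exact this.1 k
  · rw [k, max_eq_left (by omega)] at h0 h1
    have e0 : T.m (u 1) = 2 * T.m (u 0) :=
      mul_left_cancel₀ (show 2 * T.w (u 1) ≠ 0 by omega) (by linarith)
    have e1 : 2 * T.m (u 0) + T.m (u 2) = 2 * T.m (u 1) := mul_left_cancel₀ p1.ne' (by linarith)
    linarith
  · exact this.2 k

omit hP in
/-- A vertex hanging off the path. -/
lemma branched {v : ℕ → Fin n} (hP : IsPath T L v) (hmax : ∀ L' v', IsPath T L' v' → L' ≤ L)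
    {u : Fin n} {j : ℕ} (hu : ∀ p ≤ L, v p ≠ u) (hj : j ≤ L) (huj : T.a (v j) u ≠ 0) :
    AffineType T := by
  classical
  have hne : ∀ p q, p ≤ L → q ≤ L → p ≠ q → v p ≠ v q := fun p q hp hq hpq e =>
    hpq (hP.1 (show p < L + 1 by omega) (show q < L + 1 by omega) e)
  -- prepend
  have ext : ∀ (k : ℕ) (w : ℕ → Fin n) (x : Fin n), IsPath T k w → (∀ p ≤ k, w p ≠ x) →
      T.a x (w 0) ≠ 0 → IsPath T (k + 1) (fun p => if p = 0 then x else w (p - 1)) := by
    intro k w x hw hx h0
    refine ⟨fun p hp q hq h => ?_, fun p hp => ?_⟩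
    · simp only [Set.mem_Iio] at hp hq
      dsimp only at h
      split_ifs at h with h1 h2 h2
      · omega
      · exact absurd h.symm (hx _ (by omega))
      · exact absurd h (hx _ (by omega))
      · have := hw.1 (show p - 1 < k + 1 by omega) (show q - 1 < k + 1 by omega) h
        omega
    · rcases Nat.eq_zero_or_pos p with rfl | hp0
      · simpa using h0
      · simp only [show p + 1 ≠ 0 by omega, hp0.ne', if_false, Nat.add_sub_cancel]
        have := hw.2 (p - 1) (by omega)
        rwa [show p - 1 + 1 = p by omega] at this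
  have hend : ∀ x, (∀ p ≤ L, v p ≠ x) → T.a (v 0) x = 0 ∧ T.a (v L) x = 0 := by
    intro x hx
    constructor
    · by_contra h
      have := hmax _ _ (ext L v x hP hx (by rw [a_comm]; exact h))
      omega
    · by_contra h
      have := hmax _ _ (ext L _ x hP.rev (fun p hp => hx _ (by omega)) (by rw [a_comm]; simpa using h))
      omega
  have hj1 : 1 ≤ j ∧ j < L := by
    have := hend u hu
    constructor
    · by_contra h
      exact huj (by rw [show j = 0 by omega]; exact this.1)
    · by_contra h
      exact huj (by rw [show j = L by omega]; exact this.2)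
  -- a second attachment
  have two : ∀ (u' : Fin n) (j' : ℕ), (∀ p ≤ L, v p ≠ u') → j ≤ j' → j' ≤ L → T.a (v j') u' ≠ 0 →
      (j = j' → u ≠ u') → AffineType T ∧ u ≠ u' ∨ u = u' ∧ j ≠ j' := by
    intro u' j' hu' hjj hj' ha hdiff
    rcases eq_or_ne u u' with rfl | huu
    · exact .inr ⟨rfl, fun h => hdiff h rfl⟩
    have hj2 : j' < L := by
      by_contra h
      exact ha (by rw [show j' = L by omega]; exact (hend u' hu').2)
    refine .inl ⟨?_, huu⟩
    obtain ⟨k, rfl⟩ : ∃ k, j' = j + k := ⟨j' - j, by omega⟩
    let w : ℕ → Fin n := fun p => if p = 0 then v (j - 1) else if p = 1 then u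
      else if p ≤ k + 2 then v (j + (p - 2)) else if p = k + 3 then v (j + k + 1) else u'
    refine (dd_found hv' (v := w) (k := k) ?_ ?_ ?_ ?_ ?_ ?_).2
    · intro p hp q hq h
      simp only [Set.mem_Iio] at hp hq
      simp only [w] at h
      split_ifs at h <;>
        first
        | omega
        | exact absurd h (hne _ _ (by omega) (by omega) (by omega))
        | exact absurd h (hu _ (by omega))
        | exact absurd h.symm (hu _ (by omega))
        | exact absurd h (hu' _ (by omega))
        | exact absurd h.symm (hu' _ (by omega))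
        | exact absurd h huu
        | exact absurd h.symm huu
        | (have := hP.1 (show _ < L + 1 by omega) (show _ < L + 1 by omega) h; omega)
    · show T.a (v (j - 1)) (w 2) ≠ 0
      have := hP.2 (j - 1) (by omega)
      rw [show j - 1 + 1 = j by omega] at this
      simpa [w] using this
    · show T.a u (w 2) ≠ 0
      rw [a_comm]
      simpa [w] using huj
    · intro p hp
      have := hP.2 (j + p) (by omega)
      rw [show w (p + 2) = v (j + p) by simp [w, show p ≤ k by omega],
        show w (p + 3) = v (j + p + 1) by simp [w, show p + 1 ≤ k by omega, add_assoc]]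
      exact this
    · rw [show w (k + 2) = v (j + k) by simp [w], show w (k + 3) = v (j + k + 1) by simp [w]]
      exact hP.2 _ (by omega)
    · rw [show w (k + 2) = v (j + k) by simp [w], show w (k + 4) = u' by simp [w]]
      exact ha
  -- chords
  by_cases hch : ∃ p q, p + 1 < q ∧ q ≤ L ∧ T.a (v p) (v q) ≠ 0
  · obtain ⟨p, q, h1, h2, h3⟩ := hch
    exact chord hv' hn hL hP h1 h2 h3
  push_neg at hch
  -- the same vertex attached twice gives a cycle missing an endpoint
  by_cases hdouble : ∃ j' ≤ L, j' ≠ j ∧ T.a (v j') u ≠ 0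
  · obtain ⟨j', hj', hne', ha⟩ := hdouble
    obtain ⟨a, b, hab, hb, ha1, hb1⟩ : ∃ a b, a < b ∧ b ≤ L ∧ T.a (v a) u ≠ 0 ∧ T.a (v b) u ≠ 0 := by
      rcases lt_or_gt_of_ne hne' with h | h
      · exact ⟨j', j, h, hj, ha, huj⟩
      · exact ⟨j, j', h, hj', huj, ha⟩
    let w : ℕ → Fin n := fun p => if p ≤ b - a then v (a + p) else u
    refine (cyc_found hv' (t := b - a + 2) (v := w) (by omega) ?_ ?_ ?_).2
    · intro p hp q hq h
      simp only [Set.mem_Iio] at hp hq
      simp only [w] at h
      split_ifs at h <;>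
        first
        | omega
        | exact absurd h (hu _ (by omega))
        | exact absurd h.symm (hu _ (by omega))
        | (have := hP.1 (show _ < L + 1 by omega) (show _ < L + 1 by omega) h; omega)
    · intro p hp
      rcases lt_or_eq_of_le (show p ≤ b - a by omega) with h | h
      · rw [show w p = v (a + p) by simp [w, h.le], show w (p + 1) = v (a + p + 1) by simp [w, show p + 1 ≤ b - a by omega, add_assoc]]
        exact hP.2 _ (by omega)
      · rw [show w p = v b by simp [w, h, show a + (b - a) = b by omega], show w (p + 1) = u by simp [w, h]]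
        exact hb1
    · rw [show w (b - a + 2 - 1) = u by simp [w], show w 0 = v a by simp [w], a_comm]
      exact ha1
  push_neg at hdouble
  by_cases hother : ∃ u' j', (∀ p ≤ L, v p ≠ u') ∧ j' ≤ L ∧ T.a (v j') u' ≠ 0 ∧ u' ≠ u
  · obtain ⟨u', j', hu', hj', ha, huu⟩ := hother
    rcases le_or_gt j j' with h | h
    · rcases two u' j' hu' h hj' ha (fun _ => huu.symm) with h1 | h1
      · exact h1.1
      · exact absurd h1.1.symm huu
    · -- exchange the two
      have hj2 : 1 ≤ j' := by
        by_contra h0
        exact ha (by rw [show j' = 0 by omega]; exact (hend u' hu').1)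
      obtain ⟨k, rfl⟩ : ∃ k, j = j' + k := ⟨j - j', by omega⟩
      let w : ℕ → Fin n := fun p => if p = 0 then v (j' - 1) else if p = 1 then u'
        else if p ≤ k + 2 then v (j' + (p - 2)) else if p = k + 3 then v (j' + k + 1) else u
      refine (dd_found hv' (v := w) (k := k) ?_ ?_ ?_ ?_ ?_ ?_).2
      · intro p hp q hq h
        simp only [Set.mem_Iio] at hp hq
        simp only [w] at h
        split_ifs at h <;>
          first
          | omega
          | exact absurd h (hne _ _ (by omega) (by omega) (by omega))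
          | exact absurd h (hu _ (by omega))
          | exact absurd h.symm (hu _ (by omega))
          | exact absurd h (hu' _ (by omega))
          | exact absurd h.symm (hu' _ (by omega))
          | exact absurd h huu
          | exact absurd h.symm huu
          | (have := hP.1 (show _ < L + 1 by omega) (show _ < L + 1 by omega) h; omega)
      · show T.a (v (j' - 1)) (w 2) ≠ 0
        have := hP.2 (j' - 1) (by omega)
        rw [show j' - 1 + 1 = j' by omega] at this
        simpa [w] using this
      · show T.a u' (w 2) ≠ 0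
        rw [a_comm]
        simpa [w] using ha
      · intro p hp
        have := hP.2 (j' + p) (by omega)
        rw [show w (p + 2) = v (j' + p) by simp [w, show p ≤ k by omega],
          show w (p + 3) = v (j' + p + 1) by simp [w, show p + 1 ≤ k by omega, add_assoc]]
        exact this
      · rw [show w (k + 2) = v (j' + k) by simp [w], show w (k + 3) = v (j' + k + 1) by simp [w]]
        exact hP.2 _ (by omega)
      · rw [show w (k + 2) = v (j' + k) by simp [w], show w (k + 4) = u by simp [w]]
        exact huj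
  push_neg at hother
  clear two
  -- a vertex hanging off `u`
  by_cases htail : ∃ u', u' ≠ u ∧ (∀ p ≤ L, v p ≠ u') ∧ T.a u u' ≠ 0
  · obtain ⟨u', huu, hu', ha⟩ := htail
    have hside : ∀ w : ℕ → Fin n, IsPath T L w → (∀ p ≤ L, w p ≠ u) → (∀ p ≤ L, w p ≠ u') →
        ∀ i, i ≤ L → T.a (w i) u ≠ 0 → 2 ≤ i := by
      intro w hw hwu hwu' i hi hiu
      by_contra h
      rcases show i = 0 ∨ i = 1 by omega with rfl | rfl
      · have := hmax _ _ (ext L w u hw hwu (by rw [a_comm]; exact hiu)); omega
      · have hw' : IsPath T (L - 1) (fun p => w (p + 1)) := by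
          refine ⟨fun p hp q hq h => ?_, fun p hp => hw.2 (p + 1) (by omega)⟩
          simp only [Set.mem_Iio] at hp hq
          have := hw.1 (show p + 1 < L + 1 by omega) (show q + 1 < L + 1 by omega) h
          omega
        have h1 := ext (L - 1) _ u hw' (fun p hp => hwu _ (by omega)) (by rw [a_comm]; exact hiu)
        have h2 := ext _ _ u' h1 (fun p hp => by
          split_ifs
          · exact huu.symm
          · exact hwu' _ (by omega)) (by simp only [if_true]; rw [a_comm]; exact ha)
        have := hmax _ _ h2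
        omega
    have hl := hside v hP hu hu' j hj huj
    have hr := hside _ hP.rev (fun p hp => hu _ (by omega)) (fun p hp => hu' _ (by omega)) (L - j) (by omega)
      (by rw [show L - (L - j) = j by omega]; exact huj)
    let w : ℕ → Fin n := fun p => if p = 0 then v (j - 2) else if p = 1 then v (j - 1) else
      if p = 2 then v j else if p = 3 then v (j + 2) else if p = 4 then v (j + 1) else
      if p = 5 then u' else u
    obtain ⟨h7, hs⟩ := simple_found hv' (t := 7) (v := w) (fun p => [1, 2, 3, 1, 2, 1, 2].getD p 1) e6E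
      (by omega) (by
        intro p hp q hq h
        simp only [Set.mem_Iio] at hp hq
        simp only [w] at h
        split_ifs at h <;>
          first
          | omega
          | exact absurd h (hne _ _ (by omega) (by omega) (by omega))
          | exact absurd h (hu _ (by omega))
          | exact absurd h.symm (hu _ (by omega))
          | exact absurd h (hu' _ (by omega))
          | exact absurd h.symm (hu' _ (by omega))
          | exact absurd h huu
          | exact absurd h.symm huu)
      (by decide) (by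
        intro pq hpq
        have c1 := hP.2 (j - 2) (by omega)
        have c2 := hP.2 (j - 1) (by omega)
        have c3 := hP.2 j (by omega)
        have c4 := hP.2 (j + 1) (by omega)
        rw [show j - 2 + 1 = j - 1 by omega] at c1
        rw [show j - 1 + 1 = j by omega] at c2
        simp only [e6E, Finset.mem_insert, Finset.mem_singleton] at hpq
        rcases hpq with rfl | rfl | rfl | rfl | rfl | rfl
        · exact c1
        · exact c2
        · rw [a_comm]; exact c4
        · rw [a_comm]; exact c3
        · rw [a_comm]; exact ha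
        · rw [a_comm]; exact huj)
      (by decide) 0 (by omega) rfl (by decide) (by decide)
    refine .inr (.inr (.inl ⟨h7.symm, ?_⟩))
    obtain ⟨v0, m, w0, hsh⟩ := hs
    refine ⟨v0, m, w0, hsh.inj, fun p hp => ?_, hsh.wt_eq, hsh.edge, hsh.zero⟩
    rw [hsh.mult_eq p hp]
    rw [← h7] at hp
    interval_cases p <;> rfl
  push_neg at htail
  -- `u` is the only vertex off the path, and it is a leaf
  have hall : ∀ i, (∃ p ≤ L, v p = i) ∨ i = u := by
    intro i
    by_contra hi
    push_neg at hi
    let I : Finset (Fin n) := insert u ((range (L + 1)).image v)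
    obtain ⟨a, ha, b, hb, hab⟩ := T.connected I ⟨u, Finset.mem_insert_self _ _⟩ (fun e => by
      have := Finset.eq_univ_iff_forall.1 e i
      simp only [I, Finset.mem_insert, Finset.mem_image, Finset.mem_range] at this
      rcases this with h | ⟨p, hp, h⟩
      · exact hi.2 h
      · exact hi.1 p (by omega) h)
    simp only [I, Finset.mem_insert, Finset.mem_image, Finset.mem_range, not_or, not_exists, not_and] at ha hb
    have hb' : ∀ p ≤ L, v p ≠ b := fun p hp => hb.2 p (by omega)
    rcases ha with rfl | ⟨p, hp, rfl⟩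
    · exact hab (htail b hb.1 hb')
    · exact hb.1 (hother b p hb' (by omega) hab)
  have hun : ∀ p ≤ L, p ≠ j → T.a (v p) u = 0 := hdouble
  -- special edges
  by_cases hsp : T.w u ≠ T.w (v j)
  · refine (bd_found hv' (k := 1) (v := fun p => if p = 0 then u else if p = 1 then v j else
      if p = 2 then v (j - 1) else v (j + 1)) le_rfl (by omega) ?_ ?_ ?_ ?_ (by simpa using hsp)).2
    · intro p hp q hq h
      simp only [Set.mem_Iio] at hp hq
      dsimp only at h
      split_ifs at h <;>
        first
        | omega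
        | exact absurd h (hne _ _ (by omega) (by omega) (by omega))
        | exact absurd h (hu _ (by omega))
        | exact absurd h.symm (hu _ (by omega))
    · intro p hp
      obtain rfl : p = 0 := by omega
      simpa [a_comm T u] using huj
    · have := hP.2 (j - 1) (by omega)
      rw [show j - 1 + 1 = j by omega, a_comm] at this
      simpa using this
    · simpa using hP.2 j (by omega)
  rw [not_not] at hsp
  by_cases hspl : ∃ p < j, T.w (v p) ≠ T.w (v (p + 1))
  · obtain ⟨p, hp, h⟩ := hspl
    refine (bd_found hv' (k := j - p) (v := fun a => if a ≤ j - p + 1 then v (p + a) else u) (by omega)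
      (by omega) ?_ ?_ ?_ ?_ (by simpa using h)).2
    · intro a ha b hb e
      simp only [Set.mem_Iio] at ha hb
      dsimp only at e
      split_ifs at e <;>
        first
        | omega
        | exact absurd e (hu _ (by omega))
        | exact absurd e.symm (hu _ (by omega))
        | (have := hP.1 (show _ < L + 1 by omega) (show _ < L + 1 by omega) e; omega)
    · intro a ha
      simp only [show a ≤ j - p + 1 by omega, show a + 1 ≤ j - p + 1 by omega, if_true]
      exact hP.2 (p + a) (by omega)
    · simp only [show j - p ≤ j - p + 1 by omega, le_refl, if_true]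
      rw [show p + (j - p) = j by omega, show p + (j - p + 1) = j + 1 by omega]
      exact hP.2 j (by omega)
    · simp only [show j - p ≤ j - p + 1 by omega, show ¬ j - p + 2 ≤ j - p + 1 by omega, if_true, if_false]
      rw [show p + (j - p) = j by omega]
      exact huj
  push_neg at hspl
  by_cases hspr : ∃ p, j ≤ p ∧ p < L ∧ T.w (v p) ≠ T.w (v (p + 1))
  · obtain ⟨p, hpj, hp, h⟩ := hspr
    refine (bd_found hv' (k := p + 1 - j) (v := fun a => if a ≤ p + 1 - j + 1 then v (p + 1 - a) else u)
      (by omega) (by omega) ?_ ?_ ?_ ?_ (by simpa using Ne.symm h)).2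
    · intro a ha b hb e
      simp only [Set.mem_Iio] at ha hb
      dsimp only at e
      split_ifs at e <;>
        first
        | omega
        | exact absurd e (hu _ (by omega))
        | exact absurd e.symm (hu _ (by omega))
        | (have := hP.1 (show _ < L + 1 by omega) (show _ < L + 1 by omega) e; omega)
    · intro a ha
      simp only [show a ≤ p + 1 - j + 1 by omega, show a + 1 ≤ p + 1 - j + 1 by omega, if_true]
      rw [a_comm, show p + 1 - a = p + 1 - (a + 1) + 1 by omega]
      exact hP.2 _ (by omega)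
    · simp only [show p + 1 - j ≤ p + 1 - j + 1 by omega, le_refl, if_true]
      rw [show p + 1 - (p + 1 - j) = j by omega, show p + 1 - (p + 1 - j + 1) = j - 1 by omega, a_comm]
      have := hP.2 (j - 1) (by omega)
      rwa [show j - 1 + 1 = j by omega] at this
    · simp only [show p + 1 - j ≤ p + 1 - j + 1 by omega, show ¬ p + 1 - j + 2 ≤ p + 1 - j + 1 by omega,
        if_true, if_false]
      rw [show p + 1 - (p + 1 - j) = j by omega]
      exact huj
  push_neg at hspr
  have hsimple : ∀ p < L, T.w (v p) = T.w (v (p + 1)) := fun p hp => by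
    rcases lt_or_ge p j with h | h
    · exact hspl p h
    · exact hspr p h hp
  -- both arms long: `E₇~`
  by_cases h33 : 3 ≤ j ∧ j + 3 ≤ L
  · obtain ⟨h8, hs⟩ := simple_found hv' (t := 8) (v := fun a => if a ≤ 6 then v (j - 3 + a) else u)
      (fun p => [1, 2, 3, 4, 3, 2, 1, 2].getD p 1) e7E (by omega) (by
        intro p hp q hq h
        simp only [Set.mem_Iio] at hp hq
        dsimp only at h
        split_ifs at h <;>
          first
          | omega
          | exact absurd h (hu _ (by omega))
          | exact absurd h.symm (hu _ (by omega))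
          | (have := hP.1 (show _ < L + 1 by omega) (show _ < L + 1 by omega) h; omega))
      (by decide) (by
        intro pq hpq
        simp only [e7E, Finset.mem_insert, Finset.mem_singleton] at hpq
        rcases hpq with rfl | rfl | rfl | rfl | rfl | rfl | rfl
        all_goals (try exact hP.2 (j - 3 + _) (by omega))
        show T.a u (v (j - 3 + 3)) ≠ 0
        rw [a_comm, show j - 3 + 3 = j by omega]; exact huj)
      (by decide) 0 (by omega) rfl (by decide) (by decide)
    refine .inr (.inr (.inr (.inl ⟨h8.symm, ?_⟩)))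
    obtain ⟨v0, m, w0, hsh⟩ := hs
    refine ⟨v0, m, w0, hsh.inj, fun p hp => ?_, hsh.wt_eq, hsh.edge, hsh.zero⟩
    rw [hsh.mult_eq p hp]
    rw [← h8] at hp
    interval_cases p <;> rfl
  -- orient so that the left arm is the short one
  obtain ⟨x, k, hx, hxu, hk, hkL, hxk, hxs⟩ : ∃ (x : ℕ → Fin n) (k : ℕ), IsPath T L x ∧
      (∀ p ≤ L, x p ≠ u) ∧ 1 ≤ k ∧ k + k ≤ L ∧
      ((T.a (x k) u ≠ 0 ∧ (∀ i, (∃ p ≤ L, x p = i) ∨ i = u) ∧ (∀ p ≤ L, p ≠ k → T.a (x p) u = 0) ∧
        (∀ p q, p + 1 < q → q ≤ L → T.a (x p) (x q) = 0) ∧ T.w u = T.w (x k)) ∧ k ≤ 2) ∧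
      (∀ p < L, T.w (x p) = T.w (x (p + 1))) := by
    rcases le_or_gt (j + j) L with h | h
    · exact ⟨v, j, hP, hu, hj1.1, h, ⟨⟨huj, hall, hun, hch, hsp⟩, by omega⟩, hsimple⟩
    · refine ⟨fun p => v (L - p), L - j, hP.rev, fun p hp => hu _ (by omega), by omega, by omega,
        ⟨⟨?_, fun i => ?_, fun p hp hpk => hun _ (by omega) (by omega),
          fun p q h1 h2 => ?_, ?_⟩, by omega⟩, fun p hp => ?_⟩
      · show T.a (v (L - (L - j))) u ≠ 0
        rw [show L - (L - j) = j by omega]; exact huj
      · rcases hall i with ⟨p, hp, rfl⟩ | h'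
        · exact .inl ⟨L - p, by omega, show v (L - (L - p)) = v p by rw [show L - (L - p) = p by omega]⟩
        · exact .inr h'
      · show T.a (v (L - p)) (v (L - q)) = 0
        rw [a_comm]; exact hch _ _ (by omega) (by omega)
      · show T.w u = T.w (v (L - (L - j)))
        rw [show L - (L - j) = j by omega]; exact hsp
      · show T.w (v (L - p)) = T.w (v (L - (p + 1)))
        have := hsimple (L - (p + 1)) (by omega)
        rw [show L - (p + 1) + 1 = L - p by omega] at this
        exact this.symm
  obtain ⟨⟨hxuk, hxall, hxun, hxch, hxsp⟩, hk2⟩ := hxk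
  -- `E₈~`
  by_cases h25 : k = 2 ∧ 7 ≤ L
  · obtain ⟨rfl, hL7⟩ := h25
    obtain ⟨h9, hs⟩ := simple_found hv' (t := 9) (v := fun a => if a ≤ 7 then x (7 - a) else u)
      (fun p => [1, 2, 3, 4, 5, 6, 4, 2, 3].getD p 1) e8E (by omega) (by
        intro p hp q hq h
        simp only [Set.mem_Iio] at hp hq
        dsimp only at h
        split_ifs at h <;>
          first
          | omega
          | exact absurd h (hxu _ (by omega))
          | exact absurd h.symm (hxu _ (by omega))
          | (have := hx.1 (show _ < L + 1 by omega) (show _ < L + 1 by omega) h; omega))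
      (by decide) (by
        intro pq hpq
        simp only [e8E, Finset.mem_insert, Finset.mem_singleton] at hpq
        rcases hpq with rfl | rfl | rfl | rfl | rfl | rfl | rfl | rfl
        all_goals (first
          | (rw [a_comm]; exact hxuk)
          | (rw [a_comm]; exact hx.2 _ (show _ < L by omega))))
      (by decide) 0 (by omega) rfl (by decide) (by decide)
    refine .inr (.inr (.inr (.inr (.inl ⟨h9.symm, ?_⟩))))
    obtain ⟨v0, m, w0, hsh⟩ := hs
    refine ⟨v0, m, w0, hsh.inj, fun p hp => ?_, hsh.wt_eq, hsh.edge, hsh.zero⟩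
    rw [hsh.mult_eq p hp]
    rw [← h9] at hp
    interval_cases p <;> rfl
  exfalso
  -- the remaining trees are of finite type
  have xne : ∀ p q, p ≤ L → q ≤ L → p ≠ q → x p ≠ x q := fun p q hp hq hpq e =>
    hpq (hx.1 (show p < L + 1 by omega) (show q < L + 1 by omega) e)
  have wconst : ∀ p ≤ L, T.w (x p) = T.w (x 0) := by
    intro p
    induction p with
    | zero => simp
    | succ p ih => intro hp; rw [← hxs p (by omega)]; exact ih (by omega)
  have aw : ∀ p < L, T.a (x p) (x (p + 1)) = T.w (x 0) := fun p hp => by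
    rw [a_eq_w T (by omega) (xne p (p + 1) (by omega) (by omega) (by omega)) (hv' _) (hv' _) (hx.2 p hp)
      (hxs p hp).symm, wconst p hp.le]
  have nb : ∀ p ≤ L, ∀ i, i ≠ x p → T.a (x p) i ≠ 0 →
      (1 ≤ p ∧ i = x (p - 1)) ∨ (p < L ∧ i = x (p + 1)) ∨ (p = k ∧ i = u) := by
    intro p hp i hi h
    rcases hxall i with ⟨q, hq, rfl⟩ | rfl
    · rcases lt_trichotomy p q with h' | h' | h'
      · rcases lt_or_eq_of_le (Nat.succ_le_of_lt h') with h'' | h''
        · exact absurd (hxch p q h'' hq) h
        · exact .inr (.inl ⟨by omega, by rw [show p + 1 = q from h'']⟩)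
      · exact absurd (by rw [h']) hi
      · rcases lt_or_eq_of_le (Nat.succ_le_of_lt h') with h'' | h''
        · exact absurd (by rw [a_comm]; exact hxch q p h'' hp) h
        · exact .inl ⟨by omega, by rw [show p - 1 = q by omega]⟩
    · refine .inr (.inr ⟨?_, rfl⟩)
      by_contra hpk
      exact h (hxun p hp hpk)
  have lin := linear_end hv' hn hL hx (q0 := k) (by omega) (fun p h1 h2 i hi h => by
      rcases nb p h2 i hi h with ⟨-, e⟩ | e | ⟨e, -⟩
      · exact .inl e
      · exact .inr e
      · omega) (fun p h1 h2 => by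
      have h4 := aw (p - 1) (by omega)
      rw [show p - 1 + 1 = p by omega] at h4
      exact ⟨h4.trans (wconst p h2).symm, by rw [wconst p h2, wconst (p - 1) (by omega)]⟩)
  have W := T.w_pos (x 0)
  have hu0 : T.a u (x k) = T.w (x 0) := by
    rw [a_eq_w T (by omega) (hxu k (by omega)).symm (hv' _) (hv' _) (by rw [a_comm]; exact hxuk) hxsp.symm,
      hxsp, wconst k (by omega)]
  have Eu : T.m (x k) = 2 * T.m u := by
    have h := row_erase T u
    rw [(hv' _).2, Finset.sum_eq_single (x k) (fun i hi hne' => by
        by_contra h0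
        rcases hxall i with ⟨q, hq, rfl⟩ | rfl
        · exact h0 (by rw [a_comm, hxun q hq (fun e => hne' (by rw [e])), zero_mul])
        · exact (Finset.mem_erase.1 hi).1 rfl)
      (fun h0 => absurd (Finset.mem_erase.2 ⟨hxu k (by omega), mem_univ _⟩) h0), hu0, hxsp,
      wconst k (by omega)] at h
    exact mul_left_cancel₀ W.ne' (by linarith)
  have E0 : T.m (x 1) = 2 * T.m (x 0) := by
    have h := row_erase T (x 0)
    rw [(hv' _).2, Finset.sum_eq_single (x 1) (fun i hi hne' => by
        by_contra h0
        rcases nb 0 (by omega) i (Finset.mem_erase.1 hi).1 (fun e => h0 (by rw [e, zero_mul])) with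
          ⟨h1, -⟩ | ⟨-, e⟩ | ⟨e, -⟩
        · omega
        · exact hne' e
        · omega)
      (fun h0 => absurd (Finset.mem_erase.2 ⟨xne 1 0 (by omega) (by omega) (by omega), mem_univ _⟩) h0),
      aw 0 (by omega)] at h
    exact mul_left_cancel₀ W.ne' (by linarith)
  have Ek : T.m (x (k - 1)) + T.m (x (k + 1)) + T.m u = 2 * T.m (x k) := by
    have h := row_erase T (x k)
    have n1 : x (k - 1) ≠ x (k + 1) := xne _ _ (by omega) (by omega) (by omega)
    have n2 : x (k - 1) ≠ u := hxu _ (by omega)
    have n3 : x (k + 1) ≠ u := hxu _ (by omega)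
    rw [(hv' _).2, ← Finset.sum_subset (s₁ := {x (k - 1), x (k + 1), u}) (fun i hi => by
        simp only [Finset.mem_insert, Finset.mem_singleton] at hi
        refine Finset.mem_erase.2 ⟨?_, mem_univ _⟩
        rcases hi with rfl | rfl | rfl
        · exact xne _ _ (by omega) (by omega) (by omega)
        · exact xne _ _ (by omega) (by omega) (by omega)
        · exact (hxu k (by omega)).symm)
      (fun i hi hni => by
        simp only [Finset.mem_insert, Finset.mem_singleton, not_or] at hni
        by_contra h0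
        rcases nb k (by omega) i (Finset.mem_erase.1 hi).1 (fun e => h0 (by rw [e, zero_mul])) with
          ⟨-, e⟩ | ⟨-, e⟩ | ⟨-, e⟩
        · exact hni.1 e
        · exact hni.2.1 e
        · exact hni.2.2 e),
      Finset.sum_insert (by simp [n1, n2]), Finset.sum_pair n3, wconst k (by omega)] at h
    have c1 := aw (k - 1) (by omega)
    rw [show k - 1 + 1 = k by omega] at c1
    rw [a_comm T (x k) (x (k - 1)), c1, aw k (by omega), a_comm T (x k) u, hu0] at h
    exact mul_left_cancel₀ W.ne' (by linarith)
  have m0 := T.m_pos (x 0)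
  have mL := T.m_pos (x L)
  have Lk := lin (L - k) (by omega)
  have Lk1 := lin (L - k - 1) (by omega)
  rw [show L - (L - k) = k by omega, Nat.cast_sub (by omega : k ≤ L)] at Lk
  rw [show L - (L - k - 1) = k + 1 by omega, show L - k - 1 = L - (k + 1) by omega,
    Nat.cast_sub (by omega : k + 1 ≤ L)] at Lk1
  push_cast at Lk Lk1
  rcases show k = 1 ∨ k = 2 by omega with rfl | rfl
  · simp only [Nat.sub_self] at Ek
    linarith
  · have E1 : T.m (x 0) + T.m (x 2) = 2 * T.m (x 1) := by
      have h := row_erase T (x 1)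
      rw [(hv' _).2, ← Finset.sum_subset (s₁ := {x 0, x 2}) (fun i hi => by
          simp only [Finset.mem_insert, Finset.mem_singleton] at hi
          refine Finset.mem_erase.2 ⟨?_, mem_univ _⟩
          rcases hi with rfl | rfl <;> exact xne _ _ (by omega) (by omega) (by omega))
        (fun i hi hni => by
          simp only [Finset.mem_insert, Finset.mem_singleton, not_or] at hni
          by_contra h0
          rcases nb 1 (by omega) i (Finset.mem_erase.1 hi).1 (fun e => h0 (by rw [e, zero_mul])) with
            ⟨-, e⟩ | ⟨-, e⟩ | ⟨e, -⟩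
          · exact hni.1 e
          · exact hni.2 e
          · omega),
        Finset.sum_pair (xne _ _ (by omega) (by omega) (by omega)), wconst 1 (by omega),
        a_comm T (x 1) (x 0), aw 0 (by omega), aw 1 (by omega)] at h
      exact mul_left_cancel₀ W.ne' (by linarith)
    simp only [show (2 : ℕ) - 1 = 1 from rfl] at Ek
    have : L ≤ 6 := by omega
    interval_cases L <;> norm_num at Lk Lk1 <;> linarith

omit hL hP in
/-- classification -/
theorem affine : AffineType T := by
  classical
  obtain ⟨L, v, hL, hP, hmax⟩ := exists_longest (T := T) hn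
  by_cases hspan : ∀ i, ∃ p ≤ L, v p = i
  · exact spanning hv' hn hL hP hspan
  push_neg at hspan
  obtain ⟨i, hi⟩ := hspan
  obtain ⟨a, ha, b, hb, hab⟩ := T.connected ((range (L + 1)).image v)
    ⟨v 0, Finset.mem_image.2 ⟨0, by simp, rfl⟩⟩ (fun e => by
      obtain ⟨p, hp, h⟩ := Finset.mem_image.1 (Finset.eq_univ_iff_forall.1 e i)
      exact hi p (by simp at hp; omega) h)
  obtain ⟨p, hp, rfl⟩ := Finset.mem_image.1 ha
  simp only [Finset.mem_image, Finset.mem_range, not_exists, not_and] at hb hp
  exact branched hv' hn hL hP hmax (u := b) (fun q hq => hb q (by omega)) (j := p) (by omega) hab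

end Groth.Agent.H28NT
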