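-- Zariski connectedness for proper flat schemes over a discrete valuation ring
import Groth.Agent.H28NT.GoodReduction
import Groth.Agent.H28NT.EtaleDVR
import Groth.Agent.S2523

/-!
# Geometric connectedness of the closed fibre

A proper flat scheme over a discrete valuation ring whose generic fibre is geometrically reduced
and geometrically connected is geometrically connected.
-/

set_option autoImplicit false
set_option linter.style.haveILetI false
set_option linter.unusedSectionVars false
universe u

open CategoryTheory CategoryTheory.Limits AlgebraicGeometry IsLocalRing TopologicalSpace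

namespace Groth.Agent.H28NT

theorem appTop_surjective_of_geometrically {k : Type u} [Field k] {X : Scheme.{u}}
    (f : X ⟶ Spec (CommRingCat.of k)) [IsProper f] [GeometricallyReduced f] [GeometricallyConnected f] :
    Function.Surjective f.appTop := by
  haveI : ConnectedSpace ↥X := by
    haveI := GeometricallyConnected.geometrically_connectedSpace (f := f) (𝟙 _) _ _
      (IsPullback.id_horiz f)
    infer_instance
  haveI : Subsingleton ↥(Spec (CommRingCat.of k)) := inferInstanceAs (Subsingleton (PrimeSpectrum k))
  haveI : IsReduced X := GeometricallyReduced.isReduced_of_flat_of_isLocallyNoetherian f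
  letI := H22Alg.GlobalFunctions.algΓ f
  have h1 := H22Alg.GlobalFunctions.finrank_algΓ_eq_one f
  haveI : Nontrivial Γ(X, ⊤) := Module.nontrivial_of_finrank_eq_succ h1
  haveI := H22Alg.GlobalFunctions.finite_algΓ f
  have hs : Function.Surjective (algebraMap k Γ(X, ⊤)) :=
    (LinearMap.injective_iff_surjective_of_finrank_eq_finrank (f := Algebra.linearMap k Γ(X, ⊤))
      (by rw [h1, Module.finrank_self])).mp (algebraMap k Γ(X, ⊤)).injective
  exact Function.Surjective.of_comp hs

variable {R : Type u} [CommRing R] [IsDomain R] [IsDiscreteValuationRing R]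

/-- Zariski connectedness, geometric form. -/
theorem geometricallyConnected_closedFibre {X : Scheme.{u}} (p : X ⟶ Spec (CommRingCat.of R))
    [IsProper p] [Flat p] [Nonempty X]
    [GeometricallyReduced (pullback.snd p (Neron.genPt R))]
    [GeometricallyConnected (pullback.snd p (Neron.genPt R))] :
    GeometricallyConnected (pullback.snd p (Spec.map (CommRingCat.ofHom (algebraMap R (ResidueField R))))) := by
  let r := Spec.map (CommRingCat.ofHom (algebraMap R (ResidueField R)))
  let f := pullback.snd p r
  have hsurj : Function.Surjective (Coh.toGlobal p) :=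
    toGlobal_surjective_of_genericFibre R p (pullback.snd p (Neron.genPt R))
      (pullback.fst p (Neron.genPt R)) (IsPullback.of_hasPullback _ _)
      (appTop_surjective_of_geometrically _)
  haveI : ConnectedSpace ↥(pullback p r) :=
    connectedSpace_specialFibre R p hsurj ⟨p.base (Classical.arbitrary X), _, rfl⟩
  haveI : CompactSpace ↥(pullback p r) := QuasiCompact.compactSpace_of_compactSpace f
  obtain ⟨x, -, hx⟩ := (isClosed_univ (X := ↥(pullback p r))).exists_closed_singleton Set.univ_nonempty
  haveI : IsClosedImmersion ((pullback p r).fromSpecResidueField x) :=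
    isClosed_singleton_iff_isClosedImmersion.1 hx
  obtain ⟨φ, hφ⟩ : ∃ φ : ResidueField R →+* (pullback p r).residueField x,
      Spec.map (CommRingCat.ofHom φ) = (pullback p r).fromSpecResidueField x ≫ f :=
    ⟨(Spec.preimage ((pullback p r).fromSpecResidueField x ≫ f)).hom, Spec.map_preimage _⟩
  refine Groth.Agent.S2523.result f x ⟨φ, hφ, ?_⟩ fun K _ _ _ _ => ?_
  · letI := φ.toAlgebra
    have hft : LocallyOfFiniteType (Spec.map (CommRingCat.ofHom φ)) := hφ ▸ inferInstance
    haveI : Algebra.FiniteType (ResidueField R) ((pullback p r).residueField x) :=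
      (HasRingHomProperty.Spec_iff (P := @LocallyOfFiniteType)).mp hft
    haveI : Module.Finite (ResidueField R) ((pullback p r).residueField x) :=
      finite_of_finite_type_of_isJacobsonRing _ _
    exact inferInstance
  · obtain ⟨S, _, _, _, _, _, _, hmS, e, he⟩ := exists_dvr_residueField R K
    haveI : FaithfulSMul R S := inferInstance
    let σ := Spec.map (CommRingCat.ofHom (algebraMap R S))
    let p' := pullback.snd p σ
    let r' := Spec.map (CommRingCat.ofHom (algebraMap S (ResidueField S)))
    have hinj : Function.Injective ((algebraMap S (FractionRing S)).comp (algebraMap R S)) :=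
      (IsFractionRing.injective S (FractionRing S)).comp (FaithfulSMul.algebraMap_injective R S)
    obtain ⟨ψ, hψa⟩ : ∃ ψ : FractionRing R →+* FractionRing S,
        ∀ a, ψ (algebraMap R (FractionRing R) a) = algebraMap S (FractionRing S) (algebraMap R S a) :=
      ⟨IsLocalization.lift (M := nonZeroDivisors R) (S := FractionRing R)
        (fun y => (isUnit_iff_ne_zero.2 ((map_ne_zero_iff _ hinj).2 (nonZeroDivisors.coe_ne_zero y)) :)),
        fun a => IsLocalization.lift_eq _ a⟩
    have hψ : Spec.map (CommRingCat.ofHom ψ) ≫ Neron.genPt R = Neron.genPt S ≫ σ := by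
      refine (Spec.map_comp _ _).symm.trans (Eq.trans ?_ (Spec.map_comp _ _))
      exact congrArg Spec.map (CommRingCat.hom_ext (RingHom.ext hψa))
    let q := pullback.snd p (Neron.genPt R)
    let b' := Spec.map (CommRingCat.ofHom ψ)
    have hout := (IsPullback.of_hasPullback q b').paste_horiz (IsPullback.of_hasPullback p (Neron.genPt R))
    rw [hψ] at hout
    let g' : pullback q b' ⟶ pullback p σ :=
      pullback.lift (pullback.fst q b' ≫ pullback.fst p (Neron.genPt R)) (pullback.snd q b' ≫ Neron.genPt S)
        (by rw [hout.w, Category.assoc])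
    have hg : g' ≫ pullback.fst p σ = pullback.fst q b' ≫ pullback.fst p (Neron.genPt R) :=
      pullback.lift_fst _ _ _
    have hsurj' : Function.Surjective (Coh.toGlobal p') := by
      refine toGlobal_surjective_of_genericFibre S p' (pullback.snd q b') g' ?_ ?_
      · exact IsPullback.of_right (hg.symm ▸ hout) (pullback.lift_snd _ _ _) (IsPullback.of_hasPullback p σ)
      · exact appTop_surjective_of_geometrically _
    have hcomap : σ.base (closedPoint S) = closedPoint R := by
      apply PrimeSpectrum.ext
      show Ideal.comap (algebraMap R S) (maximalIdeal S) = maximalIdeal R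
      refine (eq_maximalIdeal ?_)
      haveI : Algebra.IsIntegral R S := inferInstance
      exact Ideal.isMaximal_comap_of_isIntegral_of_isMaximal _
    have hne : (Set.range p'.base).Nonempty := by
      obtain ⟨y, hy⟩ : ∃ y : X, p.base y = closedPoint R := by
        obtain ⟨y, -, hy : p.base y = closedPoint R⟩ := p.isClosedMap.specializingMap
          (IsLocalRing.specializes_closedPoint (p.base (Classical.arbitrary X)))
        exact ⟨y, hy⟩
      obtain ⟨z, -, -⟩ := Scheme.Pullback.exists_preimage_pullback (f := p) (g := σ) y (closedPoint S)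
        (hy.trans hcomap.symm)
      exact ⟨p'.base z, z, rfl⟩
    haveI : ConnectedSpace ↥(pullback p' r') := connectedSpace_specialFibre S p' hsurj' hne
    let b := Spec.map (CommRingCat.ofHom (algebraMap (ResidueField R) K))
    let ε : Spec (CommRingCat.of K) ≅ Spec (CommRingCat.of (ResidueField S)) :=
      Scheme.Spec.mapIso e.toCommRingCatIso.op
    have hε : r' ≫ σ = ε.inv ≫ b ≫ r := by
      show r' ≫ σ = Spec.map e.toCommRingCatIso.inv ≫ b ≫ r
      simp only [r', σ, b, r, ← Spec.map_comp, ← CommRingCat.ofHom_comp]
      refine congrArg (fun h => Spec.map h) (CommRingCat.hom_ext (RingHom.ext fun a => ?_))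
      exact (e.symm_apply_eq.2 (he a).symm).symm
    let j : pullback p' r' ≅ pullback f b :=
      pullbackLeftPullbackSndIso p σ r' ≪≫ pullback.congrHom rfl hε ≪≫
        asIso (pullback.map p (ε.inv ≫ b ≫ r) p (b ≫ r) (𝟙 _) ε.inv (𝟙 _) (by simp) (by simp)) ≪≫
        (pullbackLeftPullbackSndIso p r b).symm
    exact j.hom.homeomorph.connectedSpace_iff.mp inferInstance

end Groth.Agent.H28NT
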