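-- Subring of functions on a cube with divisible finite differences
import Mathlib

/-!
# The ring of functions on subsets with `j`-th differences divisible by `t ^ j`
-/

set_option autoImplicit false
universe u v
open Finset

namespace Groth.Agent.H28NT

variable (R : Type u) [CommRing R] (t : R) (ι : Type v) [DecidableEq ι]

/-- Subalgebra of functions on finite subsets generated by `t` times the indicators of points. -/
def cube : Subalgebra R (Finset ι → R) :=
  Algebra.adjoin R (Set.range fun i => fun S : Finset ι => if i ∈ S then t else 0)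

variable {R t ι}

theorem gen_mem_cube (i : ι) : (fun S : Finset ι => if i ∈ S then t else 0) ∈ cube R t ι :=
  Algebra.subset_adjoin ⟨i, rfl⟩

/-- The basic function attached to a subset `T`. -/
def cubeVec (t : R) (T : Finset ι) : Finset ι → R := fun S => if T ⊆ S then t ^ T.card else 0

theorem cubeVec_mul (T T' : Finset ι) :
    cubeVec t T * cubeVec t T' = t ^ (T.card + T'.card - (T ∪ T').card) • cubeVec t (T ∪ T') := by
  funext S
  simp only [Pi.mul_apply, Pi.smul_apply, cubeVec, smul_eq_mul, union_subset_iff]
  by_cases h : T ⊆ S <;> by_cases h' : T' ⊆ S <;> simp [h, h']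
  rw [← pow_add, ← pow_add]
  congr 1
  have := card_union_le T T'
  omega

theorem mul_mem_span_cubeVec {x y : Finset ι → R}
    (hx : x ∈ Submodule.span R (Set.range (cubeVec t : Finset ι → Finset ι → R)))
    (hy : y ∈ Submodule.span R (Set.range (cubeVec t : Finset ι → Finset ι → R))) :
    x * y ∈ Submodule.span R (Set.range (cubeVec t : Finset ι → Finset ι → R)) := by
  induction hx using Submodule.span_induction with
  | mem a ha =>
    obtain ⟨T, rfl⟩ := ha
    induction hy using Submodule.span_induction with
    | mem b hb =>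
      obtain ⟨T', rfl⟩ := hb
      rw [cubeVec_mul]
      exact Submodule.smul_mem _ _ (Submodule.subset_span ⟨_, rfl⟩)
    | zero => rw [mul_zero]; exact Submodule.zero_mem _
    | add a b _ _ ha hb => rw [mul_add]; exact Submodule.add_mem _ ha hb
    | smul r a _ ha => rw [mul_smul_comm]; exact Submodule.smul_mem _ _ ha
  | zero => rw [zero_mul]; exact Submodule.zero_mem _
  | add a b _ _ ha hb => rw [add_mul]; exact Submodule.add_mem _ ha hb
  | smul r a _ ha => rw [smul_mul_assoc]; exact Submodule.smul_mem _ _ ha

theorem mem_span_cubeVec {F : Finset ι → R} (hF : F ∈ cube R t ι) :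
    F ∈ Submodule.span R (Set.range (cubeVec t : Finset ι → Finset ι → R)) := by
  induction hF using Algebra.adjoin_induction with
  | mem x hx =>
    obtain ⟨i, rfl⟩ := hx
    refine Submodule.subset_span ⟨{i}, ?_⟩
    funext S
    simp [cubeVec]
  | algebraMap r =>
    have h : algebraMap R (Finset ι → R) r = r • cubeVec t (∅ : Finset ι) := by
      funext S
      simp [cubeVec]
    rw [h]
    exact Submodule.smul_mem _ _ (Submodule.subset_span ⟨∅, rfl⟩)
  | add x y _ _ hx hy => exact Submodule.add_mem _ hx hy
  | mul x y _ _ hx hy => exact mul_mem_span_cubeVec hx hy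

theorem exists_coeff_of_mem_span {F : Finset ι → R}
    (h : F ∈ Submodule.span R (Set.range (cubeVec t : Finset ι → Finset ι → R))) :
    ∃ c : Finset ι → R, ∀ S, F S = ∑ T ∈ S.powerset, t ^ T.card * c T := by
  induction h using Submodule.span_induction with
  | mem x hx =>
    obtain ⟨T, rfl⟩ := hx
    refine ⟨fun T' => if T' = T then 1 else 0, fun S => ?_⟩
    simp [cubeVec, mul_ite, Finset.sum_ite_eq']
  | zero => exact ⟨0, fun S => by simp⟩
  | add x y _ _ hx hy =>
    obtain ⟨c, hc⟩ := hx
    obtain ⟨d, hd⟩ := hy
    exact ⟨c + d, fun S => by simp [hc, hd, mul_add, Finset.sum_add_distrib]⟩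
  | smul r x _ hx =>
    obtain ⟨c, hc⟩ := hx
    refine ⟨r • c, fun S => ?_⟩
    simp only [Pi.smul_apply, smul_eq_mul, hc, Finset.mul_sum]
    exact Finset.sum_congr rfl fun T _ => by ring

/-- A symmetric function in the cube ring agrees with its first order expansion up to the terms
`n.choose j * t ^ j`, `2 ≤ j`. -/
theorem symmetric_mem_cube_expansion [Fintype ι] {f : ℕ → R}
    (hF : (fun S : Finset ι => f S.card) ∈ cube R t ι) (J : Ideal R)
    (hJ : ∀ j, 2 ≤ j → j ≤ Fintype.card ι → ((Fintype.card ι).choose j : R) * t ^ j ∈ J) :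
    f (Fintype.card ι) - f 0 - (Fintype.card ι : R) * (f 1 - f 0) ∈ J := by
  classical
  obtain ⟨c, hc⟩ := exists_coeff_of_mem_span (mem_span_cubeVec hF)
  let d : Finset ι → R := fun T => t ^ T.card * c T
  have hsym : ∀ k (T T' : Finset ι), T.card = k → T'.card = k → d T = d T' := by
    intro k
    induction k using Nat.strong_induction_on with
    | _ k ih =>
      let G : ℕ → R := fun j =>
        if h : j < k ∧ ∃ T : Finset ι, T.card = j then d h.2.choose else 0
      have key : ∀ T : Finset ι, T.card = k →
          d T = f k - ∑ j ∈ range (k + 1), k.choose j • G j := by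
        intro T hT
        have h1 : ∑ T' ∈ T.powerset, (d T' - G T'.card) = d T := by
          rw [Finset.sum_eq_single_of_mem T (Finset.mem_powerset_self T)]
          · simp [G, hT]
          · intro T' hT' hne
            have hlt : T'.card < k :=
              hT ▸ Finset.card_lt_card (((Finset.mem_powerset.1 hT').ssubset_of_ne hne))
            have h : T'.card < k ∧ ∃ U : Finset ι, U.card = T'.card := ⟨hlt, T', rfl⟩
            simp only [G, dif_pos h]
            rw [ih _ hlt _ _ rfl h.2.choose_spec, sub_self]
        rw [← h1, Finset.sum_sub_distrib, Finset.sum_powerset_apply_card, ← hc T, hT]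
      intro T T' hT hT'
      rw [key T hT, key T' hT']
  let g : ℕ → R := fun j => if h : ∃ T : Finset ι, T.card = j then d h.choose else 0
  have hg : ∀ T : Finset ι, g T.card = d T := fun T => by
    have h : ∃ U : Finset ι, U.card = T.card := ⟨T, rfl⟩
    simp only [g, dif_pos h]
    exact hsym _ _ _ h.choose_spec rfl
  have hf : ∀ S : Finset ι, f S.card = ∑ j ∈ range (S.card + 1), S.card.choose j • g j := fun S => by
    rw [← Finset.sum_powerset_apply_card, hc S]
    exact Finset.sum_congr rfl fun T _ => (hg T).symm
  have hdvd : ∀ j, j ≤ Fintype.card ι → ∃ b, g j = t ^ j * b := fun j hj => by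
    obtain ⟨T, -, hT⟩ := Finset.exists_subset_card_eq (s := (univ : Finset ι)) hj
    exact ⟨c T, by rw [← hT, hg]⟩
  rcases Nat.eq_zero_or_pos (Fintype.card ι) with h0 | h0
  · simp [h0]
  · have f0 : f 0 = g 0 := by simpa using hf ∅
    obtain ⟨i⟩ := Fintype.card_pos_iff.1 h0
    have f1 : f 1 = g 0 + g 1 := by simpa [Finset.sum_range_succ] using hf {i}
    have fn := hf univ
    rw [Finset.card_univ] at fn
    obtain ⟨n, hn⟩ : ∃ n, Fintype.card ι = n + 1 := ⟨_, (Nat.succ_pred_eq_of_pos h0).symm⟩
    rw [fn, f0, f1, hn, Finset.sum_range_succ', Finset.sum_range_succ']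
    simp only [Nat.choose_zero_right, one_smul, Nat.choose_one_right, zero_add, nsmul_eq_mul]
    ring_nf
    refine Ideal.sum_mem _ fun j hj => ?_
    obtain ⟨b, hb⟩ := hdvd (2 + j) (by have := Finset.mem_range.1 hj; omega)
    rw [hb, ← mul_assoc]
    exact J.mul_mem_right _ (by
      have := hJ (2 + j) (by omega) (by have := Finset.mem_range.1 hj; omega)
      rwa [hn, Nat.add_comm n 1] at this)

end Groth.Agent.H28NT
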