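import Groth.Agent.H28NT.Shape

/-!
# The affine families and their recognition
-/

namespace Groth.Agent.H28NT

open Finset Models Models.NumericalType

/-- edges of a chain `0 — 1 — ⋯ — k` -/
def chainE (k : ℕ) : Finset (ℕ × ℕ) := (range k).image fun p => (p, p + 1)

lemma mem_chainE {k p q : ℕ} : (p, q) ∈ chainE k ↔ p < k ∧ q = p + 1 := by
  simp only [chainE, Finset.mem_image, Finset.mem_range, Prod.mk.injEq]
  constructor
  · rintro ⟨a, h1, rfl, rfl⟩; exact ⟨h1, rfl⟩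
  · rintro ⟨h1, rfl⟩; exact ⟨p, h1, rfl, rfl⟩

lemma sum_chainE {M : Type*} [AddCommMonoid M] (k : ℕ) (f : ℕ × ℕ → M) :
    ∑ pq ∈ chainE k, f pq = ∑ p ∈ range k, f (p, p + 1) :=
  Finset.sum_image fun _ _ _ _ h => (Prod.ext_iff.1 h).1

def cycE (t : ℕ) : Finset (ℕ × ℕ) := insert (t - 1, 0) (chainE (t - 1))
def ddE (t : ℕ) : Finset (ℕ × ℕ) :=
  insert (0, 2) (insert (1, 2) (insert (t - 3, t - 2) (insert (t - 3, t - 1)
    ((range (t - 5)).image fun p => (p + 2, p + 3)))))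
def bdE (t : ℕ) : Finset (ℕ × ℕ) :=
  insert (t - 3, t - 2) (insert (t - 3, t - 1) (chainE (t - 3)))
def e6E : Finset (ℕ × ℕ) := {(0, 1), (1, 2), (3, 4), (4, 2), (5, 6), (6, 2)}
def e7E : Finset (ℕ × ℕ) := {(0, 1), (1, 2), (2, 3), (3, 4), (4, 5), (5, 6), (7, 3)}
def e8E : Finset (ℕ × ℕ) := {(0, 1), (1, 2), (2, 3), (3, 4), (4, 5), (5, 6), (6, 7), (8, 5)}

def one' : ℕ → ℤ := fun _ => 1
def ddM (t p : ℕ) : ℤ := if 2 ≤ p ∧ p + 2 < t then 2 else 1
def e6M (p : ℕ) : ℤ := [1, 2, 3, 1, 2, 1, 2].getD p 1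
def e7M (p : ℕ) : ℤ := [1, 2, 3, 4, 3, 2, 1, 2].getD p 1
def e8M (p : ℕ) : ℤ := [1, 2, 3, 4, 5, 6, 4, 2, 3].getD p 1
/-- B-type, first vertex of larger weight -/
def bdMa (t p : ℕ) : ℤ := if 1 ≤ p ∧ p + 2 < t then 2 else 1
def bdWa (p : ℕ) : ℤ := if p = 0 then 2 else 1
/-- B-type, first vertex of smaller weight -/
def bdMb (t p : ℕ) : ℤ := if p + 2 < t then 2 else 1
def bdWb (p : ℕ) : ℤ := if p = 0 then 1 else 2
/-- chain with both end edges double -/
def cMa (t p : ℕ) : ℤ := if p + 1 < t then 2 else 1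
def cWa (t p : ℕ) : ℤ := if p = 0 then 1 else if p + 1 < t then 2 else 4
def cWb (t p : ℕ) : ℤ := if p = 0 ∨ p + 1 = t then 1 else 2
def cMc (t p : ℕ) : ℤ := if p = 0 ∨ p + 1 = t then 1 else 2
def cWc (t p : ℕ) : ℤ := if p = 0 ∨ p + 1 = t then 2 else 1
def f4Ma (p : ℕ) : ℤ := [1, 2, 3, 2, 1].getD p 1
def f4Wa (p : ℕ) : ℤ := [1, 1, 1, 2, 2].getD p 1
def f4Mb (p : ℕ) : ℤ := [1, 2, 3, 4, 2].getD p 1
def f4Wb (p : ℕ) : ℤ := [2, 2, 2, 1, 1].getD p 1
def g2Ma (p : ℕ) : ℤ := [1, 2, 1].getD p 1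
def g2Wa (p : ℕ) : ℤ := [1, 1, 3].getD p 1
def g2Mb (p : ℕ) : ℤ := [1, 2, 3].getD p 1
def g2Wb (p : ℕ) : ℤ := [3, 3, 1].getD p 1

variable {n : ℕ} (T : NumericalType n)

/-- The affine diagrams. -/
def AffineType : Prop :=
  (3 ≤ n ∧ Shaped T one' one' (cycE n)) ∨
  (5 ≤ n ∧ Shaped T (ddM n) one' (ddE n)) ∨
  (n = 7 ∧ Shaped T e6M one' e6E) ∨ (n = 8 ∧ Shaped T e7M one' e7E) ∨
  (n = 9 ∧ Shaped T e8M one' e8E) ∨
  (4 ≤ n ∧ Shaped T (bdMa n) bdWa (bdE n)) ∨ (4 ≤ n ∧ Shaped T (bdMb n) bdWb (bdE n)) ∨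
  (3 ≤ n ∧ Shaped T (cMa n) (cWa n) (chainE (n - 1))) ∨
  (3 ≤ n ∧ Shaped T one' (cWb n) (chainE (n - 1))) ∨
  (3 ≤ n ∧ Shaped T (cMc n) (cWc n) (chainE (n - 1))) ∨
  (n = 5 ∧ Shaped T f4Ma f4Wa (chainE 4)) ∨ (n = 5 ∧ Shaped T f4Mb f4Wb (chainE 4)) ∨
  (n = 3 ∧ Shaped T g2Ma g2Wa (chainE 2)) ∨ (n = 3 ∧ Shaped T g2Mb g2Wb (chainE 2))

variable {T} {t : ℕ} {v : ℕ → Fin n} (hv' : ∀ i, T.IsMinusTwo i)
include hv'

lemma ne_of (hinj : Set.InjOn v (Set.Iio t)) {p q : ℕ} (hp : p < t) (hq : q < t) (h : p ≠ q) :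
    v p ≠ v q := fun e => h (hinj hp hq e)

theorem cyc_found (ht : 3 ≤ t) (hinj : Set.InjOn v (Set.Iio t))
    (hc : ∀ p, p + 1 < t → T.a (v p) (v (p + 1)) ≠ 0) (hclose : T.a (v (t - 1)) (v 0) ≠ 0) :
    t = n ∧ AffineType T := by
  have hE : ∀ pq ∈ cycE t, pq.1 < t ∧ pq.2 < t ∧ pq.1 ≠ pq.2 ∧ (pq.2, pq.1) ∉ cycE t := by
    rintro ⟨p, q⟩ h
    simp only [cycE, Finset.mem_insert, mem_chainE, Prod.mk.injEq, not_or, not_and] at h ⊢
    rcases h with ⟨rfl, rfl⟩ | ⟨h1, rfl⟩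
    · exact ⟨by omega, by omega, by omega, by omega, by omega⟩
    · exact ⟨by omega, by omega, by omega, by omega, by omega⟩
  have hnz : ∀ pq ∈ cycE t, T.a (v pq.1) (v pq.2) ≠ 0 := by
    rintro ⟨p, q⟩ h
    simp only [cycE, Finset.mem_insert, mem_chainE, Prod.mk.injEq] at h
    rcases h with ⟨rfl, rfl⟩ | ⟨h1, rfl⟩
    · exact hclose
    · exact hc p (by omega)
  obtain ⟨rfl, hl, he, hz⟩ := key_eq T v (fun _ => 1) hinj (fun p _ => hv' _)
    (fun _ _ => one_pos) (by omega) (cycE t) hE (fun _ => 1) (fun pq h => one_le_e T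
      (ne_of hv' hinj (hE pq h).1 (hE pq h).2.1 (hE pq h).2.2.1) (hnz pq h)) (by
      simp only [one_pow, mul_one, Finset.sum_const, Finset.card_range, nsmul_eq_mul]
      rw [cycE, Finset.card_insert_of_notMem (fun h => by have := (mem_chainE.1 h).2; omega),
        chainE, Finset.card_image_of_injective _ (fun a b h => (Prod.ext_iff.1 h).1), Finset.card_range]
      congr 1; omega)
  refine ⟨rfl, .inl ⟨ht, ?_⟩⟩
  have hw : ∀ p < t, T.w (v p) = one' p * T.w (v 0) := by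
    intro p hp
    induction p with
    | zero => simp [one']
    | succ p ih =>
      have hmem : (p, p + 1) ∈ cycE t := by simp [cycE, mem_chainE]; omega
      rw [w_eq_of_e_one T (by omega) (ne_of hv' hinj (by omega) hp (by omega)) (hv' _) (hv' _)
        (hc p hp) (he _ hmem)]
      exact ih (by omega)
  exact shaped_of_key T hv' (by omega) v _ _ hinj hl (fun pq h => ⟨(hE pq h).2.2.1, hnz pq h⟩) hz
    one' one' _ hw 1 (fun p _ => by simp [one']) 0 (by omega) rfl (fun _ _ => one_pos) (fun _ _ => one_pos)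

theorem dd_found {k : ℕ} (hinj : Set.InjOn v (Set.Iio (k + 5)))
    (h02 : T.a (v 0) (v 2) ≠ 0) (h12 : T.a (v 1) (v 2) ≠ 0)
    (hc : ∀ p < k, T.a (v (p + 2)) (v (p + 3)) ≠ 0)
    (ha : T.a (v (k + 2)) (v (k + 3)) ≠ 0) (hb : T.a (v (k + 2)) (v (k + 4)) ≠ 0) :
    k + 5 = n ∧ AffineType T := by
  have hnz : ∀ pq ∈ ddE (k + 5), T.a (v pq.1) (v pq.2) ≠ 0 := by
    rintro ⟨p, q⟩ h
    simp only [ddE, Finset.mem_insert, Finset.mem_image, Finset.mem_range, Prod.mk.injEq] at h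
    rcases h with ⟨rfl, rfl⟩ | ⟨rfl, rfl⟩ | ⟨rfl, rfl⟩ | ⟨rfl, rfl⟩ | ⟨a, ha', rfl, rfl⟩
    · exact h02
    · exact h12
    · exact ha
    · exact hb
    · exact hc a ha'
  have hE : ∀ pq ∈ ddE (k + 5), pq.1 < k + 5 ∧ pq.2 < k + 5 ∧ pq.1 ≠ pq.2 ∧ (pq.2, pq.1) ∉ ddE (k + 5) := by
    rintro ⟨p, q⟩ h
    simp only [ddE, Finset.mem_insert, Finset.mem_image, Finset.mem_range, Prod.mk.injEq, not_or,
      not_exists, not_and] at h ⊢
    rcases h with ⟨rfl, rfl⟩ | ⟨rfl, rfl⟩ | ⟨rfl, rfl⟩ | ⟨rfl, rfl⟩ | ⟨a, ha', rfl, rfl⟩ <;>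
      exact ⟨by omega, by omega, by omega, by omega, by omega, by omega, by omega,
        fun _ _ => by omega⟩
  let c : ℕ → ℝ := fun p => if 2 ≤ p ∧ p + 2 < k + 5 then 2 else 1
  obtain ⟨rfl, hl, he, hz⟩ := key_eq T v c hinj (fun p _ => hv' _)
    (fun p _ => by simp only [c]; split_ifs <;> norm_num) (by omega) (ddE (k + 5)) hE (fun _ => 1)
    (fun pq h => one_le_e T (ne_of hv' hinj (hE pq h).1 (hE pq h).2.1 (hE pq h).2.2.1) (hnz pq h)) (by
      have hS : ∑ p ∈ range (k + 5), c p ^ 2 = (k + 1 : ℕ) * 4 + 4 := by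
        rw [show k + 5 = k + 1 + 1 + 1 + 1 + 1 from rfl, Finset.sum_range_succ, Finset.sum_range_succ,
          Finset.sum_range_succ', Finset.sum_range_succ',
          Finset.sum_congr rfl (fun x hx => show c (x + 1 + 1) ^ 2 = 4 by
            simp at hx; rw [show c (x + 1 + 1) = 2 from if_pos ⟨by omega, by omega⟩]; norm_num),
          Finset.sum_const, Finset.card_range, nsmul_eq_mul]
        simp [c]; ring
      rw [hS, ddE, Finset.sum_insert (by simp), Finset.sum_insert (by simp), Finset.sum_insert (by simp),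
        Finset.sum_insert (by simp), Finset.sum_image (fun a _ b _ h => by simpa using h),
        show k + 5 - 5 = k by omega,
        Finset.sum_congr rfl (fun x hx => show (1:ℝ) * (c ((x + 2, x + 3).1) * c ((x + 2, x + 3).2)) = 4 by
          simp at hx; rw [show c (x + 2, x + 3).1 = 2 from if_pos ⟨by dsimp only; omega, by dsimp only; omega⟩, show c (x + 2, x + 3).2 = 2 from if_pos ⟨by dsimp only; omega, by dsimp only; omega⟩]; norm_num),
        Finset.sum_const, Finset.card_range, nsmul_eq_mul, show k + 5 - 3 = k + 2 by omega,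
        show k + 5 - 2 = k + 3 by omega, show k + 5 - 1 = k + 4 by omega]
      simp [c]; ring)
  refine ⟨rfl, .inr (.inl ⟨by omega, ?_⟩)⟩
  have st : ∀ p q, p < k + 5 → q < k + 5 → p ≠ q → (p, q) ∈ ddE (k + 5) → T.w (v q) = T.w (v p) :=
    fun p q hp hq hpq h =>
      w_eq_of_e_one T (by omega) (ne_of hv' hinj hp hq hpq) (hv' _) (hv' _) (hnz _ h) (he _ h)
  have mid : ∀ a ≤ k, T.w (v (a + 2)) = T.w (v 2) := by
    intro a
    induction a with
    | zero => simp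
    | succ a ih =>
      intro ha'
      rw [st (a + 2) (a + 3) (by omega) (by omega) (by omega) (by simp [ddE]; omega)]
      exact ih (by omega)
  have hw : ∀ p < k + 5, T.w (v p) = one' p * T.w (v 2) := by
    intro p hp
    rw [one', one_mul]
    rcases show p = 0 ∨ p = 1 ∨ (2 ≤ p ∧ p ≤ k + 2) ∨ p = k + 3 ∨ p = k + 4 by omega with
      rfl | rfl | h | rfl | rfl
    · exact (st 0 2 (by omega) (by omega) (by omega) (by simp [ddE])).symm
    · exact (st 1 2 (by omega) (by omega) (by omega) (by simp [ddE])).symm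
    · obtain ⟨a, rfl⟩ : ∃ a, p = a + 2 := ⟨p - 2, by omega⟩
      exact mid a (by omega)
    · rw [st (k + 2) (k + 3) (by omega) (by omega) (by omega) (by simp [ddE]), mid k le_rfl]
    · rw [st (k + 2) (k + 4) (by omega) (by omega) (by omega) (by simp [ddE]), mid k le_rfl]
  exact shaped_of_key T hv' (by omega) v _ _ hinj hl (fun pq h => ⟨(hE pq h).2.2.1, hnz pq h⟩) hz
    _ one' _ hw 1 (fun p _ => by simp only [c, ddM, one']; split_ifs <;> norm_num) 0 (by omega)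
    (by simp [ddM]) (fun p _ => by simp only [ddM]; split_ifs <;> norm_num) (fun _ _ => one_pos)

/-- exceptional simply laced diagrams -/
theorem simple_found (cn : ℕ → ℕ) (E : Finset (ℕ × ℕ)) (ht : 3 ≤ t) (hinj : Set.InjOn v (Set.Iio t))
    (hE : ∀ pq ∈ E, pq.1 < t ∧ pq.2 < t ∧ pq.1 ≠ pq.2 ∧ (pq.2, pq.1) ∉ E)
    (hnz : ∀ pq ∈ E, T.a (v pq.1) (v pq.2) ≠ 0) (hcn : ∀ p < t, 0 < cn p) (p1 : ℕ) (hp1 : p1 < t)
    (h1 : cn p1 = 1) (hsum : ∑ p ∈ range t, cn p ^ 2 = ∑ pq ∈ E, cn pq.1 * cn pq.2)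
    (hconn : ∀ p ∈ range t, 0 < p → ∃ q ∈ range p, (p, q) ∈ E ∨ (q, p) ∈ E ∨ ∃ r ∈ range t, ((p, r) ∈ E ∨ (r, p) ∈ E) ∧
      ((q, r) ∈ E ∨ (r, q) ∈ E)) :
    t = n ∧ Shaped T (fun p => (cn p : ℤ)) one' E := by
  obtain ⟨rfl, hl, he, hz⟩ := key_eq T v (fun p => (cn p : ℝ)) hinj (fun p _ => hv' _)
    (fun p hp => by exact_mod_cast hcn p hp) (by omega) E hE (fun _ => 1)
    (fun pq h => one_le_e T (ne_of hv' hinj (hE pq h).1 (hE pq h).2.1 (hE pq h).2.2.1) (hnz pq h))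
    (by simp only [one_mul]; exact_mod_cast hsum)
  refine ⟨rfl, ?_⟩
  have st : ∀ p q, (p, q) ∈ E ∨ (q, p) ∈ E → T.w (v q) = T.w (v p) := by
    rintro p q (h | h)
    · exact w_eq_of_e_one T (by omega) (ne_of hv' hinj (hE _ h).1 (hE _ h).2.1 (hE _ h).2.2.1)
        (hv' _) (hv' _) (hnz _ h) (he _ h)
    · exact (w_eq_of_e_one T (by omega) (ne_of hv' hinj (hE _ h).1 (hE _ h).2.1 (hE _ h).2.2.1)
        (hv' _) (hv' _) (hnz _ h) (he _ h)).symm
  have hw : ∀ p, p < t → T.w (v p) = T.w (v 0) := by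
    intro p
    induction p using Nat.strong_induction_on with
    | _ p ih =>
      intro hp
      rcases Nat.eq_zero_or_pos p with rfl | hp0
      · rfl
      obtain ⟨q, hq', h | h | ⟨r', hr, h, h'⟩⟩ := hconn p (Finset.mem_range.2 hp) hp0
      all_goals (have hq := Finset.mem_range.1 hq')
      · rw [← st p q (.inl h)]; exact ih q hq (by omega)
      · rw [st q p (.inl h)]; exact ih q hq (by omega)
      · rw [← st p r' h, st q r' h']; exact ih q hq (by omega)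
  exact shaped_of_key T hv' (by omega) v _ _ hinj hl (fun pq h => ⟨(hE pq h).2.2.1, hnz pq h⟩) hz
    _ one' _ (fun p hp => by rw [one', one_mul]; exact hw p hp) 1 (fun p _ => by simp [one'])
    p1 hp1 (by rw [h1]; rfl) (fun p hp => by exact_mod_cast hcn p hp) (fun _ _ => one_pos)

theorem bd_found {k : ℕ} (hk : 1 ≤ k) (hn3 : 2 < n) (hinj : Set.InjOn v (Set.Iio (k + 3)))
    (hc : ∀ p < k, T.a (v p) (v (p + 1)) ≠ 0)
    (hq : T.a (v k) (v (k + 1)) ≠ 0) (hr : T.a (v k) (v (k + 2)) ≠ 0)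
    (hw : T.w (v 0) ≠ T.w (v 1)) : k + 3 = n ∧ AffineType T := by
  obtain ⟨j, rfl⟩ : ∃ j, k = j + 1 := ⟨k - 1, by omega⟩
  have hnz : ∀ pq ∈ bdE (j + 1 + 3), T.a (v pq.1) (v pq.2) ≠ 0 := by
    rintro ⟨p, q⟩ h
    simp only [bdE, Finset.mem_insert, mem_chainE, Prod.mk.injEq] at h
    rcases h with ⟨rfl, rfl⟩ | ⟨rfl, rfl⟩ | ⟨h1, rfl⟩
    · exact hq
    · exact hr
    · exact hc p (by omega)
  have hE : ∀ pq ∈ bdE (j + 1 + 3), pq.1 < j + 1 + 3 ∧ pq.2 < j + 1 + 3 ∧ pq.1 ≠ pq.2 ∧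
      (pq.2, pq.1) ∉ bdE (j + 1 + 3) := by
    rintro ⟨p, q⟩ h
    simp only [bdE, Finset.mem_insert, mem_chainE, Prod.mk.injEq, not_or, not_and] at h ⊢
    rcases h with ⟨rfl, rfl⟩ | ⟨rfl, rfl⟩ | ⟨h1, rfl⟩ <;>
      exact ⟨by omega, by omega, by omega, by omega, by omega, by omega⟩
  let c : ℕ → ℝ := fun p => if p = 0 then Real.sqrt 2 else if p ≤ j + 1 then 2 else 1
  let L : ℕ × ℕ → ℝ := fun pq => if pq.1 = 0 then Real.sqrt 2 else 1
  obtain ⟨rfl, hl, he, hz⟩ := key_eq T v c hinj (fun p _ => hv' _)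
    (fun p _ => by simp only [c]; split_ifs <;> positivity) (by omega) (bdE (j + 1 + 3)) hE L (by
      rintro ⟨p, q⟩ h
      have hne := ne_of hv' hinj (hE _ h).1 (hE _ h).2.1 (hE _ h).2.2.1
      simp only [bdE, Finset.mem_insert, mem_chainE, Prod.mk.injEq] at h
      rcases eq_or_ne p 0 with rfl | hp0
      · obtain rfl : q = 1 := by omega
        simpa [L] using sqrt_two_le_e T hne (hc 0 (by omega)) hw
      · refine (show L (p, q) ≤ 1 by simp [L, hp0]).trans (one_le_e T hne (hnz (p, q) ?_))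
        simp only [bdE, Finset.mem_insert, mem_chainE, Prod.mk.injEq]; exact h) (by
      have hS : ∑ p ∈ range (j + 1 + 3), c p ^ 2 = (j + 1 : ℕ) * 4 + 4 := by
        rw [show j + 1 + 3 = j + 1 + 1 + 1 + 1 from rfl, Finset.sum_range_succ, Finset.sum_range_succ,
          Finset.sum_range_succ',
          Finset.sum_congr rfl (fun x hx => show c (x + 1) ^ 2 = 4 by
            simp at hx; simp [c, show x ≤ j by omega]; norm_num),
          Finset.sum_const, Finset.card_range, nsmul_eq_mul]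
        simp [c]; ring
      rw [hS, bdE, Finset.sum_insert (by simp [mem_chainE]), Finset.sum_insert (by simp [mem_chainE]),
        show j + 1 + 3 - 3 = j + 1 by omega, sum_chainE, Finset.sum_range_succ',
        Finset.sum_congr rfl (fun x hx => show L (x + 1, x + 1 + 1) *
            (c ((x + 1, x + 1 + 1).1) * c ((x + 1, x + 1 + 1).2)) = 4 by
          simp at hx; simp [L, c, show x + 1 ≤ j by omega, show x ≤ j by omega]; norm_num),
        Finset.sum_const, Finset.card_range, nsmul_eq_mul, show j + 1 + 3 - 2 = j + 2 by omega,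
        show j + 1 + 3 - 1 = j + 3 by omega]
      simp [L, c]
      ring_nf
      rw [Real.sq_sqrt (by norm_num : (0:ℝ) ≤ 2)]; ring)
  refine ⟨rfl, ?_⟩
  have st : ∀ p q, (p, q) ∈ bdE (j + 1 + 3) → p ≠ 0 → T.w (v q) = T.w (v p) := fun p q h hp =>
    w_eq_of_e_one T (by omega) (ne_of hv' hinj (hE _ h).1 (hE _ h).2.1 (hE _ h).2.2.1) (hv' _) (hv' _)
      (hnz _ h) (by rw [he _ h]; simp [L, hp])
  have mid : ∀ a ≤ j, T.w (v (a + 1)) = T.w (v 1) := by
    intro a
    induction a with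
    | zero => simp
    | succ a ih =>
      intro ha
      rw [st (a + 1) (a + 2) (by simp [bdE, mem_chainE]; omega) (by omega)]
      exact ih (by omega)
  have hw1 : ∀ p < j + 1 + 3, p ≠ 0 → T.w (v p) = T.w (v 1) := by
    intro p hp hp0
    rcases show (1 ≤ p ∧ p ≤ j + 1) ∨ p = j + 2 ∨ p = j + 3 by omega with h | rfl | rfl
    · obtain ⟨a, rfl⟩ : ∃ a, p = a + 1 := ⟨p - 1, by omega⟩
      exact mid a (by omega)
    · rw [st (j + 1) (j + 2) (by simp [bdE]) (by omega), mid j le_rfl]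
    · rw [st (j + 1) (j + 3) (by simp [bdE]) (by omega), mid j le_rfl]
  have hsh := fun mult wt w hw' C hC p1 hp1 h1 hm hwt => shaped_of_key T hv' (by omega) v c
    (bdE (j + 1 + 3)) hinj hl (fun pq h => ⟨(hE pq h).2.2.1, hnz pq h⟩) hz mult wt w hw' C hC p1 hp1 h1 hm hwt
  have h01 : ((0 : ℕ), 1) ∈ bdE (j + 1 + 3) := by simp [bdE, mem_chainE]
  rcases w_double_of_e T (by omega) (ne_of hv' hinj (by omega) (by omega) (by omega)) (hv' _) (hv' _)
    (hnz _ h01) (by rw [he _ h01]; simp [L]) with h | h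
  · -- the first vertex is lighter
    refine .inr (.inr (.inr (.inr (.inr (.inr (.inl ⟨by omega, hsh _ _ (T.w (v 0)) ?_ (1 / 2) ?_ (j + 2) (by omega) ?_ ?_ ?_⟩))))))
    · intro p hp
      simp only [bdWb]
      split_ifs with h0
      · rw [h0, one_mul]
      · rw [hw1 p hp h0, h]
    · intro p hp
      simp only [c, bdMb, bdWb]
      split_ifs <;> first | (exfalso; omega) | (push_cast; norm_num)
    · simp [bdMb]
    · intro p _; simp only [bdMb]; split_ifs <;> norm_num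
    · intro p _; simp only [bdWb]; split_ifs <;> norm_num
  · refine .inr (.inr (.inr (.inr (.inr (.inl ⟨by omega, hsh _ _ (T.w (v 1)) ?_ 1 ?_ 0 (by omega) ?_ ?_ ?_⟩)))))
    · intro p hp
      simp only [bdWa]
      split_ifs with h0
      · rw [h0, h]
      · rw [hw1 p hp h0, one_mul]
    · intro p hp
      simp only [c, bdMa, bdWa]
      split_ifs <;> first | (exfalso; omega) | (push_cast; norm_num)
    · simp [bdMa]
    · intro p _; simp only [bdMa]; split_ifs <;> norm_num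
    · intro p _; simp only [bdWa]; split_ifs <;> norm_num

theorem cpath_found {k : ℕ} (hn3 : 2 < n) (hinj : Set.InjOn v (Set.Iio (k + 3)))
    (hc : ∀ p < k + 2, T.a (v p) (v (p + 1)) ≠ 0)
    (hw : T.w (v 0) ≠ T.w (v 1)) (hw' : T.w (v (k + 1)) ≠ T.w (v (k + 2))) :
    k + 3 = n ∧ AffineType T := by
  have hE : ∀ pq ∈ chainE (k + 2), pq.1 < k + 3 ∧ pq.2 < k + 3 ∧ pq.1 ≠ pq.2 ∧ (pq.2, pq.1) ∉ chainE (k + 2) := by
    rintro ⟨p, q⟩ h
    rw [mem_chainE] at h ⊢
    exact ⟨by omega, by omega, by omega, by omega⟩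
  have hnz : ∀ pq ∈ chainE (k + 2), T.a (v pq.1) (v pq.2) ≠ 0 := by
    rintro ⟨p, q⟩ h
    obtain ⟨h1, rfl⟩ := mem_chainE.1 h
    exact hc p h1
  let c : ℕ → ℝ := fun p => if p = 0 ∨ p = k + 2 then 1 else Real.sqrt 2
  let L : ℕ × ℕ → ℝ := fun pq => if pq.1 = 0 ∨ pq.1 = k + 1 then Real.sqrt 2 else 1
  obtain ⟨rfl, hl, he, hz⟩ := key_eq T v c hinj (fun p _ => hv' _)
    (fun p _ => by simp only [c]; split_ifs <;> positivity) (by omega) (chainE (k + 2)) hE L (by
      rintro ⟨p, q⟩ h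
      have hne := ne_of hv' hinj (hE _ h).1 (hE _ h).2.1 (hE _ h).2.2.1
      obtain ⟨h1, rfl⟩ := mem_chainE.1 h
      rcases eq_or_ne p 0 with rfl | hp0
      · simpa [L] using sqrt_two_le_e T hne (hc 0 (by omega)) hw
      rcases eq_or_ne p (k + 1) with rfl | hp1
      · simpa [L] using sqrt_two_le_e T hne (hc _ h1) hw'
      · exact (show L (p, p + 1) ≤ 1 by simp [L, hp0, hp1]).trans (one_le_e T hne (hc p h1))) (by
      have hS : ∑ p ∈ range (k + 3), c p ^ 2 = (k + 1 : ℕ) * 2 + 2 := by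
        rw [show k + 3 = k + 1 + 1 + 1 from rfl, Finset.sum_range_succ, Finset.sum_range_succ',
          Finset.sum_congr rfl (fun x hx => show c (x + 1) ^ 2 = 2 by
            simp at hx; simp [c, show x ≠ k + 1 by omega]),
          Finset.sum_const, Finset.card_range, nsmul_eq_mul]
        simp [c]; ring
      rw [hS, sum_chainE, show k + 2 = k + 1 + 1 from rfl, Finset.sum_range_succ, Finset.sum_range_succ',
        Finset.sum_congr rfl (fun x hx => show L (x + 1, x + 1 + 1) *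
            (c ((x + 1, x + 1 + 1).1) * c ((x + 1, x + 1 + 1).2)) = 2 by
          simp at hx; simp [L, c, show x ≠ k + 1 by omega, show x ≠ k by omega]),
        Finset.sum_const, Finset.card_range, nsmul_eq_mul]
      simp [L, c]
      ring)
  refine ⟨rfl, ?_⟩
  have mid : ∀ a ≤ k, T.w (v (a + 1)) = T.w (v 1) := by
    intro a
    induction a with
    | zero => simp
    | succ a ih =>
      intro ha
      have hm : (a + 1, a + 1 + 1) ∈ chainE (k + 2) := mem_chainE.2 ⟨by omega, rfl⟩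
      rw [w_eq_of_e_one T (by omega) (ne_of hv' hinj (by omega) (by omega) (by omega)) (hv' _) (hv' _)
        (hc (a + 1) (by omega)) (by rw [he _ hm]; simp [L]; omega)]
      exact ih (by omega)
  have hmid : ∀ p, 1 ≤ p → p ≤ k + 1 → T.w (v p) = T.w (v 1) := by
    intro p h1 h2
    obtain ⟨a, rfl⟩ : ∃ a, p = a + 1 := ⟨p - 1, by omega⟩
    exact mid a (by omega)
  have d0 := w_double_of_e T (by omega) (ne_of hv' hinj (show 0 < k + 3 by omega) (show 1 < k + 3 by omega) (by omega))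
    (hv' _) (hv' _) (hc 0 (by omega)) (by rw [he _ (mem_chainE.2 ⟨by omega, rfl⟩)]; simp [L])
  have d1 := w_double_of_e T (by omega) (ne_of hv' hinj (show k + 1 < k + 3 by omega) (show k + 2 < k + 3 by omega) (by omega))
    (hv' _) (hv' _) (hc (k + 1) (by omega)) (by rw [he _ (mem_chainE.2 ⟨by omega, rfl⟩)]; simp [L])
  rw [mid k le_rfl] at d1
  have hsh := fun (mult wt : ℕ → ℤ) w hw' C hC p1 hp1 h1 hm hwt => shaped_of_key T hv' (by omega) v c
    (chainE (k + 3 - 1)) hinj hl (fun pq h => ⟨(hE pq h).2.2.1, hnz pq h⟩) hz mult wt w hw' C hC p1 hp1 h1 hm hwt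
  rcases d0 with a | a <;> rcases d1 with b | b
  · refine .inr (.inr (.inr (.inr (.inr (.inr (.inr (.inl ⟨by omega, hsh _ _ (T.w (v 0)) ?_ (1 / 4) ?_ (k + 2) (by omega) ?_ ?_ ?_⟩)))))))
    · intro p hp
      rcases show p = 0 ∨ (1 ≤ p ∧ p ≤ k + 1) ∨ p = k + 2 by omega with rfl | ⟨h1, h2⟩ | rfl
      · simp [cWa]
      · simp [cWa, show p ≠ 0 by omega, show p < k + 2 by omega, hmid p h1 h2, a]
      · simp [cWa]; omega
    · intro p hp
      simp only [c, cMa, cWa]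
      split_ifs <;> first | (exfalso; omega) | (push_cast; norm_num)
    · simp [cMa]
    · intro p _; simp only [cMa]; split_ifs <;> norm_num
    · intro p _; simp only [cWa]; split_ifs <;> norm_num
  · refine .inr (.inr (.inr (.inr (.inr (.inr (.inr (.inr (.inl ⟨by omega, hsh one' _ (T.w (v 0)) ?_ 1 ?_ 0 (by omega) rfl (fun _ _ => one_pos) ?_⟩))))))))
    · intro p hp
      rcases show p = 0 ∨ (1 ≤ p ∧ p ≤ k + 1) ∨ p = k + 2 by omega with rfl | ⟨h1, h2⟩ | rfl
      · simp [cWb]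
      · simp [cWb, show p ≠ 0 by omega, show p ≠ k + 2 by omega, hmid p h1 h2, a]
      · simp [cWb]; omega
    · intro p hp
      simp only [c, one', cWb]
      split_ifs <;> first | (exfalso; omega) | (push_cast; norm_num)
    · intro p _; simp only [cWb]; split_ifs <;> norm_num
  · refine .inr (.inr (.inr (.inr (.inr (.inr (.inr (.inr (.inr (.inl ⟨by omega, hsh _ _ (T.w (v 1)) ?_ (1 / 2) ?_ 0 (by omega) ?_ ?_ ?_⟩)))))))))
    · intro p hp
      rcases show p = 0 ∨ (1 ≤ p ∧ p ≤ k + 1) ∨ p = k + 2 by omega with rfl | ⟨h1, h2⟩ | rfl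
      · simp [cWc, a]
      · simp [cWc, show p ≠ 0 by omega, show p ≠ k + 2 by omega, hmid p h1 h2]
      · simp [cWc]; omega
    · intro p hp
      simp only [c, cMc, cWc]
      split_ifs <;> first | (exfalso; omega) | (push_cast; norm_num)
    · simp [cMc]
    · intro p _; simp only [cMc]; split_ifs <;> norm_num
    · intro p _; simp only [cWc]; split_ifs <;> norm_num
  · -- the mirror image of the first case
    refine .inr (.inr (.inr (.inr (.inr (.inr (.inr (.inl ⟨by omega, ?_⟩)))))))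
    have hrinj : Set.InjOn (fun p => v (k + 2 - p)) (Set.Iio (k + 3)) := by
      intro p hp q hq h
      simp only [Set.mem_Iio] at hp hq
      have := hinj (show k + 2 - p < k + 3 by omega) (show k + 2 - q < k + 3 by omega) h
      omega
    refine shaped_of_key T hv' (by omega) (fun p => v (k + 2 - p)) c (chainE (k + 3 - 1)) hrinj ?_ ?_ ?_
      (cMa (k + 3)) (cWa (k + 3)) (T.w (v (k + 2))) ?_ (1 / 4) ?_ (k + 2) (by omega) ?_ ?_ ?_
    · obtain ⟨l, hl0, hcl⟩ := hl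
      refine ⟨l, hl0, fun p hp => ?_⟩
      rw [← hcl _ (by omega)]
      simp only [c]
      split_ifs <;> first | rfl | (exfalso; omega)
    · rintro ⟨p, q⟩ h
      obtain ⟨h1, rfl⟩ := mem_chainE.1 h
      refine ⟨by omega, ?_⟩
      rw [a_comm]
      have := hc (k + 2 - (p + 1)) (by omega)
      rwa [show k + 2 - (p + 1) + 1 = k + 2 - p by omega] at this
    · intro p hp q hq hpq h1 h2
      simp only [mem_chainE] at h1 h2
      exact hz _ (by omega) _ (by omega) (by omega) (by rw [mem_chainE]; omega) (by rw [mem_chainE]; omega)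
    · intro p hp
      rcases show p = 0 ∨ (1 ≤ p ∧ p ≤ k + 1) ∨ p = k + 2 by omega with rfl | ⟨h1, h2⟩ | rfl
      · simp [cWa]
      · simp [cWa, show p ≠ 0 by omega, show p < k + 2 by omega, hmid (k + 2 - p) (by omega) (by omega), b]
      · simp [cWa]; omega
    · intro p hp
      simp only [c, cMa, cWa]
      split_ifs <;> first | (exfalso; omega) | (push_cast; norm_num)
    · simp [cMa]
    · intro p _; simp only [cMa]; split_ifs <;> norm_num
    · intro p _; simp only [cWa]; split_ifs <;> norm_num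

theorem f4_found (hn3 : 2 < n) (hinj : Set.InjOn v (Set.Iio 5))
    (hc : ∀ p < 4, T.a (v p) (v (p + 1)) ≠ 0) (hw : T.w (v 2) ≠ T.w (v 3)) :
    5 = n ∧ AffineType T := by
  have hE : ∀ pq ∈ chainE 4, pq.1 < 5 ∧ pq.2 < 5 ∧ pq.1 ≠ pq.2 ∧ (pq.2, pq.1) ∉ chainE 4 := by decide
  have hnz : ∀ pq ∈ chainE 4, T.a (v pq.1) (v pq.2) ≠ 0 := by
    rintro ⟨p, q⟩ h
    obtain ⟨h1, rfl⟩ := mem_chainE.1 h
    exact hc p h1
  let c : ℕ → ℝ := fun p => if p = 0 then 1 else if p = 1 then 2 else if p = 2 then 3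
    else if p = 3 then 2 * Real.sqrt 2 else Real.sqrt 2
  let L : ℕ × ℕ → ℝ := fun pq => if pq.1 = 2 then Real.sqrt 2 else 1
  have ne : ∀ p q, p < 5 → q < 5 → p ≠ q → v p ≠ v q := fun p q hp hq h => ne_of hv' hinj hp hq h
  obtain ⟨rfl, hl, he, hz⟩ := key_eq T v c hinj (fun p _ => hv' _)
    (fun p _ => by simp only [c]; split_ifs <;> positivity) (by omega) (chainE 4) hE L (by
      rintro ⟨p, q⟩ h
      obtain ⟨h1, rfl⟩ := mem_chainE.1 h
      rcases eq_or_ne p 2 with rfl | hp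
      · simpa [L] using sqrt_two_le_e T (ne 2 3 (by omega) (by omega) (by omega)) (hc 2 (by omega)) hw
      · exact (show L (p, p + 1) ≤ 1 by simp [L, hp]).trans
          (one_le_e T (ne _ _ (by omega) (by omega) (by omega)) (hc p h1))) (by
      rw [sum_chainE]
      simp [Finset.sum_range_succ, c, L]
      ring_nf
      rw [Real.sq_sqrt (by norm_num : (0:ℝ) ≤ 2)]; ring)
  refine ⟨rfl, ?_⟩
  have eq1 : ∀ p, p < 4 → p ≠ 2 → T.w (v (p + 1)) = T.w (v p) := fun p hp hp2 =>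
    w_eq_of_e_one T (by omega) (ne _ _ (by omega) (by omega) (by omega)) (hv' _) (hv' _) (hc p hp)
      (by rw [he _ (mem_chainE.2 ⟨hp, rfl⟩)]; simp [L, hp2])
  have e0 : T.w (v 1) = T.w (v 0) := eq1 0 (by omega) (by omega)
  have e1 : T.w (v 2) = T.w (v 1) := eq1 1 (by omega) (by omega)
  have e3 : T.w (v 4) = T.w (v 3) := eq1 3 (by omega) (by omega)
  have hsh := fun (mult wt : ℕ → ℤ) w hw' C hC p1 hp1 h1 hm hwt => shaped_of_key T hv' (by omega) v c
    (chainE 4) hinj hl (fun pq h => ⟨(hE pq h).2.2.1, hnz pq h⟩) hz mult wt w hw' C hC p1 hp1 h1 hm hwt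
  have s2 := Real.sq_sqrt (show (0 : ℝ) ≤ 2 by norm_num)
  rcases w_double_of_e T (by omega) (ne 2 3 (by omega) (by omega) (by omega)) (hv' _) (hv' _)
    (hc 2 (by omega)) (by rw [he _ (mem_chainE.2 ⟨by omega, rfl⟩)]; simp [L]) with a | a
  · refine .inr (.inr (.inr (.inr (.inr (.inr (.inr (.inr (.inr (.inr (.inl ⟨rfl, hsh f4Ma f4Wa (T.w (v 2)) ?_ 1 ?_ 0 (by omega) rfl ?_ ?_⟩))))))))))
    · intro p hp
      interval_cases p <;> simp [f4Wa] <;> omega
    · intro p hp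
      interval_cases p <;> simp [c, f4Ma, f4Wa, mul_pow, s2] <;> norm_num
    · intro p hp; interval_cases p <;> decide
    · intro p hp; interval_cases p <;> decide
  · refine .inr (.inr (.inr (.inr (.inr (.inr (.inr (.inr (.inr (.inr (.inr (.inl ⟨rfl, hsh f4Mb f4Wb (T.w (v 3)) ?_ (1 / 2) ?_ 0 (by omega) rfl ?_ ?_⟩)))))))))))
    · intro p hp
      interval_cases p <;> simp [f4Wb] <;> omega
    · intro p hp
      interval_cases p <;> simp [c, f4Mb, f4Wb, mul_pow, s2] <;> norm_num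
    · intro p hp; interval_cases p <;> decide
    · intro p hp; interval_cases p <;> decide

theorem g2_found (hn3 : 2 < n) (hinj : Set.InjOn v (Set.Iio 3))
    (h01 : T.a (v 0) (v 1) ≠ 0) (h12 : T.a (v 1) (v 2) ≠ 0)
    (hw : T.w (v 2) = 3 * T.w (v 1) ∨ T.w (v 1) = 3 * T.w (v 2)) : 3 = n ∧ AffineType T := by
  have hE : ∀ pq ∈ chainE 2, pq.1 < 3 ∧ pq.2 < 3 ∧ pq.1 ≠ pq.2 ∧ (pq.2, pq.1) ∉ chainE 2 := by decide
  have hnz : ∀ pq ∈ chainE 2, T.a (v pq.1) (v pq.2) ≠ 0 := by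
    rintro ⟨p, q⟩ h
    obtain ⟨h1, rfl⟩ := mem_chainE.1 h
    interval_cases p <;> assumption
  let c : ℕ → ℝ := fun p => if p = 0 then 1 else if p = 1 then 2 else Real.sqrt 3
  let L : ℕ × ℕ → ℝ := fun pq => if pq.1 = 1 then Real.sqrt 3 else 1
  have n01 : v 0 ≠ v 1 := ne_of hv' hinj (by omega) (by omega) (by omega)
  have n12 : v 1 ≠ v 2 := ne_of hv' hinj (by omega) (by omega) (by omega)
  obtain ⟨rfl, hl, he, hz⟩ := key_eq T v c hinj (fun p _ => hv' _)
    (fun p _ => by simp only [c]; split_ifs <;> positivity) (by omega) (chainE 2) hE L (by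
      rintro ⟨p, q⟩ h
      obtain ⟨h1, rfl⟩ := mem_chainE.1 h
      interval_cases p
      · simpa [L] using one_le_e T n01 h01
      · simpa [L] using sqrt_three_le_e T n12 h12 hw) (by
      rw [sum_chainE]
      simp [Finset.sum_range_succ, c, L]
      ring_nf
      rw [Real.sq_sqrt (by norm_num : (0:ℝ) ≤ 3)]; ring)
  refine ⟨rfl, ?_⟩
  have e0 : T.w (v 1) = T.w (v 0) :=
    w_eq_of_e_one T (by omega) n01 (hv' _) (hv' _) h01 (by rw [he (0, 1) (by decide)]; simp [L])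
  have hsh := fun (mult wt : ℕ → ℤ) w hw' C hC p1 hp1 h1 hm hwt => shaped_of_key T hv' (by omega) v c
    (chainE 2) hinj hl (fun pq h => ⟨(hE pq h).2.2.1, hnz pq h⟩) hz mult wt w hw' C hC p1 hp1 h1 hm hwt
  have s3 := Real.sq_sqrt (show (0 : ℝ) ≤ 3 by norm_num)
  rcases hw with a | a
  · refine .inr (.inr (.inr (.inr (.inr (.inr (.inr (.inr (.inr (.inr (.inr (.inr (.inl ⟨rfl, hsh g2Ma g2Wa (T.w (v 1)) ?_ 1 ?_ 0 (by omega) rfl ?_ ?_⟩))))))))))))
    · intro p hp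
      interval_cases p <;> simp [g2Wa] <;> omega
    · intro p hp
      interval_cases p <;> simp [c, g2Ma, g2Wa, s3] <;> norm_num
    · intro p hp; interval_cases p <;> decide
    · intro p hp; interval_cases p <;> decide
  · refine .inr (.inr (.inr (.inr (.inr (.inr (.inr (.inr (.inr (.inr (.inr (.inr (.inr ⟨rfl, hsh g2Mb g2Wb (T.w (v 2)) ?_ (1 / 3) ?_ 0 (by omega) rfl ?_ ?_⟩))))))))))))
    · intro p hp
      interval_cases p <;> simp [g2Wb] <;> omega
    · intro p hp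
      interval_cases p <;> simp [c, g2Mb, g2Wb, s3] <;> norm_num
    · intro p hp; interval_cases p <;> decide
    · intro p hp; interval_cases p <;> decide

end Groth.Agent.H28NT
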