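-- Global functions of proper flat schemes over Noetherian normal domains
import Groth.Agent.H28NT.ConnectedDVR

/-!
# Global functions over a Noetherian normal domain
-/

set_option autoImplicit false
set_option linter.style.haveILetI false
universe u

open AlgebraicGeometry CategoryTheory CategoryTheory.Limits TopologicalSpace Opposite

namespace Groth.Agent.H28NT

/-- If the generic fibre of a proper flat scheme over a Noetherian normal domain has only the
constants as global functions, then so does the scheme. -/
theorem toGlobal_surjective_of_genericFibre' (R : Type u) [CommRing R] [IsDomain R]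
    [IsNoetherianRing R] [IsIntegrallyClosed R] {X C : Scheme.{u}} (p : X ⟶ Spec (CommRingCat.of R)) [IsProper p] [Flat p]
    (f : C ⟶ Spec (CommRingCat.of (FractionRing R))) (g : C ⟶ X)
    (hg : IsPullback g f p (Spec.map (CommRingCat.ofHom (algebraMap R (FractionRing R)))))
    (hf : Function.Surjective f.appTop) :
    Function.Surjective (Coh.toGlobal p) := by
  let K := FractionRing R
  haveI : IsSchemeTheoreticallyDominant g := by
    have h : g = hg.isoPullback.hom ≫ pullback.fst p (Neron.genPt R) := hg.isoPullback_hom_fst.symm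
    rw [h]
    infer_instance
  haveI : QuasiCompact g := by
    have h : g = hg.isoPullback.hom ≫ pullback.fst p (Neron.genPt R) := hg.isoPullback_hom_fst.symm
    rw [h]
    infer_instance
  let φ : K →+* Γ(C, ⊤) := Coh.toGlobal f
  have hφ : Function.Surjective φ := hf.comp (Scheme.ΓSpecIso (CommRingCat.of K)).commRingCatIsoToRingEquiv.symm.surjective
  have hcomm : ∀ r : R, g.appTop (Coh.toGlobal p r) = φ (algebraMap R K r) := by
    intro r
    have h1 : g ≫ p = f ≫ Spec.map (CommRingCat.ofHom (algebraMap R K)) := hg.w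
    show (p.appTop ≫ g.appTop) ((Scheme.ΓSpecIso (CommRingCat.of R)).inv r) = _
    rw [← Scheme.Hom.comp_appTop, h1, Scheme.Hom.comp_appTop]
    exact congrArg f.appTop (ConcreteCategory.congr_hom
      (Scheme.ΓSpecIso_inv_naturality (CommRingCat.ofHom (algebraMap R K))) r).symm
  intro s
  by_cases hC : Subsingleton Γ(C, ⊤)
  · exact ⟨0, g.app_injective ⊤ (Subsingleton.elim (α := Γ(C, ⊤)) _ _)⟩
  haveI : Nontrivial Γ(C, ⊤) := not_subsingleton_iff_nontrivial.1 hC
  obtain ⟨P, hPm, hP⟩ := (finite_toGlobal R p).to_isIntegral s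
  obtain ⟨c, hc⟩ := hφ (g.appTop s)
  have hci : IsIntegral R c := by
    refine ⟨P, hPm, φ.injective ?_⟩
    rw [map_zero, Polynomial.hom_eval₂, hc]
    have h0 := congrArg g.appTop hP
    rw [map_zero] at h0
    rw [← h0]
    refine Eq.trans ?_ (Polynomial.hom_eval₂ P (Coh.toGlobal p) g.appTop.hom s).symm
    exact congrArg (fun ψ => Polynomial.eval₂ ψ (g.appTop s) P) (RingHom.ext fun r => (hcomm r).symm)
  obtain ⟨r, rfl⟩ := IsIntegrallyClosed.isIntegral_iff.1 hci
  exact ⟨r, g.app_injective ⊤ ((hcomm r).trans hc)⟩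

/-- `R → Γ(X, O_X)` is injective as soon as the generic fibre is non-empty. -/
theorem toGlobal_injective_of_genericFibre (R : Type u) [CommRing R] [IsDomain R] {X : Scheme.{u}}
    (p : X ⟶ Spec (CommRingCat.of R)) [Nonempty ↥(pullback p (Neron.genPt R))] :
    Function.Injective (Coh.toGlobal p) := by
  refine (injective_iff_map_eq_zero _).2 fun r hr => ?_
  by_contra h0
  let z := Classical.arbitrary ↥(pullback p (Neron.genPt R))
  letI : X.Over (Spec (CommRingCat.of R)) := ⟨p⟩
  have hmem : (pullback.fst p (Neron.genPt R)).base z ∈ X.basicOpen (Coh.toGlobal p r : Γ(X, ⊤)) := by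
    rw [show X.basicOpen (Coh.toGlobal p r : Γ(X, ⊤)) = X.basicOpen (Coh.toGlobal (X ↘ Spec (CommRingCat.of R)) r) from rfl,
      mem_basicOpen_toGlobal_iff]
    show r ∉ (p.base ((pullback.fst p (Neron.genPt R)).base z)).asIdeal
    rw [← Scheme.Hom.comp_apply, pullback.condition, Scheme.Hom.comp_apply]
    show r ∉ ((Neron.genPt R).base ((pullback.snd p (Neron.genPt R)).base z)).asIdeal
    intro h
    have h' : algebraMap R (FractionRing R) r ∈ ((pullback.snd p (Neron.genPt R)).base z).asIdeal := h
    exact (((pullback.snd p (Neron.genPt R)).base z).isPrime.ne_top)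
      (Ideal.eq_top_of_isUnit_mem _ h' (isUnit_iff_ne_zero.2 ((map_ne_zero_iff _
        (IsFractionRing.injective R (FractionRing R))).2 h0)))
  rw [show X.basicOpen (Coh.toGlobal p r : Γ(X, ⊤)) = X.basicOpen (0 : Γ(X, ⊤)) from congrArg _ hr,
    Scheme.basicOpen_zero] at hmem
  exact hmem

end Groth.Agent.H28NT
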