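import Groth.Agent.H28NT.Quad
import Mathlib.Tactic.IntervalCases

/-!
# Graphs of `(-2)`-indices in a numerical type
-/

namespace Groth.Agent.H28NT

open Finset Models Models.NumericalType

variable {n : ℕ} (T : NumericalType n)

/-- Extension of a `Fin`-indexed family to `ℕ`. -/
def vN {t : ℕ} [NeZero t] (v : Fin t ↪ Fin n) (p : ℕ) : Fin n := v (Fin.ofNat t p)

lemma vN_val {t : ℕ} [NeZero t] (v : Fin t ↪ Fin n) (p : Fin t) : vN v p.val = v p :=
  congrArg v (Fin.ext (Nat.mod_eq_of_lt p.2))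

lemma vN_of_lt {t : ℕ} [NeZero t] (v : Fin t ↪ Fin n) {p : ℕ} (hp : p < t) :
    vN v p = v ⟨p, hp⟩ :=
  congrArg v (Fin.ext (Nat.mod_eq_of_lt hp))

lemma vN_injOn {t : ℕ} [NeZero t] (v : Fin t ↪ Fin n) : Set.InjOn (vN v) (Set.Iio t) := by
  intro p hp q hq h
  rw [vN_of_lt v hp, vN_of_lt v hq] at h
  exact Fin.mk.inj (v.injective h)

lemma vN_minusTwo {t : ℕ} [NeZero t] {v : Fin t ↪ Fin n} (hv : ∀ j, T.IsMinusTwo (v j)) :
    ∀ p < t, T.IsMinusTwo (vN v p) := fun p hp => by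
  rw [vN_of_lt v hp]; exact hv _

section
variable {t : ℕ} {v : ℕ → Fin n}

/-- A proper set of `(-2)`-indices spans fewer edges than vertices. -/
lemma forest (ht : t < n) (ht0 : 0 < t) (hinj : Set.InjOn v (Set.Iio t))
    (hv : ∀ p < t, T.IsMinusTwo (v p)) (E : Finset (ℕ × ℕ))
    (hE : ∀ pq ∈ E, pq.1 < t ∧ pq.2 < t ∧ pq.1 ≠ pq.2 ∧ (pq.2, pq.1) ∉ E)
    (hnz : ∀ pq ∈ E, T.a (v pq.1) (v pq.2) ≠ 0) : E.card < t := by
  by_contra h
  refine key_false T v (fun _ => 1) ht hinj hv (fun _ _ => zero_le_one) ⟨0, ht0, one_ne_zero⟩ E hE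
    (fun _ => 1) ?_ ?_
  · intro pq hpq
    obtain ⟨h1, h2, h3, -⟩ := hE pq hpq
    exact one_le_e T (fun h => h3 (hinj h1 h2 h)) (hnz pq hpq)
  · simp only [one_pow, mul_one, Finset.sum_const, Finset.card_range, nsmul_eq_mul]
    exact_mod_cast not_lt.1 h

/-- In a proper tree of `(-2)`-indices there are no further edges. -/
lemma no_other_edge (ht : t < n) (hinj : Set.InjOn v (Set.Iio t))
    (hv : ∀ p < t, T.IsMinusTwo (v p)) (E : Finset (ℕ × ℕ))
    (hE : ∀ pq ∈ E, pq.1 < t ∧ pq.2 < t ∧ pq.1 ≠ pq.2 ∧ (pq.2, pq.1) ∉ E)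
    (hnz : ∀ pq ∈ E, T.a (v pq.1) (v pq.2) ≠ 0) (hcard : t ≤ E.card + 1)
    {p q : ℕ} (hp : p < t) (hq : q < t) (hpq : p ≠ q) (h1 : (p, q) ∉ E) (h2 : (q, p) ∉ E) :
    T.a (v p) (v q) = 0 := by
  by_contra hne
  have := forest T ht (by omega) hinj hv (insert (p, q) E) ?_ ?_
  · rw [Finset.card_insert_of_notMem h1] at this; omega
  · intro ab hab
    rcases Finset.mem_insert.1 hab with rfl | hab
    · simp [hp, hq, hpq, h2, Ne.symm hpq]
    · obtain ⟨a1, a2, a3, a4⟩ := hE ab hab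
      refine ⟨a1, a2, a3, fun h => ?_⟩
      rcases Finset.mem_insert.1 h with h | h
      · simp only [Prod.ext_iff] at h
        exact h2 (by rw [← h.1, ← h.2]; exact hab)
      · exact a4 h
  · intro ab hab
    rcases Finset.mem_insert.1 hab with rfl | hab
    · exact hne
    · exact hnz ab hab

end

lemma w_eq_or_mul {i j : Fin n} (hn : 2 < n) (hij : i ≠ j) (hi : T.IsMinusTwo i)
    (hj : T.IsMinusTwo j) (h0 : T.a i j ≠ 0) :
    (T.a i j = T.w i ∧ T.w j = T.w i) ∨ (T.a i j = T.w j ∧ (T.w j = 2 * T.w i ∨ T.w j = 3 * T.w i)) ∨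
      (T.a i j = T.w i ∧ (T.w i = 2 * T.w j ∨ T.w i = 3 * T.w j)) := by
  obtain ⟨h1, h2⟩ := w_le_a T hij h0
  have hwi := T.w_pos i
  have hwj := T.w_pos j
  obtain ⟨p, hp⟩ := T.w_dvd i j
  obtain ⟨q, hq⟩ : T.w j ∣ T.a i j := a_comm T i j ▸ T.w_dvd j i
  have hp1 : 1 ≤ p := by
    by_contra hlt
    nlinarith
  have hq1 : 1 ≤ q := by
    by_contra hlt
    nlinarith
  have hlt : p * q < 4 := by
    by_contra hge
    have h4 : 4 * (T.w i * T.w j) ≤ T.a i j ^ 2 := by
      calc (4 : ℤ) * (T.w i * T.w j) ≤ (p * q) * (T.w i * T.w j) :=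
            mul_le_mul_of_nonneg_right (not_lt.1 hge) (by positivity)
        _ = (T.w i * p) * (T.w j * q) := by ring
        _ = T.a i j * T.a i j := by rw [← hp, ← hq]
        _ = _ := (sq _).symm
    refine key_false T (fun m => if m = 0 then i else j) (fun _ => 1) hn ?_ ?_
      (fun _ _ => zero_le_one) ⟨0, two_pos, one_ne_zero⟩ {(0, 1)} (by simp) (fun _ => 2) ?_ ?_
    · intro a ha b hb h
      simp only [Set.mem_Iio] at ha hb
      interval_cases a <;> interval_cases b <;> first | rfl | (simp at h; exact absurd h (by first | exact hij | exact hij.symm))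
    · intro a ha
      interval_cases a <;> simpa
    · intro pq hpq
      rw [Finset.mem_singleton] at hpq
      subst hpq
      have h5 := le_e_of_sq T hij h4
      have h22 : Real.sqrt 4 = 2 := by
        rw [show (4 : ℝ) = 2 ^ 2 by norm_num]; exact Real.sqrt_sq (by norm_num)
      norm_num [h22] at h5
      simpa using h5
    · norm_num [Finset.sum_range_succ]
  have hp3 : p ≤ 3 := by nlinarith
  have hq3 : q ≤ 3 := by nlinarith
  interval_cases p <;> interval_cases q <;> omega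

lemma a_eq_w {i j : Fin n} (hn : 2 < n) (hij : i ≠ j) (hi : T.IsMinusTwo i)
    (hj : T.IsMinusTwo j) (h0 : T.a i j ≠ 0) (hw : T.w j = T.w i) : T.a i j = T.w i := by
  have := T.w_pos i
  rcases w_eq_or_mul T hn hij hi hj h0 with h | h | h <;> omega

/-- The edge at the far end of a chain ending in a fork joins indices of equal weight. -/
lemma branch_w {k : ℕ} (hk : 1 ≤ k) (hn : k + 3 < n) {v : ℕ → Fin n}
    (hinj : Set.InjOn v (Set.Iio (k + 3))) (hv : ∀ p < k + 3, T.IsMinusTwo (v p))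
    (hchain : ∀ p < k, T.a (v p) (v (p + 1)) ≠ 0)
    (hq : T.a (v k) (v (k + 1)) ≠ 0) (hr : T.a (v k) (v (k + 2)) ≠ 0) :
    T.w (v 0) = T.w (v 1) := by
  by_contra hw
  obtain ⟨j, rfl⟩ : ∃ j, k = j + 1 := ⟨k - 1, by omega⟩
  let E : Finset (ℕ × ℕ) :=
    insert (j + 1, j + 2) (insert (j + 1, j + 3) ((range (j + 1)).image fun p => (p, p + 1)))
  let c : ℕ → ℝ := fun p => if p = 0 then Real.sqrt 2 else if p ≤ j + 1 then 2 else 1
  let L : ℕ × ℕ → ℝ := fun pq => if pq.1 = 0 then Real.sqrt 2 else 1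
  have hne : ∀ p q, p < j + 4 → q < j + 4 → p ≠ q → v p ≠ v q :=
    fun p q hp hq hpq h => hpq (hinj (show p < j + 4 from hp) (show q < j + 4 from hq) h)
  refine key_false T v c hn hinj hv ?_ ⟨1, by omega, ?_⟩ E ?_ L ?_ ?_
  · intro p _
    simp only [c]; split_ifs <;> positivity
  · simp [c]
  · intro pq hpq
    simp only [E, Finset.mem_insert, Finset.mem_image, Finset.mem_range, not_or, not_exists, not_and,
      Prod.ext_iff] at hpq ⊢
    rcases hpq with h | h | ⟨p, hp, h⟩ <;>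
      (refine ⟨by omega, by omega, by omega, by omega, by omega, fun _ _ => by omega⟩)
  · intro pq hpq
    simp only [E, Finset.mem_insert, Finset.mem_image, Finset.mem_range] at hpq
    rcases hpq with rfl | rfl | ⟨p, hp, rfl⟩
    · simpa [L] using one_le_e T (hne _ _ (by omega) (by omega) (by omega)) hq
    · simpa [L] using one_le_e T (hne _ _ (by omega) (by omega) (by omega)) hr
    · rcases Nat.eq_zero_or_pos p with rfl | hp0
      · simpa [L] using sqrt_two_le_e T (hne _ _ (by omega) (by omega) (by omega))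
          (hchain 0 (by omega)) hw
      · simpa [L, hp0.ne'] using one_le_e T (hne _ _ (by omega) (by omega) (by omega)) (hchain p hp)
  · have h1 : (j + 1, j + 2) ∉ insert (j + 1, j + 3) ((range (j + 1)).image fun p => (p, p + 1)) := by
      simp
    have h2 : (j + 1, j + 3) ∉ (range (j + 1)).image fun p => (p, p + 1) := by simp
    rw [Finset.sum_insert h1, Finset.sum_insert h2,
      Finset.sum_image (fun a _ b _ h => (Prod.ext_iff.1 h).1),
      show j + 1 + 3 = j + 2 + 1 + 1 from rfl, Finset.sum_range_succ _ (j + 2 + 1),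
      Finset.sum_range_succ _ (j + 2), Finset.sum_range_succ' _ (j + 1)]
    have hj : ∀ x ∈ range j, x + 1 + 1 ≤ j + 1 ∧ x + 1 ≤ j + 1 := by
      intro x hx; simp at hx; omega
    have hs1 : ∑ x ∈ range (j + 1), c (x + 1) ^ 2 = (j + 1 : ℕ) * 4 := by
      rw [Finset.sum_congr rfl (fun x hx => ?_), Finset.sum_const, Finset.card_range, nsmul_eq_mul]
      simp at hx
      simp [c, hx]; norm_num
    have hs2 : ∑ x ∈ range j, L (x + 1, x + 1 + 1) * (c (x + 1) * c (x + 1 + 1)) = (j : ℕ) * 4 := by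
      rw [Finset.sum_congr rfl (fun x hx => ?_), Finset.sum_const, Finset.card_range, nsmul_eq_mul]
      obtain ⟨a, b⟩ := hj x hx
      simp [L, c, b, show x ≤ j from by omega, show x + 1 ≤ j from by omega]; norm_num
    simp only [] at hs1 hs2 ⊢
    rw [hs1, Finset.sum_range_succ' _ j, hs2]
    simp [L, c]
    ring_nf
    rw [Real.sq_sqrt (by norm_num : (0:ℝ) ≤ 2)]
    linarith

lemma row2 {i : Fin n} (hi : T.IsMinusTwo i) {S : Finset (Fin n)} (hS : i ∉ S) :
    ∑ j ∈ S, T.a i j * T.m j ≤ 2 * T.w i * T.m i := by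
  have := row_le T hS
  rw [hi.2] at this
  linarith

/-- one neighbour -/
lemma row2_one {i j : Fin n} (hi : T.IsMinusTwo i) (hij : i ≠ j) :
    T.a i j * T.m j ≤ 2 * T.w i * T.m i := by
  simpa using row2 T hi (S := {j}) (by simpa using hij)

lemma row2_two {i j k : Fin n} (hi : T.IsMinusTwo i) (hij : i ≠ j) (hik : i ≠ k) (hjk : j ≠ k) :
    T.a i j * T.m j + T.a i k * T.m k ≤ 2 * T.w i * T.m i := by
  simpa [hjk] using row2 T hi (S := {j, k}) (by simp [hij, hik])

lemma row2_three {i j k l : Fin n} (hi : T.IsMinusTwo i) (hij : i ≠ j) (hik : i ≠ k) (hil : i ≠ l)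
    (hjk : j ≠ k) (hjl : j ≠ l) (hkl : k ≠ l) :
    T.a i j * T.m j + T.a i k * T.m k + T.a i l * T.m l ≤ 2 * T.w i * T.m i := by
  simpa [hjk, hjl, hkl, add_assoc] using row2 T hi (S := {j, k, l}) (by simp [hij, hik, hil])

end Groth.Agent.H28NT
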