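import Groth.Agent.H28NT.Genus
import Mathlib.LinearAlgebra.Dimension.RankNullity
import Mathlib.LinearAlgebra.Dimension.Constructions
import Mathlib.LinearAlgebra.FreeModule.PID
import Mathlib.LinearAlgebra.Dimension.Localization

/-!
# Picard group of a numerical type and contraction of `(-1)`-indices
-/

namespace Groth.Agent.H28NT

open Finset Models Models.NumericalType

variable {n : ℕ} (T : NumericalType n)

lemma w_mul_picMatrix (i j : Fin n) : T.w i * T.picMatrix i j = T.a i j :=
  Int.mul_ediv_cancel' (T.w_dvd i j)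

lemma w_mul_picMulVec (x : Fin n → ℤ) (i : Fin n) :
    T.w i * T.picMatrix.mulVec x i = T.a.mulVec x i := by
  simp only [Matrix.mulVec, dotProduct, Finset.mul_sum, ← mul_assoc, w_mul_picMatrix]

/-- multiplication by the weights -/
def wMul : (Fin n → ℤ) →ₗ[ℤ] (Fin n → ℤ) where
  toFun x := fun i => T.w i * x i
  map_add' x y := by ext i; simp [mul_add]
  map_smul' c x := by ext i; simp; ring

/-- `Pic → Coker A` -/
def picToCoker : T.Pic →ₗ[ℤ] T.CokerA :=
  Submodule.mapQ _ _ (wMul T) (by
    rintro _ ⟨y, rfl⟩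
    exact ⟨y, funext fun i => (w_mul_picMulVec T y i).symm⟩)

lemma picToCoker_injective : Function.Injective (picToCoker T) := by
  rw [injective_iff_map_eq_zero]
  intro x
  obtain ⟨x, rfl⟩ := Submodule.Quotient.mk_surjective _ x
  intro h
  rw [picToCoker, Submodule.mapQ_apply, Submodule.Quotient.mk_eq_zero] at h
  obtain ⟨y, hy⟩ := h
  refine (Submodule.Quotient.mk_eq_zero _).2 ⟨y, funext fun i => mul_left_cancel₀ (T.w_pos i).ne' ?_⟩
  have h2 : T.a.mulVec y i = T.w i * x i := congrFun hy i
  rw [← h2]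
  exact w_mul_picMulVec T y i

lemma ker_picMatrix : ∀ x ∈ LinearMap.ker (Matrix.mulVecLin T.picMatrix), ∀ i j,
    (x i : ℝ) / T.m i = (x j : ℝ) / T.m j := by
  intro x hx i j
  have hA : ∀ i, ∑ j, (T.a i j : ℝ) * (x j : ℝ) = 0 := by
    intro i
    have h : T.a.mulVec x i = 0 := by
      rw [← w_mul_picMulVec]
      have := congrFun (LinearMap.mem_ker.1 hx) i
      simp only [Matrix.mulVecLin_apply] at this
      rw [this]; simp
    have h' : ∑ j, T.a i j * x j = 0 := h
    exact_mod_cast h'
  have hQ : Q T (fun i => (x i : ℝ)) = 0 := by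
    refine Finset.sum_eq_zero fun i _ => ?_
    calc ∑ j, (T.a i j : ℝ) * ((x i : ℝ) * x j) = (x i : ℝ) * ∑ j, (T.a i j : ℝ) * x j := by
          rw [Finset.mul_sum]; exact Finset.sum_congr rfl fun j _ => by ring
      _ = 0 := by rw [hA, mul_zero]
  obtain ⟨c, hc⟩ := prop_of_Q_eq_zero T _ hQ
  rw [hc i, hc j, mul_div_assoc, mul_div_assoc, div_self (mR_pos T i).ne', div_self (mR_pos T j).ne']

lemma finrank_pic : Module.finrank ℤ T.Pic = 1 := by
  let f := Matrix.mulVecLin T.picMatrix
  let i0 : Fin n := ⟨0, T.pos⟩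
  have h1 := (LinearMap.range f).finrank_quotient_add_finrank
  have h2 := (LinearMap.ker f).finrank_quotient_add_finrank
  rw [LinearEquiv.finrank_eq f.quotKerEquivRange] at h2
  have hinj : Function.Injective ((LinearMap.proj i0 : (Fin n → ℤ) →ₗ[ℤ] ℤ) ∘ₗ (LinearMap.ker f).subtype) := by
    rw [injective_iff_map_eq_zero]
    intro x hx
    have hx0 : (x : Fin n → ℤ) i0 = 0 := hx
    ext i
    have h := ker_picMatrix T _ x.2 i i0
    simp only [hx0, Int.cast_zero, zero_div, div_eq_zero_iff, (mR_pos T i).ne', or_false,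
      Int.cast_eq_zero] at h
    simpa using h
  have hle : Module.finrank ℤ (LinearMap.ker f) ≤ 1 := by
    simpa using LinearMap.finrank_le_finrank_of_injective hinj
  have hm : T.m ∈ LinearMap.ker f := by
    refine LinearMap.mem_ker.2 (funext fun i => mul_left_cancel₀ (T.w_pos i).ne' ?_)
    simp [f, w_mul_picMulVec, T.mulVec_m]
  have hpos : 0 < Module.finrank ℤ (LinearMap.ker f) := by
    refine Module.finrank_pos_iff.2 ⟨⟨⟨T.m, hm⟩, 0, fun h => ?_⟩⟩
    have := congrFun (congrArg Subtype.val h) i0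
    exact (T.m_pos i0).ne' this
  rw [Module.finrank_fin_fun] at h1 h2
  change Module.finrank ℤ ((Fin n → ℤ) ⧸ LinearMap.range f) = 1
  omega

/-- permutation of the indices -/
def permT (σ : Equiv.Perm (Fin n)) : NumericalType n where
  m i := T.m (σ i)
  a i j := T.a (σ i) (σ j)
  w i := T.w (σ i)
  g i := T.g (σ i)
  pos := T.pos
  m_pos i := T.m_pos _
  w_pos i := T.w_pos _
  g_nonneg i := T.g_nonneg _
  symm := Matrix.IsSymm.ext fun i j => (a_comm T (σ j) (σ i))
  offDiag_nonneg i j h := T.offDiag_nonneg _ _ fun e => h (σ.injective e)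
  connected I hI hI' := by
    obtain ⟨i, hi, j, hj, h⟩ := T.connected (I.map σ.toEmbedding) (hI.map) (fun e => hI' (by
      refine Finset.eq_univ_iff_forall.2 fun x => ?_
      have := Finset.eq_univ_iff_forall.1 e (σ x)
      simpa using this))
    obtain ⟨i, hi', rfl⟩ := Finset.mem_map.1 hi
    refine ⟨i, hi', σ.symm j, fun h' => hj (Finset.mem_map.2 ⟨_, h', by simp⟩), ?_⟩
    simpa using h
  mulVec_m := funext fun i => by
    simp only [Matrix.mulVec, dotProduct, Pi.zero_apply]
    exact (Equiv.sum_comp σ fun j => T.a (σ i) j * T.m j).trans (row_eq T (σ i))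
  w_dvd i j := T.w_dvd _ _

lemma genus_permT (σ : Equiv.Perm (Fin n)) : (permT T σ).genus = T.genus := by
  simp only [NumericalType.genus, permT]
  rw [Equiv.sum_comp σ fun i => T.m i * T.w i * (T.g i - 1), Equiv.sum_comp σ fun i => T.m i * T.a i i]

/-- the Picard group does not depend on the order of the indices -/
noncomputable def picPermT (σ : Equiv.Perm (Fin n)) : T.Pic ≃ₗ[ℤ] (permT T σ).Pic :=
  Submodule.Quotient.equiv _ _ (LinearEquiv.funCongrLeft ℤ ℤ σ) (by
    have hP : ∀ y i, (permT T σ).picMatrix.mulVec (fun i => y (σ i)) i = T.picMatrix.mulVec y (σ i) := by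
      intro y i
      exact Equiv.sum_comp σ fun j => T.picMatrix (σ i) j * y j
    ext x
    simp only [Submodule.mem_map, LinearMap.mem_range, Matrix.mulVecLin_apply]
    constructor
    · rintro ⟨_, ⟨y, rfl⟩, rfl⟩
      exact ⟨fun i => y (σ i), funext fun i => hP y i⟩
    · rintro ⟨y, rfl⟩
      refine ⟨_, ⟨fun i => y (σ.symm i), rfl⟩, funext fun i => ?_⟩
      have := hP (fun i => y (σ.symm i)) i
      simp only [Equiv.symm_apply_apply] at this
      exact this.symm)

section Contraction

variable (T : NumericalType (n + 1))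

/-- `a i l / w l` -/
def bb (i : Fin n) : ℤ := T.a i.castSucc (Fin.last n) / T.w (Fin.last n)

/-- `a i l / w i` -/
def cc (i : Fin n) : ℤ := T.a i.castSucc (Fin.last n) / T.w i.castSucc

variable {T}

lemma u_mul_bb (i : Fin n) : T.w (Fin.last n) * bb T i = T.a i.castSucc (Fin.last n) := by
  refine Int.mul_ediv_cancel' ?_
  rw [a_comm T]
  exact T.w_dvd _ _

lemma w_mul_cc (i : Fin n) : T.w i.castSucc * cc T i = T.a i.castSucc (Fin.last n) :=
  Int.mul_ediv_cancel' (T.w_dvd _ _)

lemma bb_nonneg (i : Fin n) : 0 ≤ bb T i :=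
  Int.ediv_nonneg (T.offDiag_nonneg _ _ (Fin.castSucc_lt_last i).ne) (T.w_pos _).le

lemma cc_nonneg (i : Fin n) : 0 ≤ cc T i :=
  Int.ediv_nonneg (T.offDiag_nonneg _ _ (Fin.castSucc_lt_last i).ne) (T.w_pos _).le

variable (T)

/-- halving condition -/
def halves (i : Fin n) : Prop := 2 ∣ bb T i ∧ ¬ 2 ∣ cc T i

instance (i : Fin n) : Decidable (halves T i) := inferInstanceAs (Decidable (_ ∧ _))

/-- the ratio `w i / w' i` -/
def rr (i : Fin n) : ℤ := if halves T i then 2 else 1

/-- the new weight -/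
def ww (i : Fin n) : ℤ := if halves T i then T.w i.castSucc / 2 else T.w i.castSucc

variable {T}

lemma rr_mul_ww (i : Fin n) : rr T i * ww T i = T.w i.castSucc := by
  rw [rr, ww]
  split_ifs with h
  · refine Int.mul_ediv_cancel' ?_
    have h1 : (2 : ℤ) ∣ T.w i.castSucc * cc T i := by
      rw [w_mul_cc, ← u_mul_bb]; exact h.1.mul_left _
    exact ((Int.even_mul.1 (even_iff_two_dvd.2 h1)).imp even_iff_two_dvd.1 even_iff_two_dvd.1).resolve_right h.2
  · exact one_mul _

lemma ww_pos (i : Fin n) : 0 < ww T i := by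
  have h := rr_mul_ww (T := T) i
  have := T.w_pos i.castSucc
  rw [rr] at h
  split_ifs at h <;> omega

lemma div_ww (i : Fin n) : T.w i.castSucc / ww T i = rr T i := by
  rw [← rr_mul_ww, Int.mul_ediv_cancel _ (ww_pos i).ne']

lemma two_dvd_key (i : Fin n) : 2 ∣ rr T i * cc T i * (bb T i - 1) := by
  rw [rr]
  split_ifs with h
  · exact ((dvd_mul_right 2 (cc T i))).mul_right _
  · rw [one_mul]
    by_cases hb : 2 ∣ bb T i
    · exact (not_and_not_right.1 h hb).mul_right _
    · exact (show (2 : ℤ) ∣ bb T i - 1 by omega).mul_left _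

variable (T)

/-- contracted matrix -/
def aa (i j : Fin n) : ℤ :=
  T.a i.castSucc j.castSucc + T.w (Fin.last n) * bb T i * bb T j

/-- contracted genus -/
def gg (i : Fin n) : ℤ :=
  rr T i * (T.g i.castSucc - 1) + 1 + rr T i * cc T i * (bb T i - 1) / 2

variable {T} (h : T.IsMinusOne (Fin.last n))
include h

lemma aa_eq (i j : Fin n) :
    T.a i.castSucc j.castSucc - T.a i.castSucc (Fin.last n) * T.a j.castSucc (Fin.last n) /
      T.a (Fin.last n) (Fin.last n) = aa T i j := by
  rw [h.2, Int.ediv_neg, ← u_mul_bb i, ← u_mul_bb j, mul_assoc,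
    Int.mul_ediv_cancel_left _ (T.w_pos _).ne', aa]
  ring

omit h in
lemma gg_eq (i : Fin n) : T.w i.castSucc / ww T i * (T.g i.castSucc - 1) + 1 +
    (T.a i.castSucc (Fin.last n) ^ 2 - T.w (Fin.last n) * T.a i.castSucc (Fin.last n)) /
      (2 * ww T i * T.w (Fin.last n)) = gg T i := by
  rw [div_ww, gg]
  congr 1
  have h1 : T.a i.castSucc (Fin.last n) ^ 2 - T.w (Fin.last n) * T.a i.castSucc (Fin.last n) =
      (rr T i * cc T i * (bb T i - 1)) * (ww T i * T.w (Fin.last n)) := by
    calc T.a i.castSucc (Fin.last n) ^ 2 - T.w (Fin.last n) * T.a i.castSucc (Fin.last n)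
        = (T.a i.castSucc (Fin.last n) * T.w (Fin.last n)) * (bb T i - 1) := by
          rw [← u_mul_bb i]; ring
      _ = _ := by rw [← w_mul_cc i, ← rr_mul_ww i]; ring
  rw [h1, mul_assoc (2 : ℤ), Int.mul_ediv_mul_of_pos_left _ _ (mul_pos (ww_pos i) (T.w_pos _))]

omit h in
lemma gg_nonneg (i : Fin n) : 0 ≤ gg T i := by
  have hc := cc_nonneg (T := T) i
  have hb := bb_nonneg (T := T) i
  rw [gg, rr]
  split_ifs with h2
  · rw [mul_assoc, Int.mul_ediv_cancel_left _ two_ne_zero]
    have hc1 : 1 ≤ cc T i := by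
      by_contra hc'
      exact h2.2 ⟨0, by omega⟩
    have hb2 : 2 ≤ bb T i := by
      obtain ⟨k, hk⟩ := h2.1
      by_contra hb'
      have hb0 : bb T i = 0 := by omega
      have := u_mul_bb (T := T) i
      rw [hb0, mul_zero, ← w_mul_cc] at this
      have := mul_pos (T.w_pos i.castSucc) (show 0 < cc T i by omega)
      omega
    have := mul_pos (show 0 < cc T i by omega) (show 0 < bb T i - 1 by omega)
    have := T.g_nonneg i.castSucc
    omega
  · have hge : 0 ≤ cc T i * (bb T i - 1) := by
      rcases eq_or_ne (bb T i) 0 with hb0 | hb0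
      · have := u_mul_bb (T := T) i
        rw [hb0, mul_zero, ← w_mul_cc] at this
        rw [show cc T i = 0 from (mul_eq_zero.1 this.symm).resolve_left (T.w_pos _).ne']
        simp
      · exact mul_nonneg hc (by omega)
    have := Int.ediv_nonneg (show 0 ≤ 1 * cc T i * (bb T i - 1) by rw [one_mul]; exact hge) two_pos.le
    have := T.g_nonneg i.castSucc
    omega

lemma row_last_bb : ∑ j : Fin n, bb T j * T.m j.castSucc = T.m (Fin.last n) := by
  have := row_eq T (Fin.last n)
  rw [Fin.sum_univ_castSucc, h.2] at this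
  refine mul_left_cancel₀ (T.w_pos (Fin.last n)).ne' ?_
  rw [Finset.mul_sum]
  simp only [← mul_assoc, u_mul_bb]
  rw [Finset.sum_congr rfl fun (j : Fin n) _ => by rw [a_comm T j.castSucc (Fin.last n)]]
  linarith

lemma row_aa (i : Fin n) : ∑ j, aa T i j * T.m j.castSucc = 0 := by
  simp only [aa, add_mul, Finset.sum_add_distrib, mul_assoc, ← Finset.mul_sum, row_last_bb h]
  have := row_eq T i.castSucc
  rw [Fin.sum_univ_castSucc, ← u_mul_bb i, mul_assoc] at this
  exact this

lemma pos_n : 0 < n := by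
  by_contra hn
  obtain rfl : n = 0 := by omega
  have h1 := row_eq T (Fin.last 0)
  have h2 : T.a (Fin.last 0) (Fin.last 0) * T.m (Fin.last 0) = 0 := by simpa using h1
  rw [h.2] at h2
  have := mul_pos (T.w_pos (Fin.last 0)) (T.m_pos (Fin.last 0))
  linarith

/-- the contraction -/
def contract : NumericalType n where
  m i := T.m i.castSucc
  a i j := aa T i j
  w i := ww T i
  g i := gg T i
  pos := pos_n h
  m_pos i := T.m_pos _
  w_pos i := ww_pos i
  g_nonneg i := gg_nonneg i
  symm := Matrix.IsSymm.ext fun i j => by rw [aa, aa, a_comm T j.castSucc]; ring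
  offDiag_nonneg i j hij := add_nonneg
    (T.offDiag_nonneg _ _ fun e => hij (Fin.castSucc_injective n e))
    (mul_nonneg (mul_nonneg (T.w_pos _).le (bb_nonneg i)) (bb_nonneg j))
  connected I hI hI' := by
    classical
    by_contra hne
    push_neg at hne
    have hz : ∀ i ∈ I, ∀ j ∉ I, T.a i.castSucc j.castSucc = 0 ∧ (bb T i = 0 ∨ bb T j = 0) := by
      intro i hi j hj
      have h0 : aa T i j = 0 := hne i hi j hj
      have h1 := T.offDiag_nonneg i.castSucc j.castSucc fun e => hj (Fin.castSucc_injective n e ▸ hi)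
      have h2 := mul_nonneg (mul_nonneg (T.w_pos (Fin.last n)).le (bb_nonneg (T := T) i)) (bb_nonneg (T := T) j)
      rw [aa] at h0
      refine ⟨by omega, ?_⟩
      have h3 : T.w (Fin.last n) * bb T i * bb T j = 0 := by omega
      simpa [(T.w_pos (Fin.last n)).ne'] using h3
    have hl : ∀ i : Fin n, bb T i = 0 → T.a i.castSucc (Fin.last n) = 0 := fun i hi => by
      rw [← u_mul_bb, hi, mul_zero]
    by_cases hb : ∀ i ∈ I, bb T i = 0
    · obtain ⟨p, hp, q, hq, hpq⟩ := T.connected (I.map Fin.castSuccEmb) hI.map (fun e => by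
        have := Finset.eq_univ_iff_forall.1 e (Fin.last n)
        simp only [Finset.mem_map, Fin.coe_castSuccEmb] at this
        obtain ⟨x, -, hx⟩ := this
        exact (Fin.castSucc_lt_last x).ne hx)
      obtain ⟨i, hi, rfl⟩ := Finset.mem_map.1 hp
      refine hpq ?_
      induction q using Fin.lastCases with
      | last => exact hl i (hb i hi)
      | cast j => exact (hz i hi j fun hj => hq (Finset.mem_map.2 ⟨j, hj, rfl⟩)).1
    · push_neg at hb
      obtain ⟨i0, hi0, hb0⟩ := hb
      obtain ⟨p, hp, q, hq, hpq⟩ := T.connected (insert (Fin.last n) (I.map Fin.castSuccEmb))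
        ⟨_, Finset.mem_insert_self _ _⟩ (fun e => hI' (Finset.eq_univ_iff_forall.2 fun x => by
          have := Finset.eq_univ_iff_forall.1 e x.castSucc
          simpa [(Fin.castSucc_lt_last x).ne] using this))
      refine hpq ?_
      induction q using Fin.lastCases with
      | last => exact absurd (Finset.mem_insert_self _ _) hq
      | cast j =>
        have hj : j ∉ I := fun hj => hq (Finset.mem_insert_of_mem (Finset.mem_map.2 ⟨j, hj, rfl⟩))
        rcases Finset.mem_insert.1 hp with rfl | hp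
        · rw [a_comm T]
          exact hl j ((hz i0 hi0 j hj).2.resolve_left hb0)
        · obtain ⟨i, hi, rfl⟩ := Finset.mem_map.1 hp
          exact (hz i hi j hj).1
  mulVec_m := funext fun i => row_aa h i
  w_dvd i j := by
    have hdvd : ww T i ∣ T.w i.castSucc := ⟨rr T i, by rw [mul_comm]; exact (rr_mul_ww i).symm⟩
    exact hdvd.trans (dvd_add (T.w_dvd _ _) (Dvd.dvd.mul_right (by rw [u_mul_bb]; exact T.w_dvd _ _) _))

lemma isContraction_contract : T.IsContraction (contract h) :=
  ⟨fun _ => rfl, fun i j => (aa_eq h i j).symm, fun i => by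
    show ww T i = _
    rw [ww]
    rfl, fun i => (gg_eq i).symm⟩

lemma w_of_contraction {T' : NumericalType n} (hT' : T.IsContraction T') (i : Fin n) :
    T'.w i = ww T i := by
  rw [hT'.2.2.1 i, ww]
  rfl

lemma a_of_contraction {T' : NumericalType n} (hT' : T.IsContraction T') (i j : Fin n) :
    T'.a i j = aa T i j := (hT'.2.1 i j).trans (aa_eq h i j)

lemma genus_of_contraction {T' : NumericalType n} (hT' : T.IsContraction T') :
    T'.genus = T.genus := by
  have key : ∀ i : Fin n, ctr T' i =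
      ctr T i.castSucc - T.w (Fin.last n) * (bb T i * T.m i.castSucc) := by
    intro i
    have hg : T'.g i = gg T i := by
      rw [hT'.2.2.2 i, w_of_contraction h hT' i, gg_eq]
    rw [ctr, ctr, hT'.1 i, w_of_contraction h hT', hg, a_of_contraction h hT']
    have h2 : 2 * (rr T i * cc T i * (bb T i - 1) / 2) = rr T i * cc T i * (bb T i - 1) :=
      Int.mul_ediv_cancel' (two_dvd_key i)
    have h3 := rr_mul_ww (T := T) i
    have h4 := w_mul_cc (T := T) i
    rw [← u_mul_bb] at h4
    rw [gg, aa]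
    linear_combination (T.m i.castSucc * ww T i) * h2 +
      (T.m i.castSucc * (2 * (T.g i.castSucc - 1) + cc T i * (bb T i - 1))) * h3 +
      (T.m i.castSucc * (bb T i - 1)) * h4
  have h1 := two_genus T
  have h2 := two_genus T'
  rw [Finset.sum_congr rfl fun i _ => key i, Finset.sum_sub_distrib, ← Finset.mul_sum,
    row_last_bb h] at h2
  rw [Fin.sum_univ_castSucc, show ctr T (Fin.last n) = -(T.w (Fin.last n) * T.m (Fin.last n)) by
    rw [ctr, h.1, h.2]; ring] at h1
  linarith

end Contraction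

end Groth.Agent.H28NT
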