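import Groth.Agent.H28NT.Pic

/-!
# The Picard group under contraction
-/

namespace Groth.Agent.H28NT

open Finset Models Models.NumericalType

variable {n : ℕ} (T : NumericalType (n + 1))

/-- the comparison map on `ℤ^n` -/
def contrMap : (Fin (n + 1) → ℤ) →ₗ[ℤ] (Fin n → ℤ) where
  toFun x := fun i => rr T i * (x i.castSucc + cc T i * x (Fin.last n))
  map_add' x y := by ext i; simp; ring
  map_smul' c x := by ext i; simp; ring

variable {T} (h : T.IsMinusOne (Fin.last n)) {T' : NumericalType n} (hT' : T.IsContraction T')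
include h hT'

lemma ww_mul_contrMap (x : Fin (n + 1) → ℤ) (i : Fin n) :
    T'.w i * contrMap T x i =
      T.w i.castSucc * x i.castSucc + bb T i * (T.w (Fin.last n) * x (Fin.last n)) := by
  have h1 := w_mul_cc (T := T) i
  rw [← u_mul_bb] at h1
  show T'.w i * (rr T i * (x i.castSucc + cc T i * x (Fin.last n))) = _
  rw [w_of_contraction h hT', ← mul_assoc, mul_comm (ww T i), rr_mul_ww]
  linear_combination x (Fin.last n) * h1

lemma mulVec_last (y : Fin (n + 1) → ℤ) : T.a.mulVec y (Fin.last n) =
    T.w (Fin.last n) * (∑ j : Fin n, bb T j * y j.castSucc) - T.w (Fin.last n) * y (Fin.last n) := by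
  show ∑ j, T.a (Fin.last n) j * y j = _
  rw [Fin.sum_univ_castSucc, h.2, Finset.mul_sum, neg_mul, ← sub_eq_add_neg]
  refine congrArg (· - _) (Finset.sum_congr rfl fun j _ => ?_)
  rw [a_comm T (Fin.last n), ← u_mul_bb j]; ring

lemma elim_last (y : Fin (n + 1) → ℤ) (i : Fin n) :
    T.a.mulVec y i.castSucc + bb T i * T.a.mulVec y (Fin.last n) =
      T'.a.mulVec (fun j => y j.castSucc) i := by
  rw [mulVec_last h hT']
  show ∑ j, T.a i.castSucc j * y j + _ = ∑ j, T'.a i j * y j.castSucc
  rw [Fin.sum_univ_castSucc, ← u_mul_bb i]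
  simp only [a_of_contraction h hT', aa, add_mul, Finset.sum_add_distrib, mul_assoc, ← Finset.mul_sum]
  ring

lemma contrMap_range :
    LinearMap.range (Matrix.mulVecLin T.picMatrix) ≤
      (LinearMap.range (Matrix.mulVecLin T'.picMatrix)).comap (contrMap T) := by
  rintro _ ⟨y, rfl⟩
  refine ⟨fun j => y j.castSucc, funext fun i => mul_left_cancel₀ (T'.w_pos i).ne' ?_⟩
  rw [ww_mul_contrMap h hT']
  simp only [Matrix.mulVecLin_apply, w_mul_picMulVec, elim_last h hT']

/-- `Pic T → Pic T'` -/
def picContr : T.Pic →ₗ[ℤ] T'.Pic := Submodule.mapQ _ _ (contrMap T) (contrMap_range h hT')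

lemma picContr_injective : Function.Injective (picContr h hT') := by
  rw [injective_iff_map_eq_zero]
  intro x
  obtain ⟨x, rfl⟩ := Submodule.Quotient.mk_surjective _ x
  intro hx
  rw [picContr, Submodule.mapQ_apply, Submodule.Quotient.mk_eq_zero] at hx
  obtain ⟨y', hy⟩ := hx
  simp only [Matrix.mulVecLin_apply] at hy
  let y : Fin (n + 1) → ℤ :=
    Fin.lastCases ((∑ j, bb T j * y' j) - x (Fin.last n)) y'
  have hy1 : (fun j => y j.castSucc) = y' := funext fun j => by simp [y]
  have hl : T.a.mulVec y (Fin.last n) = T.w (Fin.last n) * x (Fin.last n) := by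
    rw [mulVec_last h hT']
    simp only [y, Fin.lastCases_last, Fin.lastCases_castSucc]
    ring
  refine (Submodule.Quotient.mk_eq_zero _).2 ⟨y, funext fun k => mul_left_cancel₀ (T.w_pos k).ne' ?_⟩
  rw [Matrix.mulVecLin_apply, w_mul_picMulVec]
  induction k using Fin.lastCases with
  | last => exact hl
  | cast i =>
    have he := elim_last h hT' y i
    rw [hy1, ← w_mul_picMulVec T' y' i, hy, ww_mul_contrMap h hT', hl] at he
    linarith

lemma two_mul_mem (y : T'.Pic) : ∃ x : T.Pic, 2 • y = picContr h hT' x := by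
  obtain ⟨y, rfl⟩ := Submodule.Quotient.mk_surjective _ y
  let x : Fin (n + 1) → ℤ := Fin.lastCases 0 fun i => if halves T i then y i else 2 * y i
  refine ⟨Submodule.Quotient.mk x, ?_⟩
  rw [picContr, Submodule.mapQ_apply, ← Submodule.Quotient.mk_smul]
  congr 1
  funext i
  show 2 • y i = rr T i * (x i.castSucc + cc T i * x (Fin.last n))
  simp only [x, Fin.lastCases_last, Fin.lastCases_castSucc, mul_zero, add_zero, rr]
  split_ifs <;> simp

omit h hT' in
/-- a non-minimal type reduces to a smaller one with the same genus and larger Picard group -/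
theorem exists_reduction (T : NumericalType (n + 1)) (hmin : ¬ T.IsMinimal) :
    ∃ (T' : NumericalType n) (f : T.Pic →ₗ[ℤ] T'.Pic), T'.genus = T.genus ∧ Function.Injective f := by
  obtain ⟨i, hi⟩ := not_forall_not.1 hmin
  let σ : Equiv.Perm (Fin (n + 1)) := Equiv.swap i (Fin.last n)
  have hl : (permT T σ).IsMinusOne (Fin.last n) := by
    have : σ (Fin.last n) = i := Equiv.swap_apply_right _ _
    simpa [NumericalType.IsMinusOne, permT, this] using hi
  refine ⟨contract hl, (picContr hl (isContraction_contract hl)) ∘ₗ (picPermT T σ).toLinearMap,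
    (genus_of_contraction hl (isContraction_contract hl)).trans (genus_permT T σ),
    (picContr_injective hl (isContraction_contract hl)).comp (picPermT T σ).injective⟩

omit h hT' in
lemma pic_equiv_int_of_one (T : NumericalType 1) : Nonempty (T.Pic ≃ₗ[ℤ] ℤ) := by
  have h0 : T.picMatrix = 0 := by
    ext i j
    obtain rfl : i = 0 := Subsingleton.elim _ _
    obtain rfl : j = 0 := Subsingleton.elim _ _
    simp [NumericalType.picMatrix, (single T).1]
  refine ⟨(Submodule.quotEquivOfEqBot _ ?_).trans (LinearEquiv.funUnique (Fin 1) ℤ ℤ)⟩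
  rw [h0, Matrix.mulVecLin_zero, LinearMap.range_zero]

omit h hT' in
theorem pic_equiv_int : ∀ {n : ℕ} (T : NumericalType n), T.genus ≤ 0 → Nonempty (T.Pic ≃ₗ[ℤ] ℤ) := by
  intro n
  induction n with
  | zero => exact fun T => absurd T.pos (lt_irrefl 0)
  | succ n ih =>
    intro T hg
    rcases Nat.eq_zero_or_pos n with rfl | hn
    · exact pic_equiv_int_of_one T
    obtain ⟨T', f, hgen, hf⟩ := exists_reduction T (fun hmin => by
      have := one_le_genus T (by omega) hmin; omega)
    obtain ⟨e⟩ := ih T' (hgen.trans_le hg)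
    have hinj : Function.Injective (e.toLinearMap ∘ₗ f) := e.injective.comp hf
    haveI : Module.Free ℤ T.Pic := Module.Free.of_equiv (LinearEquiv.ofInjective _ hinj).symm
    exact ⟨(Module.finBasisOfFinrankEq ℤ T.Pic (finrank_pic T)).equivFun.trans
      (LinearEquiv.funUnique (Fin 1) ℤ ℤ)⟩

end Groth.Agent.H28NT
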