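-- Properness from properness of the closed fibre
import Groth.Agent.H28NT.GlobalFunctions
import Groth.Agent.LeadChow.Dense

/-!
# A model with a section and proper closed fibre is proper

Let `R` be a discrete valuation ring and `N` an integral scheme, separated and of finite type over
`R`, with a section through whose generic point the local ring is normal.  If the closed fibre of
`N` is proper, then `N` is proper over `R` (Chow's lemma and Zariski connectedness).
-/

set_option autoImplicit false
set_option linter.style.haveILetI false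
universe u

open AlgebraicGeometry CategoryTheory CategoryTheory.Limits TopologicalSpace Opposite IsLocalRing

namespace Groth.Agent.H28NT

/-- The structure homomorphism `R → K(X)`. -/
noncomputable def toFunField {R : Type u} [CommRing R] {X : Scheme.{u}} [IsIntegral X]
    (p : X ⟶ Spec (CommRingCat.of R)) : R →+* X.functionField :=
  (X.presheaf.germ ⊤ (genericPoint X) trivial).hom.comp (show R →+* Γ(X, ⊤) from Coh.toGlobal p)

theorem toGlobal_comp {R : Type u} [CommRing R] {X Y : Scheme.{u}} (g : X ⟶ Y)
    (p : Y ⟶ Spec (CommRingCat.of R)) (r : R) :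
    g.appTop (Coh.toGlobal p r : Γ(Y, ⊤)) = (Coh.toGlobal (g ≫ p) r : Γ(X, ⊤)) := by
  show g.appTop (p.appTop _) = (g ≫ p).appTop _
  rw [Scheme.Hom.comp_appTop]
  rfl

variable {R : Type u} [CommRing R] [IsDomain R] [IsDiscreteValuationRing R]

/-- A rational function that is integral over `R` comes from `R`, in the presence of a section
with normal local ring at its generic point. -/
theorem exists_eq_toFunField {N : Scheme.{u}} [IsIntegral N] (p : N ⟶ Spec (CommRingCat.of R))
    (σ : Spec (CommRingCat.of (FractionRing R)) ⟶ N)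
    (hσ : σ ≫ p = Spec.map (CommRingCat.ofHom (algebraMap R (FractionRing R))))
    [IsIntegrallyClosed (N.presheaf.stalk (σ.base (closedPoint (FractionRing R))))]
    {c : N.functionField} (hc : (toFunField p).IsIntegralElem c) :
    ∃ r : R, c = toFunField p r := by
  let K := FractionRing R
  let x := σ.base (closedPoint K)
  let A := N.presheaf.stalk x
  haveI : IsDomain A := inferInstance
  let ρ : R →+* A := (N.presheaf.germ ⊤ x trivial).hom.comp (show R →+* Γ(N, ⊤) from Coh.toGlobal p)
  let ev : A →+* K := (Scheme.stalkClosedPointTo σ).hom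
  have hev : ∀ r : R, ev (ρ r) = algebraMap R K r := by
    intro r
    have h0 : (Spec.map (CommRingCat.ofHom (algebraMap R K))).appTop
        ((Scheme.ΓSpecIso (CommRingCat.of R)).inv r) =
        (Scheme.ΓSpecIso (CommRingCat.of K)).inv (algebraMap R K r) :=
      (ConcreteCategory.congr_hom
        (Scheme.ΓSpecIso_inv_naturality (CommRingCat.ofHom (algebraMap R K))) r).symm
    have h1 : σ.appTop (Coh.toGlobal p r : Γ(N, ⊤)) =
        (Scheme.ΓSpecIso (CommRingCat.of K)).inv (algebraMap R K r) := by
      rw [toGlobal_comp, hσ]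
      exact h0
    have h2 := ConcreteCategory.congr_hom (Scheme.germ_stalkClosedPointTo σ ⊤ trivial)
      (Coh.toGlobal p r : Γ(N, ⊤))
    refine h2.trans ?_
    show (Scheme.ΓSpecIso (CommRingCat.of K)).hom
      ((Spec (CommRingCat.of K)).presheaf.map _ (σ.appTop (Coh.toGlobal p r : Γ(N, ⊤)))) = _
    rw [h1]
    refine Eq.trans ?_ (ConcreteCategory.congr_hom (Scheme.ΓSpecIso (CommRingCat.of K)).inv_hom_id (algebraMap R K r))
    exact congrArg _ (ConcreteCategory.congr_hom
      ((Spec (CommRingCat.of K)).presheaf.map_id (op ⊤)) _)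
  have hρ : ∀ r, algebraMap A N.functionField (ρ r) = toFunField p r := fun r => by
    show (N.presheaf.germ ⊤ x trivial ≫ N.presheaf.stalkSpecializes _) (Coh.toGlobal p r : Γ(N, ⊤)) = _
    exact ConcreteCategory.congr_hom
      (N.presheaf.germ_stalkSpecializes (U := ⊤) (y := x) trivial ((genericPoint_spec N).specializes trivial))
      (Coh.toGlobal p r : Γ(N, ⊤))
  obtain ⟨P, hPm, hP⟩ := hc
  have hcomp : (algebraMap A N.functionField).comp ρ = toFunField p := RingHom.ext hρ
  have hint : IsIntegral A c := ⟨P.map ρ, hPm.map ρ, by rw [Polynomial.eval₂_map, hcomp]; exact hP⟩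
  obtain ⟨d, rfl⟩ := IsIntegrallyClosed.isIntegral_iff.1 hint
  have hevd : IsIntegral R (ev d) := by
    refine ⟨P, hPm, ?_⟩
    have h1 : Polynomial.eval₂ ρ d P = 0 := by
      refine IsFractionRing.injective A N.functionField ?_
      rw [map_zero, Polynomial.hom_eval₂, hcomp]
      exact hP
    rw [← (RingHom.ext hev : ev.comp ρ = algebraMap R K), ← Polynomial.hom_eval₂, h1, map_zero]
  obtain ⟨r, hr⟩ := IsIntegrallyClosed.isIntegral_iff.1 hevd
  refine ⟨r, ?_⟩
  by_contra hne
  have hker : (algebraMap A N.functionField (d - ρ r)) ≠ 0 := by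
    rwa [map_sub, hρ, sub_ne_zero]
  -- an algebraic non-zero element is invertible in the fraction field of `R`
  let e := d - ρ r
  have he : Polynomial.eval₂ ρ e (P.comp (Polynomial.X + Polynomial.C r)) = 0 := by
    rw [Polynomial.eval₂_comp]
    refine IsFractionRing.injective A N.functionField ?_
    rw [map_zero, Polynomial.hom_eval₂, hcomp]
    simpa [e] using hP
  have hne0 : P.comp (Polynomial.X + Polynomial.C r) ≠ 0 :=
    (hPm.comp (Polynomial.monic_X_add_C r) (by rw [Polynomial.natDegree_X_add_C]; norm_num)).ne_zero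
  obtain ⟨Q, hQ, hQX⟩ := Polynomial.exists_eq_pow_rootMultiplicity_mul_and_not_dvd _ hne0 0
  rw [map_zero, sub_zero] at hQ hQX
  rw [hQ, Polynomial.eval₂_mul, Polynomial.eval₂_X_pow, mul_eq_zero] at he
  have he0 : e ≠ 0 := fun h => hker (by
    show algebraMap A N.functionField e = 0
    rw [h, map_zero])
  have hQe := he.resolve_left (pow_ne_zero _ he0)
  have h := congrArg ev hQe
  rw [map_zero, Polynomial.hom_eval₂, (RingHom.ext hev : ev.comp ρ = algebraMap R K),
    show ev e = 0 from by rw [map_sub, hev, hr, sub_self], Polynomial.eval₂_at_zero,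
    ← map_zero (algebraMap R K)] at h
  exact hQX (Polynomial.X_dvd_iff.2 (IsFractionRing.injective R K h))

/-- If the closed fibre is proper, so is the scheme. -/
theorem isProper_of_isProper_closedFibre {N : Scheme.{u}} [IsIntegral N]
    (p : N ⟶ Spec (CommRingCat.of R)) [IsSeparated p] [LocallyOfFiniteType p] [QuasiCompact p]
    (σ : Spec (CommRingCat.of (FractionRing R)) ⟶ N)
    (hσ : σ ≫ p = Spec.map (CommRingCat.ofHom (algebraMap R (FractionRing R))))
    [IsIntegrallyClosed (N.presheaf.stalk (σ.base (closedPoint (FractionRing R))))]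
    (s : Spec (CommRingCat.of R))
    (hs : s = closedPoint R) (hne : s ∈ Set.range p.base)
    [IsProper (pullback.snd p (Spec.map (CommRingCat.ofHom (residue R))))] :
    IsProper p := by
  haveI : IsNoetherianRing R := inferInstance
  obtain ⟨n, X', π, j, hj, hjS, hπ, ⟨U, hU, hUd⟩, -, hπs, -, hred, hirr⟩ :=
    LeadChow.exists_chow_dense p (by rw [irreducibleComponents_eq_singleton]; exact Set.finite_singleton _)
  haveI := hj
  haveI := hπ
  haveI := hπs
  haveI : IsReduced X' := hred inferInstance
  haveI : IrreducibleSpace X' := hirr inferInstance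
  haveI : IsIntegral X' := isIntegral_of_irreducibleSpace_of_isReduced X'
  let toB := CohB1.ProjSpaceOver.toBase n (Spec (CommRingCat.of R))
  haveI : IsProper toB := H27Weil.isProper_toBase n _
  haveI : QuasiCompact (j ≫ toB) := by rw [hjS]; infer_instance
  haveI : QuasiCompact j := QuasiCompact.of_comp j toB
  let i := j.toImage
  let q := j.imageι ≫ toB
  haveI : IsProper q := inferInstance
  have hiq : i ≫ q = π ≫ p := by
    show j.toImage ≫ j.imageι ≫ toB = _
    rw [← Category.assoc, Scheme.Hom.toImage_imageι, hjS]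
  haveI : IsSchemeTheoreticallyDominant j.toImage := ⟨Groth.Agent.H17.ker_toImage j⟩
  haveI : IsReduced j.image := IsSchemeTheoreticallyDominant.isReduced j.toImage
  haveI : IrreducibleSpace j.image := by
    refine (irreducibleSpace_def _).2 ?_
    rw [Set.top_eq_univ, ← (Scheme.Hom.denseRange i).closure_eq, ← Set.image_univ]
    exact ((IrreducibleSpace.isIrreducible_univ X').image _ i.continuous.continuousOn).closure
  haveI : IsIntegral j.image := isIntegral_of_irreducibleSpace_of_isReduced j.image
  -- global functions on the closure come from `R`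
  have hsurj : Function.Surjective (Coh.toGlobal q) := by
    intro f
    obtain ⟨P, hPm, hP⟩ := (finite_toGlobal R q).to_isIntegral f
    haveI := hU
    let g : Γ(X', ⊤) := i.appTop f
    let k : (U : Scheme.{u}) ⟶ j.image := inv (π ∣_ U) ≫ (π ⁻¹ᵁ U).ι ≫ i
    have hkq : k ≫ q = U.ι ≫ p := by
      simp only [k, Category.assoc, hiq]
      rw [← morphismRestrict_ι_assoc, IsIso.inv_hom_id_assoc]
    have hUne : (U : Set N).Nonempty := by
      obtain ⟨x, hx⟩ := hUd.nonempty
      exact ⟨π.base x, hx⟩
    haveI : Nonempty U := let ⟨x, hx⟩ := hUne; ⟨⟨x, hx⟩⟩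
    haveI : Nonempty (U : Scheme.{u}) := ‹Nonempty U›
    let θ : Γ(U, ⊤) →+* N.functionField :=
      (N.germToFunctionField U).hom.comp U.topIso.hom.hom
    have hθ : ∀ r, θ (Coh.toGlobal (k ≫ q) r : Γ(U, ⊤)) = toFunField p r := by
      intro r
      rw [hkq, ← toGlobal_comp]
      show N.presheaf.germ U _ _ (U.topIso.hom (U.ι.appTop (Coh.toGlobal p r : Γ(N, ⊤)))) = _
      rw [Scheme.Opens.ι_appTop, Scheme.Opens.topIso_hom]
      exact ((TopCat.Presheaf.germ_res_apply N.presheaf _ _ _ _).trans
        (TopCat.Presheaf.germ_res_apply N.presheaf _ _ _ _) :)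
    have hc : (toFunField p).IsIntegralElem (θ (k.appTop f)) := by
      refine ⟨P, hPm, ?_⟩
      have h := congrArg (θ.comp k.appTop.hom) hP
      rw [map_zero] at h
      replace h := (Polynomial.hom_eval₂ P (show R →+* Γ(j.image, ⊤) from Coh.toGlobal q)
        (θ.comp k.appTop.hom) f).symm.trans h
      rw [← h]
      refine congrArg (fun ψ => Polynomial.eval₂ ψ (θ (k.appTop f)) P) (RingHom.ext fun r => ?_)
      show toFunField p r = θ (k.appTop (Coh.toGlobal q r : Γ(j.image, ⊤)))
      rw [toGlobal_comp, hθ]
    obtain ⟨r, hr⟩ := exists_eq_toFunField p σ hσ hc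
    refine ⟨r, ?_⟩
    have h2 : k.appTop ((Coh.toGlobal q r : Γ(j.image, ⊤)) - f) = 0 := by
      refine ((N.germToFunctionField_injective U).comp
        (ConcreteCategory.bijective_of_isIso U.topIso.hom).1 :) ?_
      show θ (k.appTop.hom ((show Γ(j.image, ⊤) from Coh.toGlobal q r) - (show Γ(j.image, ⊤) from f))) = θ 0
      refine (congrArg θ (k.appTop.hom.map_sub _ _)).trans ?_
      rw [map_sub, map_zero, sub_eq_zero]
      exact ((congrArg θ (toGlobal_comp k q r)).trans (hθ r)).trans hr.symm
    -- `k` is dominant into a reduced scheme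
    haveI : IsDominant k := by
      have h3 : IsDominant ((π ⁻¹ᵁ U).ι ≫ i) := by
        haveI : IsDominant (π ⁻¹ᵁ U).ι := ⟨by
          rw [DenseRange, Scheme.Opens.range_ι]; exact hUd⟩
        infer_instance
      haveI := h3
      infer_instance
    haveI : IsSchemeTheoreticallyDominant k := .of_isDominant _
    haveI : QuasiCompact k := by
      haveI : QuasiCompact (k ≫ q) := by
        rw [hkq]
        haveI : IsLocallyNoetherian N := LocallyOfFiniteType.isLocallyNoetherian p
        infer_instance
      exact QuasiCompact.of_comp k q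
    exact sub_eq_zero.1 ((k.app_injective ⊤) (h2.trans (map_zero _).symm))
  -- the closed fibre of the closure
  letI : j.image.Over (Spec (CommRingCat.of R)) := ⟨q⟩
  haveI : IsProper (j.image ↘ Spec (CommRingCat.of R)) := ‹IsProper q›
  have hpre : _root_.IsPreconnected (q.base ⁻¹' {s}) := hs ▸ isPreconnected_closedFibre hsurj
  haveI : IsClosedImmersion (Spec.map (CommRingCat.ofHom (residue R))) :=
    IsClosedImmersion.spec_of_surjective _ residue_surjective
  have hrange : Set.range (Spec.map (CommRingCat.ofHom (residue R))).base = {s} := by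
    refine Set.eq_singleton_iff_nonempty_unique_mem.2 ⟨Set.range_nonempty _, ?_⟩
    rintro _ ⟨w, rfl⟩
    rw [hs]
    refine PrimeSpectrum.ext ?_
    show Ideal.comap (residue R) w.asIdeal = maximalIdeal R
    rw [show w.asIdeal = ⊥ from (Ideal.eq_bot_or_top w.asIdeal).resolve_right w.isPrime.ne_top]
    exact ker_residue
  let a := pullback.fst (i ≫ q) (Spec.map (CommRingCat.ofHom (residue R)))
  have hclosed : IsClosed (Set.range (a ≫ i).base) := by
    haveI : IsProper ((a ≫ i) ≫ q) := by
      rw [Category.assoc, pullback.condition]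
      haveI : IsProper (pullback.snd (i ≫ q) (Spec.map (CommRingCat.ofHom (residue R)))) := by
        rw [hiq, ← pullbackRightPullbackFstIso_inv_snd_snd p (Spec.map (CommRingCat.ofHom (residue R))) π]
        infer_instance
      infer_instance
    haveI : IsProper (a ≫ i) := IsProper.of_comp (a ≫ i) q
    exact (a ≫ i).isClosedMap.isClosed_range
  have hafib : Set.range (a ≫ i).base = q.base ⁻¹' {s} ∩ Set.range i.base := by
    have hr : Set.range a.base = (i ≫ q).base ⁻¹' {s} := by
      show Set.range (pullback.fst (i ≫ q) (Spec.map (CommRingCat.ofHom (residue R)))).base = _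
      rw [Scheme.Pullback.range_fst, hrange]
    ext y
    constructor
    · rintro ⟨z, rfl⟩
      exact ⟨hr.le ⟨z, rfl⟩, a.base z, rfl⟩
    · rintro ⟨hy, z, rfl⟩
      obtain ⟨w, rfl⟩ := hr.ge hy
      exact ⟨w, rfl⟩
  have hopen : IsOpen (Set.range i.base) := i.isOpenEmbedding.isOpen_range
  have hne' : (q.base ⁻¹' {s} ∩ Set.range i.base).Nonempty := by
    obtain ⟨x, hx⟩ := hne
    obtain ⟨x', rfl⟩ := π.surjective x
    refine ⟨i.base x', ?_, x', rfl⟩
    show (i ≫ q).base x' = s
    rw [hiq]
    exact hx
  have hall : q.base ⁻¹' {s} ⊆ Set.range i.base := by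
    intro y hy
    by_contra hy'
    obtain ⟨z, hzF, hzi, hzc⟩ := hpre _ _ hopen hclosed.isOpen_compl
      (fun z hz => by
        by_cases h : z ∈ Set.range i.base
        · exact Or.inl h
        · exact Or.inr fun h' => h (hafib.le h').2)
      hne' ⟨y, hy, fun h' => hy' (hafib.le h').2⟩
    exact hzc (hafib.ge ⟨hzF, hzi⟩)
  have htop : Set.range i.base = Set.univ := by
    refine Set.eq_univ_of_forall fun y => ?_
    obtain ⟨z, hyz, hz : q.base z = closedPoint R⟩ := q.isClosedMap.specializingMap
      (IsLocalRing.specializes_closedPoint (q.base y))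
    exact hyz.mem_open hopen (hall (hz.trans hs.symm))
  haveI : IsIso i := by
    exact isIso_of_isOpenImmersion_of_opensRange_eq_top i (TopologicalSpace.Opens.ext htop)
  haveI : IsProper (π ≫ p) := hiq ▸ inferInstance
  haveI : UniversallyClosed p := UniversallyClosed.of_comp_surjective π p
  exact ⟨⟩

end Groth.Agent.H28NT
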