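import Groth.Prelude.Def_Models
import Mathlib.Analysis.Real.Sqrt
import Mathlib.Tactic.Linarith
import Mathlib.Tactic.Ring
import Mathlib.Tactic.FieldSimp
import Mathlib.Tactic.Positivity
import Mathlib.Tactic.NormNum

/-!
# The quadratic form of a numerical type
-/

namespace Groth.Agent.H28NT

open Finset Models Models.NumericalType

variable {n : ℕ} (T : NumericalType n)

lemma a_comm (i j : Fin n) : T.a i j = T.a j i := (T.symm.apply i j).symm

lemma row_eq (i : Fin n) : ∑ j, T.a i j * T.m j = 0 := congrFun T.mulVec_m i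

lemma row_erase (i : Fin n) : ∑ j ∈ univ.erase i, T.a i j * T.m j = -T.a i i * T.m i := by
  have h := row_eq T i
  rw [← Finset.add_sum_erase univ _ (mem_univ i)] at h
  linarith

lemma row_le {i : Fin n} {S : Finset (Fin n)} (hS : i ∉ S) :
    ∑ j ∈ S, T.a i j * T.m j ≤ -T.a i i * T.m i := by
  rw [← row_erase T i]
  refine Finset.sum_le_sum_of_subset_of_nonneg ?_ ?_
  · exact fun j hj => mem_erase.2 ⟨fun h => hS (h ▸ hj), mem_univ j⟩
  · intro j hj _
    exact mul_nonneg (T.offDiag_nonneg i j (mem_erase.1 hj).1.symm) (T.m_pos j).le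

lemma mR_pos (i : Fin n) : (0 : ℝ) < (T.m i : ℝ) := by exact_mod_cast T.m_pos i

lemma row_eqR (i : Fin n) : ∑ j, (T.a i j : ℝ) * (T.m j : ℝ) = 0 := by
  exact_mod_cast row_eq T i

/-- The quadratic form of the intersection matrix over `ℝ`. -/
noncomputable def Q (x : Fin n → ℝ) : ℝ := ∑ i, ∑ j, (T.a i j : ℝ) * (x i * x j)

lemma Q_identity (x : Fin n → ℝ) :
    ∑ i, ∑ j, (T.a i j : ℝ) * (T.m i * T.m j) * (x i / T.m i - x j / T.m j) ^ 2 = -2 * Q T x := by
  have h1 : ∀ i j : Fin n,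
      (T.a i j : ℝ) * (T.m i * T.m j) * (x i / T.m i - x j / T.m j) ^ 2 =
        (x i ^ 2 / T.m i) * ((T.a i j : ℝ) * T.m j) + (x j ^ 2 / T.m j) * ((T.a j i : ℝ) * T.m i)
          - 2 * ((T.a i j : ℝ) * (x i * x j)) := by
    intro i j
    have := (mR_pos T i).ne'
    have := (mR_pos T j).ne'
    rw [a_comm T j i]
    field_simp
    ring
  simp only [h1, Finset.sum_sub_distrib, Finset.sum_add_distrib]
  rw [Finset.sum_comm (f := fun i j => (x j ^ 2 / T.m j) * ((T.a j i : ℝ) * T.m i))]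
  simp only [← Finset.mul_sum, row_eqR, mul_zero, Finset.sum_const_zero, Q]
  ring

lemma term_nonneg (x : Fin n → ℝ) (i j : Fin n) :
    0 ≤ (T.a i j : ℝ) * (T.m i * T.m j) * (x i / T.m i - x j / T.m j) ^ 2 := by
  rcases eq_or_ne i j with rfl | h
  · simp
  · have : (0 : ℝ) ≤ (T.a i j : ℝ) := by exact_mod_cast T.offDiag_nonneg i j h
    have := mR_pos T i
    have := mR_pos T j
    positivity

lemma Q_nonpos (x : Fin n → ℝ) : Q T x ≤ 0 := by
  have h := Q_identity T x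
  have : (0 : ℝ) ≤ ∑ i, ∑ j, (T.a i j : ℝ) * (T.m i * T.m j) * (x i / T.m i - x j / T.m j) ^ 2 :=
    Finset.sum_nonneg fun i _ => Finset.sum_nonneg fun j _ => term_nonneg T x i j
  linarith

lemma prop_of_Q_eq_zero (x : Fin n → ℝ) (h : Q T x = 0) : ∃ c : ℝ, ∀ i, x i = c * T.m i := by
  classical
  have hz : ∀ i j, (T.a i j : ℝ) * (T.m i * T.m j) * (x i / T.m i - x j / T.m j) ^ 2 = 0 := by
    intro i j
    have hs := Q_identity T x
    rw [h, mul_zero] at hs
    have h1 := (Finset.sum_eq_zero_iff_of_nonneg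
      fun i _ => Finset.sum_nonneg fun j _ => term_nonneg T x i j).1 hs i (mem_univ i)
    exact (Finset.sum_eq_zero_iff_of_nonneg fun j _ => term_nonneg T x i j).1 h1 j (mem_univ j)
  let i0 : Fin n := ⟨0, T.pos⟩
  refine ⟨x i0 / T.m i0, fun i => ?_⟩
  let I : Finset (Fin n) := univ.filter fun k => x k / T.m k = x i0 / T.m i0
  by_cases hI : I = univ
  · have : i ∈ I := hI ▸ mem_univ i
    rw [← (mem_filter.1 this).2, div_mul_cancel₀ _ (mR_pos T i).ne']
  · obtain ⟨p, hp, q, hq, hpq⟩ := T.connected I ⟨i0, by simp [I]⟩ hI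
    exfalso
    apply hq
    have hpq' : (T.a p q : ℝ) ≠ 0 := by exact_mod_cast hpq
    have := hz p q
    simp only [mul_eq_zero, (mR_pos T p).ne', (mR_pos T q).ne', hpq', false_or, or_self, ne_eq,
      OfNat.ofNat_ne_zero, not_false_eq_true, pow_eq_zero_iff, sub_eq_zero] at this
    simp only [I, mem_filter, mem_univ, true_and] at hp ⊢
    rw [← this, hp]

/-- square roots of the weights -/
noncomputable def r (i : Fin n) : ℝ := Real.sqrt (T.w i)

lemma r_pos (i : Fin n) : 0 < r T i := Real.sqrt_pos.2 (by exact_mod_cast T.w_pos i)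

lemma r_sq (i : Fin n) : r T i ^ 2 = (T.w i : ℝ) :=
  Real.sq_sqrt (by exact_mod_cast (T.w_pos i).le)

/-- The normalised intersection numbers `a i j / √(w i w j)`. -/
noncomputable def e (i j : Fin n) : ℝ := (T.a i j : ℝ) / (r T i * r T j)

lemma e_comm (i j : Fin n) : e T i j = e T j i := by rw [e, e, a_comm T i j, mul_comm]

lemma e_nonneg {i j : Fin n} (h : i ≠ j) : 0 ≤ e T i j :=
  div_nonneg (by exact_mod_cast T.offDiag_nonneg i j h) (mul_pos (r_pos T i) (r_pos T j)).le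

lemma e_self {i : Fin n} (h : T.IsMinusTwo i) : e T i i = -2 := by
  have := r_pos T i
  have hs := r_sq T i
  rw [e, h.2]; push_cast
  rw [div_eq_iff (by positivity)]
  linear_combination (2 : ℝ) * hs

lemma e_eq_zero {i j : Fin n} : e T i j = 0 ↔ T.a i j = 0 := by
  simp [e, div_eq_zero_iff, (r_pos T i).ne', (r_pos T j).ne']

lemma e_sq (i j : Fin n) : e T i j ^ 2 * ((T.w i : ℝ) * T.w j) = (T.a i j : ℝ) ^ 2 := by
  rw [e, div_pow, mul_pow, r_sq, r_sq, div_mul_cancel₀]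
  have hi : (0 : ℝ) < T.w i := by exact_mod_cast T.w_pos i
  have hj : (0 : ℝ) < T.w j := by exact_mod_cast T.w_pos j
  positivity

lemma a_pos {i j : Fin n} (h : i ≠ j) (h0 : T.a i j ≠ 0) : 0 < T.a i j :=
  lt_of_le_of_ne (T.offDiag_nonneg i j h) h0.symm

lemma w_le_a {i j : Fin n} (h : i ≠ j) (h0 : T.a i j ≠ 0) : T.w i ≤ T.a i j ∧ T.w j ≤ T.a i j :=
  ⟨Int.le_of_dvd (a_pos T h h0) (T.w_dvd i j),
    Int.le_of_dvd (a_pos T h h0) (a_comm T i j ▸ T.w_dvd j i)⟩

lemma le_e_of_sq {i j : Fin n} (h : i ≠ j) {k : ℤ} (hk : k * (T.w i * T.w j) ≤ T.a i j ^ 2) :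
    Real.sqrt k ≤ e T i j := by
  rw [Real.sqrt_le_left (e_nonneg T h)]
  have hi : (0 : ℝ) < T.w i := by exact_mod_cast T.w_pos i
  have hj : (0 : ℝ) < T.w j := by exact_mod_cast T.w_pos j
  have h2 : (k : ℝ) * ((T.w i : ℝ) * T.w j) ≤ (T.a i j : ℝ) ^ 2 := by exact_mod_cast hk
  rw [← e_sq] at h2
  exact le_of_mul_le_mul_right h2 (by positivity)

lemma one_le_e {i j : Fin n} (h : i ≠ j) (h0 : T.a i j ≠ 0) : 1 ≤ e T i j := by
  obtain ⟨h1, h2⟩ := w_le_a T h h0
  have := T.w_pos i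
  have := T.w_pos j
  have := le_e_of_sq T h (k := 1) (by nlinarith)
  simpa using this

lemma sqrt_two_le_e {i j : Fin n} (h : i ≠ j) (h0 : T.a i j ≠ 0) (hw : T.w i ≠ T.w j) :
    Real.sqrt 2 ≤ e T i j := by
  obtain ⟨h1, h2⟩ := w_le_a T h h0
  have hi := T.w_pos i
  have hj := T.w_pos j
  obtain ⟨p, hp⟩ := T.w_dvd i j
  obtain ⟨q, hq⟩ : T.w j ∣ T.a i j := a_comm T i j ▸ T.w_dvd j i
  have hp1 : 1 ≤ p := by
    by_contra hlt
    nlinarith
  have hq1 : 1 ≤ q := by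
    by_contra hlt
    nlinarith
  have hpq : 2 ≤ p * q := by
    rcases lt_or_eq_of_le hp1 with hp2 | rfl
    · nlinarith
    rcases lt_or_eq_of_le hq1 with hq2 | rfl
    · nlinarith
    exact absurd (by linarith) hw
  have := le_e_of_sq T h (k := 2) (by
    have h3 : T.a i j ^ 2 = (p * q) * (T.w i * T.w j) := by
      calc T.a i j ^ 2 = T.a i j * T.a i j := sq _
        _ = (T.w i * p) * (T.w j * q) := congrArg₂ (· * ·) hp hq
        _ = _ := by ring
    rw [h3]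
    exact mul_le_mul_of_nonneg_right hpq (by positivity))
  simpa using this

section Key

variable {t : ℕ} (v : ℕ → Fin n) (c : ℕ → ℝ)

lemma Q_support (hinj : Set.InjOn v (Set.Iio t)) :
    ∃ x : Fin n → ℝ, (∀ p < t, x (v p) = c p / r T (v p)) ∧
      (∀ i, (∀ p < t, v p ≠ i) → x i = 0) ∧
      Q T x = ∑ p ∈ range t, ∑ q ∈ range t, e T (v p) (v q) * (c p * c q) := by
  classical
  let S := (range t).image v
  let x : Fin n → ℝ := fun i => ∑ p ∈ range t, if v p = i then c p / r T (v p) else 0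
  have hx : ∀ p < t, x (v p) = c p / r T (v p) := by
    intro p hp
    simp only [x]
    rw [Finset.sum_eq_single p]
    · simp
    · intro q hq hqp
      rw [if_neg]
      exact fun h => hqp (hinj (Finset.mem_range.1 hq) hp h)
    · intro h; exact absurd (Finset.mem_range.2 hp) h
  have hx0 : ∀ i, (∀ p < t, v p ≠ i) → x i = 0 := fun i hi =>
    Finset.sum_eq_zero fun p hp => if_neg (hi p (Finset.mem_range.1 hp))
  refine ⟨x, hx, hx0, ?_⟩
  have hinj' : Set.InjOn v (range t : Set ℕ) := by simpa using hinj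
  have hsum : ∀ f : Fin n → ℝ, (∀ i, x i = 0 → f i = 0) →
      ∑ i, f i = ∑ p ∈ range t, f (v p) := by
    intro f hf
    rw [← Finset.sum_image (s := range t) (g := v) (f := f) hinj']
    refine (Finset.sum_subset (subset_univ _) fun i _ hi => hf i (hx0 i fun p hp h => ?_)).symm
    exact hi (Finset.mem_image.2 ⟨p, Finset.mem_range.2 hp, h⟩)
  unfold Q
  rw [hsum _ (fun i hi => by simp [hi])]
  refine Finset.sum_congr rfl fun p hp => ?_
  rw [hsum _ (fun i hi => by simp [hi])]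
  refine Finset.sum_congr rfl fun q hq => ?_
  rw [hx p (Finset.mem_range.1 hp), hx q (Finset.mem_range.1 hq), e]
  ring

/-- Main tool: a family of `(-2)`-indices carrying a non-negative vector `c` with
`∑ c² ≤ ∑_E e c c` is the whole type, `c/√w` is proportional to `m`, and there are no other edges. -/
theorem key (hinj : Set.InjOn v (Set.Iio t)) (hv : ∀ p < t, T.IsMinusTwo (v p))
    (hc : ∀ p < t, 0 ≤ c p) (hc0 : ∃ p < t, c p ≠ 0)
    (E : Finset (ℕ × ℕ)) (hE : ∀ pq ∈ E, pq.1 < t ∧ pq.2 < t ∧ pq.1 ≠ pq.2 ∧ (pq.2, pq.1) ∉ E)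
    (hsum : ∑ p ∈ range t, c p ^ 2 ≤ ∑ pq ∈ E, e T (v pq.1) (v pq.2) * (c pq.1 * c pq.2)) :
    (∀ i, ∃ p < t, v p = i) ∧ t = n ∧
      (∃ l : ℝ, 0 < l ∧ ∀ p < t, c p = l * (T.m (v p) * r T (v p))) ∧
      ∀ p < t, ∀ q < t, p ≠ q → (p, q) ∉ E → (q, p) ∉ E → T.a (v p) (v q) = 0 := by
  classical
  obtain ⟨x, hx, hx0, hQ⟩ := Q_support T v c hinj
  set f : ℕ × ℕ → ℝ := fun pq => e T (v pq.1) (v pq.2) * (c pq.1 * c pq.2) with hf
  let E' : Finset (ℕ × ℕ) := E.image Prod.swap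
  let O : Finset (ℕ × ℕ) := (range t ×ˢ range t).filter fun pq => pq.1 ≠ pq.2
  let R : Finset (ℕ × ℕ) := O \ (E ∪ E')
  have hdisj : Disjoint E E' := by
    rw [Finset.disjoint_left]
    intro pq h1 h2
    obtain ⟨qp, h3, rfl⟩ := Finset.mem_image.1 h2
    exact (hE qp h3).2.2.2 h1
  have hsub : E ∪ E' ⊆ O := by
    intro pq hpq
    simp only [O, mem_filter, mem_product, Finset.mem_range]
    rcases Finset.mem_union.1 hpq with h | h
    · obtain ⟨a, b, c, -⟩ := hE pq h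
      exact ⟨⟨a, b⟩, c⟩
    · obtain ⟨qp, h3, rfl⟩ := Finset.mem_image.1 h
      obtain ⟨a, b, c, -⟩ := hE qp h3
      exact ⟨⟨b, a⟩, fun h => c h.symm⟩
  have hfnn : ∀ pq ∈ O, 0 ≤ f pq := by
    intro pq hpq
    simp only [O, mem_filter, mem_product, Finset.mem_range] at hpq
    refine mul_nonneg (e_nonneg T fun h => hpq.2 (hinj hpq.1.1 hpq.1.2 h)) ?_
    exact mul_nonneg (hc _ hpq.1.1) (hc _ hpq.1.2)
  have hE' : ∑ pq ∈ E', f pq = ∑ pq ∈ E, f pq := by
    rw [Finset.sum_image Prod.swap_injective.injOn]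
    refine Finset.sum_congr rfl fun pq _ => ?_
    simp only [f, Prod.fst_swap, Prod.snd_swap]
    rw [e_comm]; ring
  have hdiag : ∑ pq ∈ (range t ×ˢ range t).filter (fun pq => ¬ pq.1 ≠ pq.2), f pq
      = -2 * ∑ p ∈ range t, c p ^ 2 := by
    rw [Finset.mul_sum]
    refine (Finset.sum_nbij' (fun p => (p, p)) (fun pq => pq.1) ?_ ?_ ?_ ?_ ?_).symm
    · intro p hp; simp_all
    · intro pq hpq; simp_all
    · intro p hp; simp
    · rintro ⟨p, q⟩ hpq; simp_all
    · intro p hp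
      simp only [f, e_self T (hv p (Finset.mem_range.1 hp))]
      ring
  have hQ2 : Q T x = -2 * ∑ p ∈ range t, c p ^ 2 + 2 * ∑ pq ∈ E, f pq + ∑ pq ∈ R, f pq := by
    rw [hQ, ← Finset.sum_product' (f := fun p q => e T (v p) (v q) * (c p * c q)),
      ← Finset.sum_filter_add_sum_filter_not (range t ×ˢ range t) (fun pq => pq.1 ≠ pq.2)]
    change ∑ pq ∈ O, f pq + _ = _
    rw [hdiag, ← Finset.sum_sdiff hsub, Finset.sum_union hdisj, hE']
    change ∑ pq ∈ R, f pq + _ + _ = _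
    ring
  have hR : 0 ≤ ∑ pq ∈ R, f pq := Finset.sum_nonneg fun pq h => hfnn pq (Finset.sdiff_subset h)
  have hsum' : ∑ p ∈ range t, c p ^ 2 ≤ ∑ pq ∈ E, f pq := hsum
  have hQ0 : Q T x = 0 := le_antisymm (Q_nonpos T x) (by linarith)
  have hR0 : ∑ pq ∈ R, f pq = 0 := by linarith
  obtain ⟨l, hl⟩ := prop_of_Q_eq_zero T x hQ0
  obtain ⟨p0, hp0, hcp0⟩ := hc0
  have hxp0 : 0 < x (v p0) := by
    rw [hx p0 hp0]; exact div_pos (lt_of_le_of_ne (hc p0 hp0) (Ne.symm hcp0)) (r_pos T _)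
  have hlpos : 0 < l := by
    rw [hl] at hxp0
    exact pos_of_mul_pos_left hxp0 (mR_pos T _).le
  have hsurj : ∀ i, ∃ p < t, v p = i := by
    intro i
    by_contra hne
    push_neg at hne
    have h1 := hl i
    rw [hx0 i hne] at h1
    exact (mul_pos hlpos (mR_pos T i)).ne h1
  have hcp : ∀ p < t, c p = l * (T.m (v p) * r T (v p)) := by
    intro p hp
    have h1 := hl (v p)
    rw [hx p hp, div_eq_iff (r_pos T _).ne'] at h1
    rw [h1]; ring
  refine ⟨hsurj, ?_, ⟨l, hlpos, hcp⟩, ?_⟩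
  · have hu : (range t).image v = univ := Finset.eq_univ_iff_forall.2 fun i => by
      obtain ⟨p, hp, h⟩ := hsurj i
      exact Finset.mem_image.2 ⟨p, Finset.mem_range.2 hp, h⟩
    have hcard := congrArg Finset.card hu
    rw [Finset.card_image_of_injOn (by simpa using hinj), Finset.card_range, Finset.card_univ,
      Fintype.card_fin] at hcard
    exact hcard
  · intro p hp q hq hpq h1 h2
    have hmem : (p, q) ∈ R := by
      refine Finset.mem_sdiff.2 ⟨by simp [O, hp, hq, hpq], ?_⟩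
      simp only [E', Finset.mem_union, Finset.mem_image, not_or, not_exists, not_and]
      refine ⟨h1, ?_⟩
      rintro ⟨a, b⟩ hab h
      simp only [Prod.swap_prod_mk, Prod.mk.injEq] at h
      exact h2 (h.1 ▸ h.2 ▸ hab)
    have h0 := (Finset.sum_eq_zero_iff_of_nonneg
      fun pq h => hfnn pq (Finset.sdiff_subset h)).1 hR0 _ hmem
    have hpc : 0 < c p := by
      rw [hcp p hp]; exact mul_pos hlpos (mul_pos (mR_pos T _) (r_pos T _))
    have hqc : 0 < c q := by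
      rw [hcp q hq]; exact mul_pos hlpos (mul_pos (mR_pos T _) (r_pos T _))
    simp only [f, mul_eq_zero, hpc.ne', hqc.ne', or_false] at h0
    exact (e_eq_zero T).1 h0

/-- A proper family of `(-2)`-indices is negative definite. -/
theorem key_lt (ht : t < n) (hinj : Set.InjOn v (Set.Iio t)) (hv : ∀ p < t, T.IsMinusTwo (v p))
    (hc : ∀ p < t, 0 ≤ c p) (hc0 : ∃ p < t, c p ≠ 0)
    (E : Finset (ℕ × ℕ)) (hE : ∀ pq ∈ E, pq.1 < t ∧ pq.2 < t ∧ pq.1 ≠ pq.2 ∧ (pq.2, pq.1) ∉ E) :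
    ∑ pq ∈ E, e T (v pq.1) (v pq.2) * (c pq.1 * c pq.2) < ∑ p ∈ range t, c p ^ 2 := by
  by_contra h
  exact ht.ne (key T v c hinj hv hc hc0 E hE (le_of_not_gt h)).2.1

/-- Contradiction form with lower bounds `L`. -/
theorem key_false (ht : t < n) (hinj : Set.InjOn v (Set.Iio t)) (hv : ∀ p < t, T.IsMinusTwo (v p))
    (hc : ∀ p < t, 0 ≤ c p) (hc0 : ∃ p < t, c p ≠ 0)
    (E : Finset (ℕ × ℕ)) (hE : ∀ pq ∈ E, pq.1 < t ∧ pq.2 < t ∧ pq.1 ≠ pq.2 ∧ (pq.2, pq.1) ∉ E)
    (L : ℕ × ℕ → ℝ) (hL : ∀ pq ∈ E, L pq ≤ e T (v pq.1) (v pq.2))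
    (hsum : ∑ p ∈ range t, c p ^ 2 ≤ ∑ pq ∈ E, L pq * (c pq.1 * c pq.2)) : False := by
  refine (key_lt T v c ht hinj hv hc hc0 E hE).not_ge (hsum.trans ?_)
  refine Finset.sum_le_sum fun pq h => ?_
  obtain ⟨h1, h2, -⟩ := hE pq h
  exact mul_le_mul_of_nonneg_right (hL pq h) (mul_nonneg (hc _ h1) (hc _ h2))

end Key

end Groth.Agent.H28NT
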