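-- Torsion in the kernel of reduction of a smooth commutative group scheme
import Mathlib
import Groth.Agent.H28NT.CubeRing

/-!
# Expansion of `[n]` on points congruent to the identity, and injectivity of reduction on torsion
-/

set_option autoImplicit false
universe u
open CategoryTheory AlgebraicGeometry IsLocalRing
open CategoryTheory.MonoidalCategory CategoryTheory.CartesianMonoidalCategory
open scoped CategoryTheory.MonObj

namespace Groth.Agent.H28NT

variable {R : Type u} [CommRing R] {N : Over (Spec (CommRingCat.of R))}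

/-- The point `Spec B` over `Spec R` of an `R`-algebra `B`. -/
noncomputable def specPt (R B : Type u) [CommRing R] [CommRing B] [Algebra R B] :
    Over (Spec (CommRingCat.of R)) :=
  Over.mk (Spec.map (CommRingCat.ofHom (algebraMap R B)))

/-- The map of points induced by an algebra map. -/
noncomputable def specPtMap {B C : Type u} [CommRing B] [CommRing C] [Algebra R B] [Algebra R C]
    (f : B →ₐ[R] C) : specPt R C ⟶ specPt R B :=
  Over.homMk (Spec.map (CommRingCat.ofHom f.toRingHom)) (by
    simp only [specPt, Over.mk_hom]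
    rw [← Spec.map_comp, ← CommRingCat.ofHom_comp]
    exact congrArg (fun h => Spec.map (CommRingCat.ofHom h)) f.comp_algebraMap)

variable (U : N.left.Opens) (hU : IsAffineOpen U)

/-- The structure map `R → Γ(N, U)`. -/
noncomputable def structMap : CommRingCat.of R ⟶ Γ(N.left, U) :=
  Spec.preimage (hU.fromSpec ≫ N.hom)

/-- `P` factors through `U` via the ring map `ψ`. -/
def IsCoord {B : Type u} [CommRing B] [Algebra R B] (P : specPt R B ⟶ N)
    (ψ : Γ(N.left, U) →+* B) : Prop :=
  Spec.map (CommRingCat.ofHom ψ) ≫ hU.fromSpec = P.left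

variable {U hU}

theorem exists_isCoord {B : Type u} [CommRing B] [Algebra R B] (P : specPt R B ⟶ N)
    (h : ∀ z : PrimeSpectrum B, P.left.base z ∈ U) : ∃ ψ, IsCoord U hU P ψ := by
  have hr : Set.range P.left.base ⊆ Set.range hU.fromSpec.base := by
    rintro _ ⟨z, rfl⟩
    rw [hU.range_fromSpec]
    exact h z
  let l : Spec (CommRingCat.of B) ⟶ Spec Γ(N.left, U) := IsOpenImmersion.lift hU.fromSpec P.left hr
  refine ⟨(Spec.preimage l).hom, ?_⟩
  show Spec.map (Spec.preimage l) ≫ _ = _
  exact (congrArg (fun f => f ≫ hU.fromSpec) (Spec.map_preimage l)).trans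
    (IsOpenImmersion.lift_fac hU.fromSpec P.left hr)

theorem IsCoord.ext {B : Type u} [CommRing B] [Algebra R B] {P : specPt R B ⟶ N}
    {ψ ψ' : Γ(N.left, U) →+* B} (h : IsCoord U hU P ψ) (h' : IsCoord U hU P ψ') : ψ = ψ' := by
  have h1 := (cancel_mono hU.fromSpec).1 (h.trans h'.symm)
  exact congrArg CommRingCat.Hom.hom (Spec.map_injective h1)

theorem IsCoord.eq {B : Type u} [CommRing B] [Algebra R B] {P P' : specPt R B ⟶ N}
    {ψ : Γ(N.left, U) →+* B} (h : IsCoord U hU P ψ) (h' : IsCoord U hU P' ψ) : P = P' :=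
  Over.OverMorphism.ext (h.symm.trans h')

theorem IsCoord.map {B C : Type u} [CommRing B] [CommRing C] [Algebra R B] [Algebra R C]
    (f : B →ₐ[R] C) {P : specPt R B ⟶ N} {ψ : Γ(N.left, U) →+* B} (h : IsCoord U hU P ψ) :
    IsCoord U hU (specPtMap f ≫ P) (f.toRingHom.comp ψ) := by
  show Spec.map (CommRingCat.ofHom ψ ≫ CommRingCat.ofHom f.toRingHom) ≫ _ = _
  rw [Spec.map_comp, Category.assoc, h]
  rfl

theorem IsCoord.structMap {B : Type u} [CommRing B] [Algebra R B] {P : specPt R B ⟶ N}
    {ψ : Γ(N.left, U) →+* B} (h : IsCoord U hU P ψ) (r : R) :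
    ψ ((structMap U hU).hom r) = algebraMap R B r := by
  have h1 : Spec.map (CommRingCat.ofHom ψ) ≫ Spec.map (H28NT.structMap U hU) =
      Spec.map (CommRingCat.ofHom (algebraMap R B)) := by
    rw [show Spec.map (H28NT.structMap U hU) = hU.fromSpec ≫ N.hom from Spec.map_preimage _,
      ← Category.assoc, h]
    exact Over.w P
  rw [← Spec.map_comp] at h1
  exact DFunLike.congr_fun (congrArg CommRingCat.Hom.hom (Spec.map_injective h1)) r

theorem exists_pt {B : Type u} [CommRing B] [Algebra R B] (ψ : Γ(N.left, U) →+* B)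
    (h : ∀ r, ψ ((structMap U hU).hom r) = algebraMap R B r) :
    ∃ P : specPt R B ⟶ N, IsCoord U hU P ψ := by
  refine ⟨Over.homMk (Spec.map (CommRingCat.ofHom ψ) ≫ hU.fromSpec) ?_, rfl⟩
  refine (Category.assoc _ _ _).trans ?_
  refine (congrArg (fun f => Spec.map (CommRingCat.ofHom ψ) ≫ f)
    (show Spec.map (structMap U hU) = hU.fromSpec ≫ N.hom from Spec.map_preimage _).symm).trans ?_
  exact (Spec.map_comp _ _).symm.trans (congrArg Spec.map (CommRingCat.hom_ext (RingHom.ext h)))

variable [GrpObj N] [IsCommMonObj N]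

/-- Expansion of the `n`-th power of a point congruent to the identity modulo `t`. -/
theorem coord_pow_expansion {x : specPt R R ⟶ N} {φ φ₁ φn : Γ(N.left, U) →+* R}
    (hx : IsCoord U hU x φ) (h₁ : IsCoord U hU (1 : specPt R R ⟶ N) φ₁) {n : ℕ}
    (hn : IsCoord U hU (x ^ n) φn)
    (hmem : ∀ k (z : PrimeSpectrum R), (x ^ k).left.base z ∈ U) (t : R)
    (ht : ∀ g, t ∣ φ g - φ₁ g) (J : Ideal R)
    (hJ : ∀ j, 2 ≤ j → j ≤ n → (n.choose j : R) * t ^ j ∈ J) (g : Γ(N.left, U)) :
    φn g - φ₁ g - (n : R) * (φ g - φ₁ g) ∈ J := by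
  classical
  rcases Nat.eq_zero_or_pos n with rfl | hpos
  · obtain rfl : φn = φ₁ := IsCoord.ext (by rwa [pow_zero] at hn) h₁
    simp
  let C := cube R t (Fin n)
  let ev : Finset (Fin n) → (C →ₐ[R] R) := fun S => (Pi.evalAlgHom R _ S).comp C.val
  let ψ₀ : Fin n → (Γ(N.left, U) →+* (Finset (Fin n) → R)) := fun i =>
    RingHom.pi fun S => if i ∈ S then φ else φ₁
  have hψC : ∀ i g, ψ₀ i g ∈ C := by
    intro i g
    obtain ⟨c, hc⟩ := ht g
    have h : ψ₀ i g = algebraMap R _ (φ₁ g) + c • (fun S : Finset (Fin n) => if i ∈ S then t else 0) := by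
      funext S
      simp only [ψ₀, RingHom.pi_apply, Pi.add_apply, Pi.algebraMap_apply, Pi.smul_apply,
        Algebra.algebraMap_self, RingHom.id_apply, smul_eq_mul]
      by_cases hS : i ∈ S <;> simp [hS]
      linear_combination hc
    rw [h]
    exact add_mem (C.algebraMap_mem _) (C.smul_mem (gen_mem_cube i) _)
  let ψ : Fin n → (Γ(N.left, U) →+* C) := fun i => (ψ₀ i).codRestrict C (hψC i)
  have hψstr : ∀ i r, ψ i ((structMap U hU).hom r) = algebraMap R C r := fun i r => by
    apply Subtype.ext
    funext S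
    show (if i ∈ S then φ else φ₁) ((structMap U hU).hom r) = r
    by_cases hS : i ∈ S
    · simpa [hS] using hx.structMap r
    · simpa [hS] using h₁.structMap r
  choose y hy using fun i => exists_pt (ψ i) (hψstr i)
  have hyev : ∀ S i, specPtMap (ev S) ≫ y i = if i ∈ S then x else 1 := by
    intro S i
    by_cases hS : i ∈ S
    · rw [if_pos hS]
      refine ((hy i).map (ev S)).eq ?_
      convert hx using 1
      ext g
      show (if i ∈ S then φ else φ₁) g = _
      rw [if_pos hS]
    · rw [if_neg hS]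
      refine ((hy i).map (ev S)).eq ?_
      convert h₁ using 1
      ext g
      show (if i ∈ S then φ else φ₁) g = _
      rw [if_neg hS]
  let P : specPt R C ⟶ N := ∏ i, y i
  have hP : ∀ S, specPtMap (ev S) ≫ P = x ^ S.card := by
    intro S
    let pre : (specPt R C ⟶ N) →* (specPt R R ⟶ N) :=
      { toFun := fun f => specPtMap (ev S) ≫ f
        map_one' := MonObj.comp_one _
        map_mul' := fun f g => MonObj.comp_mul _ f g }
    show pre P = _
    rw [map_prod]
    refine (Finset.prod_congr rfl fun i _ => hyev S i).trans ?_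
    rw [Finset.prod_ite_mem, Finset.univ_inter, Finset.prod_const]
  have hPU : ∀ z : PrimeSpectrum C, P.left.base z ∈ U := by
    intro z
    have hle : (Finset.univ : Finset (Finset (Fin n))).inf (fun S => RingHom.ker (ev S).toRingHom) ≤
        z.asIdeal := fun w hw => by
      have hw0 : w = 0 := Subtype.ext (funext fun S => by
        rw [Finset.inf_eq_iInf] at hw
        simp only [Ideal.mem_iInf, RingHom.mem_ker] at hw
        exact hw S (Finset.mem_univ S))
      rw [hw0]
      exact z.asIdeal.zero_mem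
    obtain ⟨S, -, hS⟩ := (Ideal.IsPrime.inf_le' z.isPrime).1 hle
    have hsurj : Function.Surjective (ev S).toRingHom :=
      fun r => ⟨algebraMap R C r, (ev S).commutes r⟩
    obtain ⟨w, rfl⟩ : z ∈ Set.range (PrimeSpectrum.comap (ev S).toRingHom) := by
      rw [range_comap_of_surjective _ _ hsurj]
      exact hS
    have h := hmem S.card w
    rw [← hP S] at h
    exact h
  obtain ⟨ψP, hψP⟩ := exists_isCoord (hU := hU) P hPU
  have hk : ∀ S : Finset (Fin n), ∀ χ, IsCoord U hU (x ^ S.card) χ → χ g = (ψP g).1 S := by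
    intro S χ hχ
    have h := hψP.map (ev S)
    rw [hP S] at h
    rw [hχ.ext h]
    rfl
  choose F hF using fun k => exists_isCoord (hU := hU) (x ^ k) (hmem k)
  have hmemC : (fun S : Finset (Fin n) => F S.card g) ∈ cube R t (Fin n) := by
    convert (ψP g).2 using 1
    funext S
    exact hk S _ (hF _)
  have h := symmetric_mem_cube_expansion (f := fun k => F k g) hmemC J (by simpa using hJ)
  simp only [Fintype.card_fin] at h
  have e0 : F 0 = φ₁ := (hF 0).ext (by rwa [pow_zero])
  have e1 : F 1 = φ := (hF 1).ext (by rwa [pow_one])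
  rwa [(hF n).ext hn, e0, e1] at h

/-- Reduction of a point to the residue field. -/
noncomputable def redMap (R : Type u) [CommRing R] [IsLocalRing R] :
    specPt R (ResidueField R) ⟶ specPt R R :=
  specPtMap (IsScalarTower.toAlgHom R R (ResidueField R))

theorem comap_redMap (R : Type u) [CommRing R] [IsLocalRing R] (z : PrimeSpectrum (ResidueField R)) :
    PrimeSpectrum.comap (IsScalarTower.toAlgHom R R (ResidueField R)).toRingHom z = closedPoint R := by
  apply PrimeSpectrum.ext
  show Ideal.comap (IsScalarTower.toAlgHom R R (ResidueField R)).toRingHom z.asIdeal = maximalIdeal R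
  rw [show z.asIdeal = ⊥ from (Ideal.eq_bot_or_top z.asIdeal).resolve_right z.isPrime.ne_top]
  exact ker_residue

variable [IsLocalRing R]

omit [GrpObj N] [IsCommMonObj N] in
theorem mem_of_closedPoint_mem {P : specPt R R ⟶ N} (h : P.left.base (closedPoint R) ∈ U)
    (z : PrimeSpectrum R) : P.left.base z ∈ U :=
  ((IsLocalRing.specializes_closedPoint z).mem_open (P.left.base.hom.continuous.isOpen_preimage _ U.2) h :)

omit [GrpObj N] [IsCommMonObj N] in
theorem IsCoord.sub_mem_maximalIdeal {x y : specPt R R ⟶ N} {φ ψ : Γ(N.left, U) →+* R}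
    (hx : IsCoord U hU x φ) (hy : IsCoord U hU y ψ) :
    x.left.base (closedPoint R) = y.left.base (closedPoint R) →
      ∀ g, φ g - ψ g ∈ maximalIdeal R := by
  intro h g
  rw [← hx, ← hy] at h
  have h1 : PrimeSpectrum.comap φ (closedPoint R) = PrimeSpectrum.comap ψ (closedPoint R) :=
    hU.fromSpec.isOpenEmbedding.injective h
  have h2 : (maximalIdeal R).comap φ = (maximalIdeal R).comap ψ := congrArg PrimeSpectrum.asIdeal h1
  have h3 : g - (H28NT.structMap U hU).hom (ψ g) ∈ (maximalIdeal R).comap ψ := by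
    rw [Ideal.mem_comap, map_sub, hy.structMap, Algebra.algebraMap_self, RingHom.id_apply, sub_self]
    exact Ideal.zero_mem _
  rw [← h2, Ideal.mem_comap, map_sub, hx.structMap, Algebra.algebraMap_self, RingHom.id_apply] at h3
  exact h3

theorem pow_closedPoint_eq {x : specPt R R ⟶ N} {φ φ₁ : Γ(N.left, U) →+* R}
    (hx : IsCoord U hU x φ) (h₁ : IsCoord U hU (1 : specPt R R ⟶ N) φ₁)
    (hc : ∀ g, φ g - φ₁ g ∈ maximalIdeal R) (k : ℕ) :
    (x ^ k).left.base (closedPoint R) = (1 : specPt R R ⟶ N).left.base (closedPoint R) := by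
  have he : redMap R ≫ x = redMap R ≫ 1 := by
    refine (hx.map _).eq ?_
    convert h₁.map (IsScalarTower.toAlgHom R R (ResidueField R)) using 1
    · rfl
    · refine RingHom.ext fun g => ?_
      show residue R (φ g) = residue R (φ₁ g)
      rw [← sub_eq_zero, ← map_sub, residue_eq_zero_iff]
      exact hc g
  have h : redMap R ≫ x ^ k = redMap R ≫ 1 := by
    rw [MonObj.comp_pow, he, MonObj.comp_one, one_pow]
  have h2 := congrArg (fun f => f.left.base (closedPoint (ResidueField R))) h
  simp only [← comap_redMap R (closedPoint (ResidueField R))]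
  exact h2

/-- Successive approximation: a point reducing to the identity, whose coordinates improve modulo
each power of the maximal ideal, is the identity. -/
theorem eq_one_of_pow_eq_one_of_step [IsNoetherianRing R] {x : specPt R R ⟶ N}
    (hred : x.left.base (closedPoint R) = (1 : specPt R R ⟶ N).left.base (closedPoint R))
    {π : R} (hπ : maximalIdeal R = Ideal.span {π}) {n : ℕ} (hx : x ^ n = 1)
    (step : ∀ a, 1 ≤ a → ∀ d : R,
      (∀ J : Ideal R, (∀ j, 2 ≤ j → j ≤ n → (n.choose j : R) * (π ^ a) ^ j ∈ J) → (n : R) * d ∈ J) →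
      π ^ (a + 1) ∣ d) :
    x = 1 := by
  obtain ⟨U, hU, hmem, -⟩ := exists_isAffineOpen_mem_and_subset
    (U := (⊤ : N.left.Opens)) (x := (1 : specPt R R ⟶ N).left.base (closedPoint R)) trivial
  obtain ⟨φ₁, h₁⟩ := exists_isCoord (hU := hU) 1 (mem_of_closedPoint_mem hmem)
  obtain ⟨φ, hφ⟩ := exists_isCoord (hU := hU) x (mem_of_closedPoint_mem (hred ▸ hmem))
  have hc : ∀ g, φ g - φ₁ g ∈ maximalIdeal R := hφ.sub_mem_maximalIdeal h₁ hred
  have hpow : ∀ k (z : PrimeSpectrum R), (x ^ k).left.base z ∈ U := fun k =>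
    mem_of_closedPoint_mem (pow_closedPoint_eq hφ h₁ hc k ▸ hmem)
  have hall : ∀ a, 1 ≤ a → ∀ g, π ^ a ∣ φ g - φ₁ g := by
    intro a ha
    induction a, ha using Nat.le_induction with
    | base =>
      intro g
      rw [pow_one, ← Ideal.mem_span_singleton, ← hπ]
      exact hc g
    | succ a ha ih =>
      intro g
      refine step a ha _ fun J hJ => ?_
      have h := coord_pow_expansion hφ h₁ (φn := φ₁) (hx ▸ h₁) hpow (π ^ a) ih J hJ g
      rwa [sub_self, zero_sub, neg_mem_iff] at h
  refine hφ.eq ?_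
  convert h₁ using 1
  refine RingHom.ext fun g => sub_eq_zero.1 ?_
  have h : φ g - φ₁ g ∈ ⨅ a : ℕ, maximalIdeal R ^ a := by
    refine Submodule.mem_iInf _ |>.2 fun a => ?_
    rcases Nat.eq_zero_or_pos a with rfl | ha
    · simp
    · rw [hπ, Ideal.span_singleton_pow, Ideal.mem_span_singleton]
      exact hall a ha g
  rwa [Ideal.iInf_pow_eq_bot_of_isLocalRing _ (maximalIdeal.isMaximal R).ne_top] at h

end Groth.Agent.H28NT
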