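-- Torsion injects on reduction over a discrete valuation ring
import Mathlib
import Groth.Agent.H28NT.ReductionInjective

/-!
# Injectivity of reduction on torsion sections
-/

set_option autoImplicit false
universe u
open CategoryTheory AlgebraicGeometry IsLocalRing
open CategoryTheory.MonoidalCategory CategoryTheory.CartesianMonoidalCategory
open scoped CategoryTheory.MonObj

namespace Groth.Agent.H28NT

variable {R : Type u} [CommRing R] [IsDomain R] [IsDiscreteValuationRing R]
  {N : Over (Spec (CommRingCat.of R))} [GrpObj N] [IsCommMonObj N]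

theorem eq_one_of_coords {x : 𝟙_ (Over (Spec (CommRingCat.of R))) ⟶ N} {n : ℕ} {π : R}
    (hπ : maximalIdeal R = Ideal.span {π}) (hx : x ^ n = 1)
    (hred : x.left.base (closedPoint R) = (η[N]).left.base (closedPoint R))
    (step : ∀ a, 1 ≤ a → ∀ d : R,
      (∀ J : Ideal R, (∀ j, 2 ≤ j → j ≤ n → (n.choose j : R) * (π ^ a) ^ j ∈ J) → (n : R) * d ∈ J) →
      π ^ (a + 1) ∣ d) : x = 1 := by
  let e : specPt R R ≅ 𝟙_ (Over (Spec (CommRingCat.of R))) :=
    Over.isoMk (Iso.refl _) (by simp [specPt])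
  have h : e.hom ≫ x = 1 := by
    refine eq_one_of_pow_eq_one_of_step ?_ hπ (n := n) ?_ step
    · refine (hred.trans ?_)
      have h1 : (1 : specPt R R ⟶ N) = e.hom ≫ η[N] := by
        rw [Hom.one_def]
        congr 1
        exact toUnit_unique _ _
      rw [h1]
      rfl
    · rw [← MonObj.comp_pow, hx, MonObj.comp_one]
  rw [← cancel_epi e.hom, h, MonObj.comp_one]

theorem eq_one_of_natCast_isUnit {x : 𝟙_ (Over (Spec (CommRingCat.of R))) ⟶ N} {n : ℕ}
    (hn : IsUnit (n : R)) (hx : x ^ n = 1)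
    (hred : x.left.base (closedPoint R) = (η[N]).left.base (closedPoint R)) : x = 1 := by
  obtain ⟨π, hπ⟩ := IsDiscreteValuationRing.exists_irreducible R
  refine eq_one_of_coords hπ.maximalIdeal_eq hx hred fun a ha d hd => ?_
  have h : (n : R) * d ∈ Ideal.span {π ^ (a + 1)} := hd _ fun j hj _ => by
    rw [Ideal.mem_span_singleton, ← pow_mul]
    exact Dvd.dvd.mul_left (pow_dvd_pow π (by nlinarith)) _
  rw [Ideal.mem_span_singleton] at h
  exact (hn.dvd_mul_left).1 h

theorem eq_one_of_pow_prime_eq_one {x : 𝟙_ (Over (Spec (CommRingCat.of R))) ⟶ N} {p : ℕ}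
    (hp : p.Prime) (hpm : (p : R) ∈ maximalIdeal R) (hv : (p : R) ∉ maximalIdeal R ^ (p - 1))
    (hx : x ^ p = 1)
    (hred : x.left.base (closedPoint R) = (η[N]).left.base (closedPoint R)) : x = 1 := by
  obtain ⟨π, hπ⟩ := IsDiscreteValuationRing.exists_irreducible R
  have hp0 : (p : R) ≠ 0 := fun h => hv (h ▸ Ideal.zero_mem _)
  obtain ⟨e, u, he⟩ := IsDiscreteValuationRing.eq_unit_mul_pow_irreducible hp0 hπ
  have he1 : 1 ≤ e := by
    by_contra h
    obtain rfl : e = 0 := by omega
    rw [pow_zero, mul_one] at he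
    exact (maximalIdeal.isMaximal R).ne_top (Ideal.eq_top_of_isUnit_mem _ hpm (he ▸ u.isUnit))
  have he2 : e < p - 1 := by
    by_contra h
    refine hv ?_
    rw [he, hπ.maximalIdeal_eq, Ideal.span_singleton_pow, Ideal.mem_span_singleton]
    exact Dvd.dvd.mul_left (pow_dvd_pow π (by omega)) _
  refine eq_one_of_coords hπ.maximalIdeal_eq hx hred fun a ha d hd => ?_
  have h : (p : R) * d ∈ Ideal.span {π ^ (e + (a + 1))} := hd _ fun j hj hjp => by
    rw [Ideal.mem_span_singleton, ← pow_mul]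
    rcases hjp.lt_or_eq with hlt | rfl
    · obtain ⟨c, hc⟩ := hp.dvd_choose_self (by omega : j ≠ 0) hlt
      rw [hc, Nat.cast_mul, he, show (↑u : R) * π ^ e * ↑c * π ^ (a * j) =
        (↑u * ↑c) * π ^ (e + a * j) by ring]
      exact Dvd.dvd.mul_left (pow_dvd_pow π (by nlinarith)) _
    · refine Dvd.dvd.mul_left (pow_dvd_pow π ?_) _
      obtain ⟨q, rfl⟩ : ∃ q, j = q + 1 := ⟨j - 1, by omega⟩
      simp only [Nat.add_sub_cancel] at he2
      nlinarith [Nat.le_mul_of_pos_left q ha]
  rw [Ideal.mem_span_singleton, he, pow_add, mul_assoc, Units.dvd_mul_left,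
    mul_dvd_mul_iff_left (pow_ne_zero _ hπ.ne_zero)] at h
  exact h

/-- If a section reduces to the identity then so do its powers. -/
theorem pow_reduces {x : 𝟙_ (Over (Spec (CommRingCat.of R))) ⟶ N}
    (hred : x.left.base (closedPoint R) = (η[N]).left.base (closedPoint R)) (k : ℕ) :
    (x ^ k).left.base (closedPoint R) = (η[N]).left.base (closedPoint R) := by
  let e : specPt R R ≅ 𝟙_ (Over (Spec (CommRingCat.of R))) :=
    Over.isoMk (Iso.refl _) (by simp [specPt])
  have h1 : (1 : specPt R R ⟶ N) = e.hom ≫ η[N] := by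
    rw [Hom.one_def]
    congr 1
    exact toUnit_unique _ _
  have hmem := exists_isAffineOpen_mem_and_subset (U := (⊤ : N.left.Opens))
    (x := (1 : specPt R R ⟶ N).left.base (closedPoint R)) trivial
  obtain ⟨U, hU, hmem, -⟩ := hmem
  have hred' : (e.hom ≫ x).left.base (closedPoint R) = (1 : specPt R R ⟶ N).left.base (closedPoint R) := by
    rw [h1]
    exact hred
  obtain ⟨φ₁, hφ₁⟩ := exists_isCoord (hU := hU) 1 (mem_of_closedPoint_mem hmem)
  obtain ⟨φ, hφ⟩ := exists_isCoord (hU := hU) (e.hom ≫ x) (mem_of_closedPoint_mem (hred' ▸ hmem))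
  have h := pow_closedPoint_eq hφ hφ₁ (hφ.sub_mem_maximalIdeal hφ₁ hred') k
  rw [← MonObj.comp_pow, h1] at h
  exact h

end Groth.Agent.H28NT
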