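import Groth.Agent.H28NT.Chain
import Groth.Agent.H28NT.Rows

/-!
# Affine shapes
-/

namespace Groth.Agent.H28NT

open Finset Models Models.NumericalType

variable {n : ℕ} (T : NumericalType n)

/-- `v` presents `T` as the diagram with edges `E`, weights `wt` and multiplicities `mult`. -/
structure IsShape (v : ℕ → Fin n) (m w : ℤ) (mult wt : ℕ → ℤ) (E : Finset (ℕ × ℕ)) : Prop where
  inj : Set.InjOn v (Set.Iio n)
  mult_eq : ∀ p < n, T.m (v p) = mult p * m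
  wt_eq : ∀ p < n, T.w (v p) = wt p * w
  edge : ∀ p < n, ∀ q < n, (p, q) ∈ E → T.a (v p) (v q) = max (wt p) (wt q) * w
  zero : ∀ p < n, ∀ q < n, p ≠ q → (p, q) ∉ E → (q, p) ∉ E → T.a (v p) (v q) = 0

/-- `T` is the given diagram up to order and scaling. -/
def Shaped (mult wt : ℕ → ℤ) (E : Finset (ℕ × ℕ)) : Prop :=
  ∃ (v : ℕ → Fin n) (m w : ℤ), IsShape T v m w mult wt E

section
variable {t : ℕ} (v : ℕ → Fin n) (c : ℕ → ℝ)

/-- `key` with lower bounds, which become equalities. -/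
theorem key_eq (hinj : Set.InjOn v (Set.Iio t)) (hv : ∀ p < t, T.IsMinusTwo (v p))
    (hc : ∀ p < t, 0 < c p) (ht : 0 < t)
    (E : Finset (ℕ × ℕ)) (hE : ∀ pq ∈ E, pq.1 < t ∧ pq.2 < t ∧ pq.1 ≠ pq.2 ∧ (pq.2, pq.1) ∉ E)
    (L : ℕ × ℕ → ℝ) (hL : ∀ pq ∈ E, L pq ≤ e T (v pq.1) (v pq.2))
    (hsum : ∑ p ∈ range t, c p ^ 2 = ∑ pq ∈ E, L pq * (c pq.1 * c pq.2)) :
    t = n ∧ (∃ l : ℝ, 0 < l ∧ ∀ p < t, c p = l * (T.m (v p) * r T (v p))) ∧
      (∀ pq ∈ E, e T (v pq.1) (v pq.2) = L pq) ∧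
      ∀ p < t, ∀ q < t, p ≠ q → (p, q) ∉ E → (q, p) ∉ E → T.a (v p) (v q) = 0 := by
  have hpos : ∀ pq ∈ E, 0 < c pq.1 * c pq.2 := fun pq h =>
    mul_pos (hc _ (hE pq h).1) (hc _ (hE pq h).2.1)
  have hle : ∀ pq ∈ E, L pq * (c pq.1 * c pq.2) ≤ e T (v pq.1) (v pq.2) * (c pq.1 * c pq.2) :=
    fun pq h => mul_le_mul_of_nonneg_right (hL pq h) (hpos pq h).le
  obtain ⟨hs, htn, hl, hz⟩ := key T v c hinj hv (fun p hp => (hc p hp).le) ⟨0, ht, (hc 0 ht).ne'⟩ E hE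
    (hsum.le.trans (Finset.sum_le_sum hle))
  refine ⟨htn, hl, ?_, hz⟩
  have hge : ∑ pq ∈ E, e T (v pq.1) (v pq.2) * (c pq.1 * c pq.2) ≤ ∑ p ∈ range t, c p ^ 2 := by
    obtain ⟨x, hx, hx0, hQ⟩ := Q_support T v c hinj
    by_contra hlt
    have hlt' := not_le.1 hlt
    obtain ⟨l, hl0, hcl⟩ := hl
    -- the vector is proportional to `m`, hence isotropic
    have hxm : ∀ i, x i = l * T.m i := by
      intro i
      obtain ⟨p, hp, rfl⟩ := hs i
      rw [hx p hp, hcl p hp, ← mul_assoc, mul_div_assoc, div_self (r_pos T _).ne', mul_one]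
    have hQ0 : Q T x = 0 := by
      unfold Q
      refine Finset.sum_eq_zero fun i _ => ?_
      simp only [hxm]
      calc ∑ j, (T.a i j : ℝ) * (l * T.m i * (l * T.m j))
          = l * T.m i * l * ∑ j, (T.a i j : ℝ) * T.m j := by
            rw [Finset.mul_sum]; exact Finset.sum_congr rfl fun j _ => by ring
        _ = 0 := by rw [row_eqR, mul_zero]
    rw [hQ0, ← Finset.sum_product' (f := fun p q => e T (v p) (v q) * (c p * c q))] at hQ
    classical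
    let E' : Finset (ℕ × ℕ) := E.image Prod.swap
    let D : Finset (ℕ × ℕ) := (range t).image fun p => (p, p)
    have hd1 : Disjoint E E' := by
      rw [Finset.disjoint_left]
      intro pq h1 h2
      obtain ⟨qp, h3, rfl⟩ := Finset.mem_image.1 h2
      exact (hE qp h3).2.2.2 h1
    have hd2 : Disjoint (E ∪ E') D := by
      rw [Finset.disjoint_left]
      intro pq h1 h2
      obtain ⟨p, -, rfl⟩ := Finset.mem_image.1 h2
      rcases Finset.mem_union.1 h1 with h | h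
      · exact (hE _ h).2.2.1 rfl
      · obtain ⟨qp, h3, h4⟩ := Finset.mem_image.1 h
        obtain ⟨a, b⟩ := qp
        simp only [Prod.swap_prod_mk, Prod.mk.injEq] at h4
        exact (hE _ h3).2.2.1 (h4.2.trans h4.1.symm)
    have hsub : E ∪ E' ∪ D ⊆ range t ×ˢ range t := by
      intro pq h
      simp only [mem_product, Finset.mem_range]
      rcases Finset.mem_union.1 h with h | h
      · rcases Finset.mem_union.1 h with h | h
        · exact ⟨(hE _ h).1, (hE _ h).2.1⟩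
        · obtain ⟨qp, h3, rfl⟩ := Finset.mem_image.1 h
          exact ⟨(hE _ h3).2.1, (hE _ h3).1⟩
      · obtain ⟨p, hp, rfl⟩ := Finset.mem_image.1 h
        exact ⟨Finset.mem_range.1 hp, Finset.mem_range.1 hp⟩
    rw [← Finset.sum_subset hsub (fun pq h1 h2 => ?_), Finset.sum_union hd2, Finset.sum_union hd1,
      Finset.sum_image Prod.swap_injective.injOn,
      Finset.sum_image (fun a _ b _ h => (Prod.ext_iff.1 h).1)] at hQ
    · have hdiag : ∑ p ∈ range t, e T (v p) (v p) * (c p * c p) = -2 * ∑ p ∈ range t, c p ^ 2 := by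
        rw [Finset.mul_sum]
        refine Finset.sum_congr rfl fun p hp => ?_
        rw [e_self T (hv p (Finset.mem_range.1 hp))]; ring
      have hsw : ∑ pq ∈ E, e T (v pq.swap.1) (v pq.swap.2) * (c pq.swap.1 * c pq.swap.2)
          = ∑ pq ∈ E, e T (v pq.1) (v pq.2) * (c pq.1 * c pq.2) := by
        refine Finset.sum_congr rfl fun pq _ => ?_
        rw [Prod.fst_swap, Prod.snd_swap, e_comm, mul_comm (c pq.2)]
      rw [hdiag, hsw] at hQ
      linarith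
    · simp only [mem_product, Finset.mem_range] at h1
      simp only [E', D, Finset.mem_union, Finset.mem_image, Finset.mem_range, not_or, not_exists, not_and] at h2
      have hne : pq.1 ≠ pq.2 := fun h => h2.2 pq.1 h1.1 (Prod.ext rfl h)
      rw [(e_eq_zero T).2 (hz _ h1.1 _ h1.2 hne h2.1.1 fun h => h2.1.2 _ h rfl), zero_mul]
  have heq := (Finset.sum_eq_sum_iff_of_le hle).1
    (le_antisymm (Finset.sum_le_sum hle) (hge.trans hsum.le))
  exact fun pq h => (mul_right_cancel₀ (hpos pq h).ne' (heq pq h)).symm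

end

lemma edge_kind {i j : Fin n} (hn : 2 < n) (hij : i ≠ j) (hi : T.IsMinusTwo i) (hj : T.IsMinusTwo j)
    (h0 : T.a i j ≠ 0) :
    (T.w j = T.w i ∧ e T i j = 1) ∨
      ((T.w j = 2 * T.w i ∨ T.w i = 2 * T.w j) ∧ e T i j = Real.sqrt 2) ∨
      ((T.w j = 3 * T.w i ∨ T.w i = 3 * T.w j) ∧ e T i j = Real.sqrt 3) := by
  have hwi := T.w_pos i
  have hwj := T.w_pos j
  have he : ∀ k : ℕ, (T.a i j) ^ 2 = (k : ℤ) * (T.w i * T.w j) → e T i j = Real.sqrt k := by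
    intro k hk
    have h1 := e_sq T i j
    have h2 : (T.a i j : ℝ) ^ 2 = (k : ℝ) * ((T.w i : ℝ) * T.w j) := by exact_mod_cast hk
    rw [h2] at h1
    have hpos : (0 : ℝ) < (T.w i : ℝ) * T.w j := mul_pos (by exact_mod_cast hwi) (by exact_mod_cast hwj)
    rw [← mul_right_cancel₀ hpos.ne' h1, Real.sqrt_sq (e_nonneg T hij)]
  rcases w_eq_or_mul T hn hij hi hj h0 with ⟨a, b⟩ | ⟨a, b | b⟩ | ⟨a, b | b⟩
  · exact .inl ⟨b, by simpa using he 1 (by rw [a, b]; ring)⟩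
  · exact .inr (.inl ⟨.inl b, by simpa using he 2 (by rw [a, b]; push_cast; ring)⟩)
  · exact .inr (.inr ⟨.inl b, by simpa using he 3 (by rw [a, b]; push_cast; ring)⟩)
  · exact .inr (.inl ⟨.inr b, by simpa using he 2 (by rw [a, b]; push_cast; ring)⟩)
  · exact .inr (.inr ⟨.inr b, by simpa using he 3 (by rw [a, b]; push_cast; ring)⟩)

lemma w_eq_of_e_one {i j : Fin n} (hn : 2 < n) (hij : i ≠ j) (hi : T.IsMinusTwo i) (hj : T.IsMinusTwo j)
    (h0 : T.a i j ≠ 0) (he : e T i j = 1) : T.w j = T.w i := by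
  rcases edge_kind T hn hij hi hj h0 with ⟨h, -⟩ | ⟨-, h⟩ | ⟨-, h⟩
  · exact h
  · rw [he] at h; exact absurd (congrArg (· ^ 2) h) (by norm_num)
  · rw [he] at h; exact absurd (congrArg (· ^ 2) h) (by norm_num)

lemma w_double_of_e {i j : Fin n} (hn : 2 < n) (hij : i ≠ j) (hi : T.IsMinusTwo i) (hj : T.IsMinusTwo j)
    (h0 : T.a i j ≠ 0) (he : e T i j = Real.sqrt 2) : T.w j = 2 * T.w i ∨ T.w i = 2 * T.w j := by
  rcases edge_kind T hn hij hi hj h0 with ⟨-, h⟩ | ⟨h, -⟩ | ⟨-, h⟩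
  · rw [he] at h; exact absurd (congrArg (· ^ 2) h) (by norm_num)
  · exact h
  · rw [he] at h; exact absurd (congrArg (· ^ 2) h) (by norm_num)

lemma w_triple_of_e {i j : Fin n} (hn : 2 < n) (hij : i ≠ j) (hi : T.IsMinusTwo i) (hj : T.IsMinusTwo j)
    (h0 : T.a i j ≠ 0) (he : e T i j = Real.sqrt 3) : T.w j = 3 * T.w i ∨ T.w i = 3 * T.w j := by
  rcases edge_kind T hn hij hi hj h0 with ⟨-, h⟩ | ⟨-, h⟩ | ⟨h, -⟩
  · rw [he] at h; exact absurd (congrArg (· ^ 2) h) (by norm_num)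
  · rw [he] at h; exact absurd (congrArg (· ^ 2) h) (by norm_num)
  · exact h

/-- Assemble a shape from the output of `key_eq`. -/
theorem shaped_of_key (hv' : ∀ i, T.IsMinusTwo i) (hn : 2 < n) (v : ℕ → Fin n) (c : ℕ → ℝ)
    (E : Finset (ℕ × ℕ)) (hinj : Set.InjOn v (Set.Iio n))
    (hl : ∃ l : ℝ, 0 < l ∧ ∀ p < n, c p = l * (T.m (v p) * r T (v p)))
    (hE : ∀ pq ∈ E, pq.1 ≠ pq.2 ∧ T.a (v pq.1) (v pq.2) ≠ 0)
    (hz : ∀ p < n, ∀ q < n, p ≠ q → (p, q) ∉ E → (q, p) ∉ E → T.a (v p) (v q) = 0)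
    (mult wt : ℕ → ℤ) (w : ℤ) (hw : ∀ p < n, T.w (v p) = wt p * w)
    (C : ℝ) (hC : ∀ p < n, c p ^ 2 = C * ((mult p : ℝ) ^ 2 * (wt p : ℝ)))
    (p1 : ℕ) (hp1 : p1 < n) (h1 : mult p1 = 1) (hmult : ∀ p < n, 0 < mult p)
    (hwt : ∀ p < n, 0 < wt p) :
    Shaped T mult wt E := by
  obtain ⟨l, hl0, hcl⟩ := hl
  have hwpos : 0 < w ∧ ∀ p < n, 0 < wt p := by
    refine ⟨?_, hwt⟩
    have := T.w_pos (v p1)
    rw [hw p1 hp1] at this
    exact pos_of_mul_pos_right this (hwt p1 hp1).le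
  refine ⟨v, T.m (v p1), w, hinj, fun p hp => ?_, hw, fun p hp q hq hpq => ?_, hz⟩
  · have hq : ∀ q < n, (T.m (v q) : ℝ) ^ 2 * (l ^ 2 * w) = C * (mult q : ℝ) ^ 2 := by
      intro q hq
      have hq' := hC q hq
      rw [hcl q hq, mul_pow, mul_pow, r_sq, hw q hq] at hq'
      push_cast at hq'
      have hwq : (wt q : ℝ) ≠ 0 := by exact_mod_cast (hwpos.2 q hq).ne'
      refine mul_right_cancel₀ hwq ?_
      linear_combination hq'
    have h2 := hq p1 hp1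
    rw [h1, Int.cast_one, one_pow, mul_one] at h2
    have h3 := hq p hp
    rw [← h2] at h3
    have hlw : (0 : ℝ) < l ^ 2 * w := mul_pos (pow_pos hl0 2) (by exact_mod_cast hwpos.1)
    have h4 : (T.m (v p) : ℝ) ^ 2 = ((mult p : ℝ) * T.m (v p1)) ^ 2 :=
      mul_right_cancel₀ hlw.ne' (by rw [h3]; ring)
    have h5 : (T.m (v p)) ^ 2 = (mult p * T.m (v p1)) ^ 2 := by exact_mod_cast h4
    exact (pow_left_inj₀ (T.m_pos _).le (mul_nonneg (hmult p hp).le (T.m_pos _).le) two_ne_zero).1 h5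
  · obtain ⟨hne, hnz⟩ := hE (p, q) hpq
    rw [a_eq_max T hn (fun h => hne (hinj hp hq h)) (hv' _) (hv' _) hnz, hw p hp, hw q hq]
    exact (max_mul_of_nonneg _ _ hwpos.1.le).symm

end Groth.Agent.H28NT
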