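import Groth.Agent.H28NT.Classify
import Mathlib.Data.Fintype.EquivFin

/-!
# Reading a shape through a permutation
-/

namespace Groth.Agent.H28NT

open Finset Models Models.NumericalType

/-- intersection numbers of a diagram -/
def AF (wt : ℕ → ℤ) (E : Finset (ℕ × ℕ)) (p q : ℕ) : ℤ :=
  if p = q then -2 * wt p else if (p, q) ∈ E ∨ (q, p) ∈ E then max (wt p) (wt q) else 0

variable {n : ℕ} {T : NumericalType n}

lemma IsShape.a_eq (hv' : ∀ i, T.IsMinusTwo i) {v : ℕ → Fin n} {m w : ℤ} {mult wt : ℕ → ℤ}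
    {E : Finset (ℕ × ℕ)} (h : IsShape T v m w mult wt E) {p q : ℕ} (hp : p < n) (hq : q < n) :
    T.a (v p) (v q) = AF wt E p q * w := by
  unfold AF
  split_ifs with h1 h2
  · subst h1
    rw [(hv' _).2, h.wt_eq p hp]; ring
  · rcases h2 with h2 | h2
    · exact h.edge p hp q hq h2
    · rw [a_comm, h.edge q hq p hp h2, max_comm]
  · simp only [not_or] at h2
    rw [h.zero p hp q hq h1 h2.1 h2.2, zero_mul]

/-- re-indexed shape -/
lemma shape_perm (hv' : ∀ i, T.IsMinusTwo i) {mult wt : ℕ → ℤ} {E : Finset (ℕ × ℕ)}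
    (h : Shaped T mult wt E) (π : Fin n → ℕ) (hπ : ∀ i, π i < n) (hπi : Function.Injective π) :
    ∃ (σ : Equiv.Perm (Fin n)) (m w : ℤ), (∀ i, T.m (σ i) = mult (π i) * m) ∧
      (∀ i, T.w (σ i) = wt (π i) * w) ∧ ∀ i j, T.a (σ i) (σ j) = AF wt E (π i) (π j) * w := by
  obtain ⟨v, m, w, hsh⟩ := h
  have hinj : Function.Injective (fun i => v (π i)) := fun i j e => hπi (hsh.inj (hπ i) (hπ j) e)
  refine ⟨Equiv.ofBijective _ (Finite.injective_iff_bijective.1 hinj), m, w, fun i => ?_, fun i => ?_,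
    fun i j => ?_⟩
  · exact hsh.mult_eq _ (hπ i)
  · exact hsh.wt_eq _ (hπ i)
  · exact hsh.a_eq hv' (hπ i) (hπ j)

lemma e_one {x k w : ℤ} (h : x = k * w) (hk : k = 1) : x = w := by rw [h, hk, one_mul]
lemma e_zero {x k w : ℤ} (h : x = k * w) (hk : k = 0) : x = 0 := by rw [h, hk, zero_mul]
lemma e_k {x k k' w : ℤ} (h : x = k * w) (hk : k = k') : x = k' * w := by rw [h, hk]

end Groth.Agent.H28NT
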