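import Groth.Agent.H28NT.Bound
import Groth.Agent.H28NT.PicContract
import Groth.Agent.H28Alg.TorsionBound
import Mathlib.Algebra.Module.PID
import Mathlib.GroupTheory.FiniteAbelian.Basic

/-!
# Torsion of the Picard group of a numerical type
-/

namespace Groth.Agent.H28NT

open Finset Models Models.NumericalType

variable {n : ℕ}

lemma finite_torsionBy {M : Type} [AddCommGroup M] [Module.Finite ℤ M] {ℓ : ℤ} (h : ℓ ≠ 0) :
    Finite (Submodule.torsionBy ℤ M ℓ) := by
  haveI : Module.Finite ℤ (Submodule.torsionBy ℤ M ℓ) := Module.Finite.of_fg (IsNoetherian.noetherian _)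
  refine Module.finite_of_fg_torsion _ fun {x} => ⟨⟨ℓ, mem_nonZeroDivisors_of_ne_zero h⟩, ?_⟩
  exact Subtype.ext ((Submodule.mem_torsionBy_iff _ _).1 x.2)

lemma card_torsionBy_le {M N : Type} [AddCommGroup M] [AddCommGroup N] [Module.Finite ℤ N] {ℓ : ℤ}
    (h : ℓ ≠ 0) (f : M →ₗ[ℤ] N) (hf : Function.Injective f) :
    Nat.card (Submodule.torsionBy ℤ M ℓ) ≤ Nat.card (Submodule.torsionBy ℤ N ℓ) := by
  haveI := finite_torsionBy (M := N) h
  refine Nat.card_le_card_of_injective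
    (fun x => ⟨f x, (Submodule.mem_torsionBy_iff _ _).2 (by
      rw [← map_smul, (Submodule.mem_torsionBy_iff _ _).1 x.2, map_zero])⟩) ?_
  intro a b hab
  exact Subtype.ext (hf (congrArg Subtype.val hab))

theorem minimal_torsion (T : NumericalType n) (hmin : T.IsMinimal) (hg : 2 ≤ T.genus) (ℓ : ℕ)
    (hℓ : ℓ.Prime) (hℓg : 768 * T.genus < ℓ) :
    Nat.card (Submodule.torsionBy ℤ T.Pic (ℓ : ℤ)) ≤ ℓ ^ T.topGenus.toNat ∧ T.topGenus ≤ T.genus := by
  have hl : (ℓ : ℤ) ≠ 0 := Int.natCast_ne_zero.2 hℓ.ne_zero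
  rcases Nat.lt_or_ge 1 n with hn | hn
  · have hA : ∀ i j, T.a i j ≠ 0 → ¬ ((ℓ : ℤ) ∣ T.a i j) := by
      intro i j h hd
      have h1 := Int.le_of_dvd (abs_pos.2 h) ((dvd_abs _ _).2 hd)
      have h2 := bound768 hmin hg i j
      have := T.m_pos i
      nlinarith [abs_nonneg (T.a i j)]
    have hM : ∀ i, ¬ ((ℓ : ℤ) ∣ T.m i) := by
      intro i hd
      have h1 := Int.le_of_dvd (T.m_pos i) hd
      have h2 := bound768 hmin hg i i
      have h3 : 1 ≤ |T.a i i| := abs_pos.2 (diag_neg T hn i).ne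
      have := T.m_pos i
      nlinarith
    refine ⟨?_, topGenus_le T hn hmin⟩
    refine (card_torsionBy_le hl (picToCoker T) (picToCoker_injective T)).trans ?_
    refine (H28Alg.card_torsion_le T.a T.m T.symm T.offDiag_nonneg T.mulVec_m T.connected ℓ hℓ hA hM).trans ?_
    refine Nat.pow_le_pow_right hℓ.pos ?_
    have := topGenus_nonneg T
    rw [NumericalType.topGenus] at this ⊢
    show T.edgeCount + 1 - n ≤ _
    omega
  · have hn1 : n = 1 := by have := T.pos; omega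
    subst hn1
    obtain ⟨e⟩ := pic_equiv_int_of_one T
    have : Subsingleton (Submodule.torsionBy ℤ T.Pic (ℓ : ℤ)) := by
      refine ⟨fun a b => ?_⟩
      have h0 : ∀ c : Submodule.torsionBy ℤ T.Pic (ℓ : ℤ), (c : T.Pic) = 0 := fun c => by
        have h := congrArg e ((Submodule.mem_torsionBy_iff _ _).1 c.2)
        rw [map_smul, map_zero, smul_eq_mul, mul_eq_zero, or_iff_right hl] at h
        exact (map_eq_zero_iff e e.injective).1 h
      exact Subtype.ext ((h0 a).trans (h0 b).symm)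
    refine ⟨(Finite.card_le_one_iff_subsingleton.2 this).trans (Nat.one_le_pow _ _ hℓ.pos), ?_⟩
    have : T.edgeCount = 0 := by
      rw [NumericalType.edgeCount, Finset.card_eq_zero, Finset.filter_eq_empty_iff]
      rintro ⟨a, b⟩ -
      simp [Subsingleton.elim a b]
    rw [NumericalType.topGenus, this]
    omega

theorem card_torsion_pic_le : ∀ {n : ℕ} (T : NumericalType n) (_ : 2 ≤ T.genus) (ℓ : ℕ) (_ : ℓ.Prime)
    (_ : 768 * T.genus < ℓ), Nat.card (Submodule.torsionBy ℤ T.Pic (ℓ : ℤ)) ≤ ℓ ^ T.genus.toNat ∧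
      (T.IsMinimal → Nat.card (Submodule.torsionBy ℤ T.Pic (ℓ : ℤ)) ≤ ℓ ^ T.topGenus.toNat ∧
        T.topGenus ≤ T.genus) := by
  intro n
  induction n with
  | zero => exact fun T => absurd T.pos (lt_irrefl 0)
  | succ n ih =>
    intro T hg ℓ hℓ hℓg
    refine ⟨?_, fun hmin => minimal_torsion T hmin hg ℓ hℓ hℓg⟩
    by_cases hmin : T.IsMinimal
    · obtain ⟨h1, h2⟩ := minimal_torsion T hmin hg ℓ hℓ hℓg
      exact h1.trans (Nat.pow_le_pow_right hℓ.pos (Int.toNat_le_toNat h2))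
    · obtain ⟨T', f, hgen, hf⟩ := exists_reduction T hmin
      have h := (ih T' (hgen ▸ hg) ℓ hℓ (hgen ▸ hℓg)).1
      rw [hgen] at h
      exact (card_torsionBy_le (Int.natCast_ne_zero.2 hℓ.ne_zero) f hf).trans h

end Groth.Agent.H28NT
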